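import Mathlib

/-!
# Common zeros of quadratic forms over a finite field (helper954)

`exists_common_zero`: bilinear forms `f k`, `k ∈ κ`, on a space of dimension larger than `2 |κ|` over a
finite field have a common non-zero `u` with `f k u u = 0` (Chevalley-Warning).
-/

set_option autoImplicit false

namespace Cfsg.Agent.H954.CWarn

open Module MvPolynomial

theorem exists_common_zero {F U : Type*} [Field F] [Finite F] [AddCommGroup U] [Module F U]
    [FiniteDimensional F U] {κ : Type*} [Fintype κ] (f : κ → LinearMap.BilinForm F U)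
    (h : 2 * Fintype.card κ < finrank F U) : ∃ u : U, u ≠ 0 ∧ ∀ k, f k u u = 0 := by
  classical
  have : Fintype F := Fintype.ofFinite F
  obtain ⟨p, hp⟩ := CharP.exists F
  have hpp : p.Prime := CharP.char_is_prime F p
  have : Fact p.Prime := ⟨hpp⟩
  let b := Module.finBasis F U
  let P : κ → MvPolynomial (Fin (finrank F U)) F := fun k => ∑ i, ∑ j, C (f k (b i) (b j)) * (X i * X j)
  have hdeg : ∀ k, (P k).totalDegree ≤ 2 := by
    intro k
    refine totalDegree_finsetSum_le fun i _ => totalDegree_finsetSum_le fun j _ => ?_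
    refine (totalDegree_mul _ _).trans ?_
    rw [totalDegree_C, zero_add]
    refine (totalDegree_mul _ _).trans ?_
    rw [totalDegree_X, totalDegree_X]
  have heval : ∀ k (x : Fin (finrank F U) → F), eval x (P k) = f k (∑ i, x i • b i) (∑ i, x i • b i) := by
    intro k x
    have h1 : eval x (P k) = ∑ i, ∑ j, f k (b i) (b j) * (x i * x j) := by
      simp only [P, map_sum, map_mul, eval_C, eval_X]
    rw [h1, map_sum (f k), LinearMap.sum_apply]
    refine Finset.sum_congr rfl fun i _ => ?_
    rw [map_sum, map_smul]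
    refine Finset.sum_congr rfl fun j _ => ?_
    rw [map_smul, smul_eq_mul, LinearMap.smul_apply, smul_eq_mul]
    ring
  have hsum : (∑ k, (P k).totalDegree) < Fintype.card (Fin (finrank F U)) := by
    rw [Fintype.card_fin]
    refine lt_of_le_of_lt (Finset.sum_le_sum fun k _ => hdeg k) ?_
    rw [Finset.sum_const, Finset.card_univ, smul_eq_mul, mul_comm]
    exact h
  have hdvd := char_dvd_card_solutions_of_fintype_sum_lt (K := F) p (f := P) hsum
  obtain ⟨x, hx0, hx⟩ : ∃ x : Fin (finrank F U) → F, x ≠ 0 ∧ ∀ k, eval x (P k) = 0 := by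
    by_contra hcon
    push Not at hcon
    have h1 : Fintype.card {x : Fin (finrank F U) → F // ∀ k, eval x (P k) = 0} = 1 := by
      rw [Fintype.card_eq_one_iff]
      refine ⟨⟨0, fun k => by rw [heval]; simp⟩, ?_⟩
      rintro ⟨y, hy⟩
      apply Subtype.ext
      by_contra hy0
      obtain ⟨k, hk⟩ := hcon y hy0
      exact hk (hy k)
    rw [h1] at hdvd
    exact hpp.one_lt.ne' (Nat.dvd_one.1 hdvd)
  refine ⟨∑ i, x i • b i, ?_, fun k => by rw [← heval]; exact hx k⟩
  intro h0
  apply hx0
  funext i
  have := Fintype.linearIndependent_iff.1 b.linearIndependent x h0 i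
  exact this

end Cfsg.Agent.H954.CWarn
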