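import Cfsg.Agent.H954.TSing8

/-!
# Sharp elements and the invariant totally singular subspaces of an arbitrary element (helper954)

`i = ord_r(q)`, `t = (r - 1) / i`.

* `exists_inv_ts_of_even`, `exists_inv_ts_of_odd` : existence for every `T`;
* `exists_sharp`, `exists_sharp_odd` : elements with few invariant totally singular subspaces.
-/

set_option autoImplicit false

namespace Cfsg.Agent.H954.TSing

open Module QuadraticMap Polynomial Cfsg.Agent.LieClassical.OrthCore Cfsg.Agent.H955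

universe u v w

section Sub

variable {F : Type u} [Field F] [Finite F]

/-- nondegenerate subspaces of given even dimension and type -/
theorem exists_sub_type {V : Type v} [AddCommGroup V] [Module F V] [FiniteDimensional F V]
    {Q : QuadraticForm F V} (hQ : Nondeg Q) {n : ℕ} (hn : Even n) (hn0 : 0 < n) (δ : Prop)
    (h : (Even (finrank F V) ∧ (n < finrank F V ∨ (n = finrank F V ∧ (IsPlus Q ↔ δ)))) ∨
      ((2 : F) ≠ 0 ∧ n < finrank F V)) :
    ∃ U : Submodule F V, Nondeg (res Q U) ∧ finrank F U = n ∧ (IsPlus (res Q U) ↔ δ) := by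
  obtain ⟨k, hk⟩ := hn
  rcases h with ⟨hev, h | ⟨h, hδ⟩⟩ | ⟨h2, h⟩
  · obtain ⟨U, hU, hUd, hUP⟩ := exists_subspace hQ hev k (by omega) (by omega) δ
    exact ⟨U, hU, by omega, hUP⟩
  · refine ⟨⊤, ?_, by rw [finrank_top, h], ?_⟩
    · exact nondeg_of_equiv (Submodule.topEquiv (R := F) (M := V)).symm (fun v => rfl) hQ
    · rw [← hδ]
      exact (isPlus_iff_of_equiv (Submodule.topEquiv (R := F) (M := V)).symm (fun v => rfl)).symm
  · obtain ⟨X, _, _, _, R, hR, hRd, hRp⟩ := exists_model (F := F) k (by omega) δ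
    obtain ⟨f, hf, hfQ⟩ := exists_embedding_odd (R := R) h2 _ hQ hR rfl (by omega)
    obtain ⟨h1, h3, h4⟩ := range_props hR hf hfQ
    exact ⟨LinearMap.range f, h1, by omega, by rw [h4, hRp]⟩

end Sub

variable {F : Type u} [Field F] [Fintype F] {r : ℕ} [hrp : Fact r.Prime]
  {V : Type v} [AddCommGroup V] [Module F V] [FiniteDimensional F V] {Q : QuadraticForm F V}

theorem inv_ts_decomp {T : V ≃ₗ[F] V} (hr : (r : F) ≠ 0) (hTr : T ^ r = 1) {W : Submodule F V} (hW : Inv T W)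
    (hWs : TS Q W) : ∃ b, finrank F ↥(W ⊓ comS T) = orderOf (Fintype.card F : ZMod r) * b ∧
      ∃ W₀ ≤ fixS T, TS Q W₀ ∧ finrank F W = orderOf (Fintype.card F : ZMod r) * b + finrank F W₀ := by
  have hx := coe_pow_eq_one hTr
  have hWi : H951.Inv (T : Module.End F V) W := hW
  have h1 := H951.ord_dvd_finrank hx (hWi.inf H951.inv_cm) (H951.inf_fx_of_le_cm hr hx inf_le_right)
  have h2 := H951.finrank_inf_add hr hx hWi
  rw [cm_coe] at h1 h2
  rw [fx_coe] at h2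
  obtain ⟨b, hb⟩ := h1
  exact ⟨b, hb, W ⊓ fixS T, inf_le_right, hWs.mono inf_le_left, by omega⟩

/-- **sharp elements, `i` even** -/
theorem exists_sharp (h2 : 2 < r) (hr : (r : F) ≠ 0) (he : Even (orderOf (Fintype.card F : ZMod r)))
    (hQ : Nondeg Q) {A : ℕ} (hA : 1 ≤ A)
    (h : (Even (finrank F V) ∧ (orderOf (Fintype.card F : ZMod r) * A < finrank F V ∨
        (orderOf (Fintype.card F : ZMod r) * A = finrank F V ∧ (IsPlus Q ↔ Even A)))) ∨
      ((2 : F) ≠ 0 ∧ orderOf (Fintype.card F : ZMod r) * A < finrank F V)) :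
    ∃ T ∈ O Q, T ^ r = 1 ∧ T ≠ 1 ∧ finrank F (comS T) = orderOf (Fintype.card F : ZMod r) * A ∧
      ∀ W : Submodule F V, Inv T W → TS Q W →
        ∃ b ≤ (A + 1 - (r - 1) / orderOf (Fintype.card F : ZMod r)) / 2, ∃ W₀ ≤ fixS T, TS Q W₀ ∧
          finrank F W = orderOf (Fintype.card F : ZMod r) * b + finrank F W₀ := by
  have hi0 := H951.ord_pos (F := F) hr
  have hnd := not_dvd_of_ne (r := r) hr
  have hdvd : orderOf (Fintype.card F : ZMod r) ∣ r - 1 := by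
    have := orderOf_dvd_sub_one hnd
    rwa [Nat.card_eq_fintype_card] at this
  obtain ⟨S, hSc, hS, hSco⟩ := exists_factors (F := F) hr
  set i := orderOf (Fintype.card F : ZMod r) with hi
  have hSn : S.Nonempty := by
    rw [← Finset.card_pos, hSc]
    exact Nat.div_pos (Nat.le_of_dvd (by omega) hdvd) hi0
  have hpos : 0 < i * A := Nat.mul_pos hi0 hA
  obtain ⟨U, hU, hUd, hUP⟩ := exists_sub_type hQ (he.mul_right A) hpos (Even A) h
  obtain ⟨T, hTO, hTr, hTf, -, hTW⟩ := sharp_aux h2 hr he S hSn hS hSco A hU hUd hUP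
  have hcom : comS (ext1 hU T) = U := comS_ext1 hU hTf
  have hTr' : ext1 hU T ^ r = 1 := ext1_pow hU hTr
  refine ⟨ext1 hU T, ext1_mem_O hU hTO, hTr', ?_, by rw [hcom, hUd], fun W hW hWs => ?_⟩
  · intro h1
    have h3 : comS (ext1 hU T) = ⊥ := by
      rw [h1, Submodule.eq_bot_iff]
      intro v hv
      obtain ⟨w, hw⟩ := mem_comS.1 hv
      rw [← hw]
      exact sub_self w
    rw [← hcom, h3, finrank_bot] at hUd
    omega
  · obtain ⟨b, hb, W₀, hW₀, hW₀s, hWd⟩ := inv_ts_decomp hr hTr' hW hWs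
    refine ⟨b, ?_, W₀, hW₀, hW₀s, hWd⟩
    have hle : W ⊓ comS (ext1 hU T) ≤ U := by rw [hcom]; exact inf_le_right
    have h4 := hTW ((W ⊓ comS (ext1 hU T)).comap U.subtype) (fun w hw => by
      have h5 := ext1_left hU T w
      have h6 : ext1 hU T (w : V) ∈ W ⊓ comS (ext1 hU T) := (hW.inf (inv_comS _)) _ hw
      rw [h5] at h6
      exact h6) (fun w hw => hWs _ hw.1)
    rw [(Submodule.comapSubtypeEquivOfLe hle).finrank_eq, hb, hSc] at h4
    exact Nat.le_of_mul_le_mul_left h4 hi0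

/-- **sharp elements, `i` odd** -/
theorem exists_sharp_odd (h2 : 2 < r) (hr : (r : F) ≠ 0) (ho : Odd (orderOf (Fintype.card F : ZMod r)))
    (hQ : Nondeg Q) {A : ℕ} (hA : 1 ≤ A)
    (h : (Even (finrank F V) ∧ (2 * (orderOf (Fintype.card F : ZMod r) * A) < finrank F V ∨
        (2 * (orderOf (Fintype.card F : ZMod r) * A) = finrank F V ∧ IsPlus Q))) ∨
      ((2 : F) ≠ 0 ∧ 2 * (orderOf (Fintype.card F : ZMod r) * A) < finrank F V)) :
    ∃ T ∈ O Q, T ^ r = 1 ∧ T ≠ 1 ∧ finrank F (comS T) = 2 * (orderOf (Fintype.card F : ZMod r) * A) ∧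
      ∀ W : Submodule F V, Inv T W → TS Q W →
        ∃ b, ∃ W₀ ≤ fixS T, TS Q W₀ ∧ finrank F W = orderOf (Fintype.card F : ZMod r) * b + finrank F W₀ := by
  have hi0 := H951.ord_pos (F := F) hr
  have hnd := not_dvd_of_ne (r := r) hr
  set i := orderOf (Fintype.card F : ZMod r) with hi
  have hpos : 0 < 2 * (i * A) := by
    have := Nat.mul_pos hi0 hA
    omega
  obtain ⟨U, hU, hUd, hUP⟩ := exists_sub_type hQ (even_two_mul (i * A)) hpos True (by
    rcases h with ⟨h1, h3 | ⟨h3, h4⟩⟩ | h1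
    · exact Or.inl ⟨h1, Or.inl h3⟩
    · exact Or.inl ⟨h1, Or.inr ⟨h3, iff_of_true h4 trivial⟩⟩
    · exact Or.inr h1)
  obtain ⟨T, hTO, hTr, hTc, -⟩ := exists_comS_eq (Q := Q) (r := r) h2 hnd hU (s := A) (by
    rw [hUd, cc, Nat.card_eq_fintype_card, ← hi, if_neg (Nat.not_even_iff_odd.2 ho), mul_assoc]) (by
    rw [hUP, Nat.card_eq_fintype_card, ← hi]
    exact iff_of_true trivial (Or.inl ho))
  refine ⟨T, hTO, hTr, ?_, by rw [hTc, hUd], fun W hW hWs => ?_⟩
  · intro h1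
    have h3 : comS T = ⊥ := by
      rw [h1, Submodule.eq_bot_iff]
      intro v hv
      obtain ⟨w, hw⟩ := mem_comS.1 hv
      rw [← hw]
      exact sub_self w
    rw [← hTc, h3, finrank_bot] at hUd
    omega
  · obtain ⟨b, -, W₀, hW₀, hW₀s, hWd⟩ := inv_ts_decomp hr hTr hW hWs
    exact ⟨b, W₀, hW₀, hW₀s, hWd⟩

/-- **existence, `i` even** -/
theorem exists_inv_ts_of_even {x : Module.End F V} (h2 : 2 < r) (hr : (r : F) ≠ 0)
    (hQn : Nondeg Q) (hQ : ∀ v, Q (x v) = Q v) (hx : x ^ r = 1) {A : ℕ}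
    (hA : finrank F (H951.cm x) = orderOf (Fintype.card F : ZMod r) * A)
    {W₀ : Submodule F V} (h0 : W₀ ≤ H951.fx x) (h0s : TS Q W₀) {m b w : ℕ}
    (hb : b ≤ (A + 1 - (r - 1) / orderOf (Fintype.card F : ZMod r)) / 2) (hw : w ≤ finrank F W₀)
    (hm : m = orderOf (Fintype.card F : ZMod r) * b + w) :
    ∃ W : Submodule F V, finrank F W = m ∧ TS Q W ∧ H951.Inv x W := by
  have hi0 := H951.ord_pos (F := F) hr
  have hdvd : orderOf (Fintype.card F : ZMod r) ∣ r - 1 := by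
    have := orderOf_dvd_sub_one (not_dvd_of_ne (r := r) (F := F) hr)
    rwa [Nat.card_eq_fintype_card] at this
  obtain ⟨W₁, hW₁, hW₁i, hW₁s, hW₁d⟩ := exists_ts_bound hQ hrp.out h2 hr hx H951.inv_cm
    (nondeg_cm hQn hQ hr hx) (by
      rw [inf_comm]; exact (H951.isCompl_fx_cm hr hx).inf_eq_bot)
  obtain ⟨B, hB⟩ := H951.ord_dvd_finrank hx hW₁i (H951.inf_fx_of_le_cm hr hx hW₁)
  set i := orderOf (Fintype.card F : ZMod r) with hi
  obtain ⟨t, ht⟩ := hdvd
  have ht' : (r - 1) / i = t := by rw [ht]; exact Nat.mul_div_cancel_left t hi0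
  rw [ht'] at hb
  rw [hA, hB, ht] at hW₁d
  have h3 : A ≤ 2 * B + t := by
    have : i * A ≤ i * (2 * B + t) := by rw [mul_add]; linarith
    exact Nat.le_of_mul_le_mul_left this hi0
  obtain ⟨W, hW⟩ := exists_inv_ts hQ hr hx h0 h0s hW₁ hW₁i hW₁s (w := w) (b := b) hw (by
    rw [hB]; exact Nat.mul_le_mul_left i (by omega))
  exact ⟨W, hm ▸ hW.1, hW.2⟩

/-- **existence, `i` odd** -/
theorem exists_inv_ts_of_odd {x : Module.End F V} (h2 : 2 < r) (hr : (r : F) ≠ 0)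
    (ho : Odd (orderOf (Fintype.card F : ZMod r)))
    (hQn : Nondeg Q) (hQ : ∀ v, Q (x v) = Q v) (hx : x ^ r = 1) :
    ∃ A, finrank F (H951.cm x) = 2 * (orderOf (Fintype.card F : ZMod r) * A) ∧ IsPlus (res Q (H951.cm x)) ∧
    ∀ {W₀ : Submodule F V} (_ : W₀ ≤ H951.fx x) (_ : TS Q W₀) {m b w : ℕ}
    (_ : b ≤ A) (_ : w ≤ finrank F W₀)
    (_ : m = orderOf (Fintype.card F : ZMod r) * b + w),
    ∃ W : Submodule F V, finrank F W = m ∧ TS Q W ∧ H951.Inv x W := by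
  obtain ⟨W₁, hW₁, hW₁i, hW₁s, hW₁d⟩ := exists_ts_half hQ hrp h2 hr hx H951.inv_cm
    (nondeg_cm hQn hQ hr hx) (by
      rw [inf_comm]; exact (H951.isCompl_fx_cm hr hx).inf_eq_bot) ho
  obtain ⟨B, hB⟩ := H951.ord_dvd_finrank hx hW₁i (H951.inf_fx_of_le_cm hr hx hW₁)
  refine ⟨B, by rw [hW₁d, hB], ?_, fun h0 h0s m b w hb hw hm => ?_⟩
  · refine isPlus_of_le (nondeg_cm hQn hQ hr hx) (U := W₁.comap (H951.cm x).subtype) (fun u hu => hW₁s _ hu) ?_
    rw [(Submodule.comapSubtypeEquivOfLe hW₁).finrank_eq]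
    omega
  · obtain ⟨W, hW⟩ := exists_inv_ts hQ hr hx h0 h0s hW₁ hW₁i hW₁s (w := w) (b := b) hw (by
      rw [hB]; exact Nat.mul_le_mul_left _ hb)
    exact ⟨W, hm ▸ hW.1, hW.2⟩

end Cfsg.Agent.H954.TSing
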