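import Cfsg.Agent.H98.Ore.Defs
import Cfsg.Agent.H951.OreU.T7a

/-!
# S2446, task T7b: a good first step (helper954)
-/

set_option autoImplicit false

namespace Cfsg.Agent.H954.OreB

open Module Cfsg.Agent.H951 Cfsg.Agent.H98.Ore Cfsg.Agent.LieClassical.HermBasic

variable {F V : Type*} [Field F] [Fintype F] [AddCommGroup V] [Module F V]
  {q : ℕ} {σ : F →+* F} {B : V → V → F}

omit [Fintype F] in
/-- A quadratic polynomial with three roots has linear coefficient zero. -/
theorem quad (T : Finset F) (hT : 3 ≤ T.card) {x y z : F} (h : ∀ u ∈ T, y * u ^ 2 + z * u + x = 0) : z = 0 := by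
  obtain ⟨a, b, c, ha, hb, hc, hab, hac, hbc⟩ := Finset.two_lt_card_iff.1 hT
  have h1 := h a ha
  have h2 := h b hb
  have h3 := h c hc
  have h4 : y * (a + b) + z = 0 := by
    have : (a - b) * (y * (a + b) + z) = 0 := by linear_combination h1 - h2
    exact (mul_eq_zero.1 this).resolve_left (sub_ne_zero.2 hab)
  have h5 : y * (a + c) + z = 0 := by
    have : (a - c) * (y * (a + c) + z) = 0 := by linear_combination h1 - h3
    exact (mul_eq_zero.1 this).resolve_left (sub_ne_zero.2 hac)
  have h6 : y = 0 := by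
    have : (b - c) * y = 0 := by linear_combination h4 - h5
    exact (mul_eq_zero.1 this).resolve_left (sub_ne_zero.2 hbc)
  rw [h6, zero_mul, zero_add] at h4
  exact h4

/-- The elements of norm `r`. -/
noncomputable def norms [DecidableEq F] (q : ℕ) (r : F) : Finset F := Finset.univ.filter fun x => x * x ^ q = r

theorem mem_norms [DecidableEq F] {r x : F} : x ∈ norms q r ↔ x * x ^ q = r := by
  simp [norms]

theorem card_norms [DecidableEq F] (hF : Fintype.card F = q ^ 2) {r : F} (hr : r ^ q = r) (h0 : r ≠ 0) :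
    (norms q r).card = q + 1 := by
  rw [← card_norm_eq hF hr h0, norms, ← Fintype.card_subtype, Nat.card_eq_fintype_card]

omit [Fintype F] in
theorem expand (hB : Frm σ 1 B) (N : End F V) {e w v : V} (h1 : N e = 0) (h2 : ∀ u, B (N u) e = 0) (a d : F) :
    B (N (w + a • v + d • e)) (w + a • v + d • e) =
      B (N w) w + σ a * B (N w) v + a * B (N v) w + a * σ a * B (N v) v := by
  have h3 : N (w + a • v + d • e) = N (w + a • v) := by
    rw [map_add _ _ (d • e), map_smul, h1, smul_zero, add_zero]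
  rw [h3, hB.add_right, hB.smul_right, h2, mul_zero, add_zero, map_add, map_smul, hB.add_left,
    hB.smul_left, hB.add_right, hB.add_right, hB.smul_right, hB.smul_right]
  ring

omit [Fintype F] [AddCommGroup V] [Module F V] in
/-- `B (N (w + a v)) (w + a v) = 0` for three `a` of norm `r` implies `B (N w) w + r B (N v) v = 0`. -/
theorem norm_trick (N : V → V) {w v : V} {r : F}
    (T : Finset F) (hT : 3 ≤ T.card) (hr : ∀ a ∈ T, a * σ a = r)
    (h : ∀ a ∈ T, B (N w) w + σ a * B (N w) v + a * B (N v) w + a * σ a * B (N v) v = 0) :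
    B (N w) w + r * B (N v) v = 0 := by
  refine quad T hT (x := r * B (N w) v) (y := B (N v) w) fun a ha => ?_
  have h1 := h a ha
  have h2 := hr a ha
  rw [h2] at h1
  linear_combination a * h1 - B (N w) v * h2

theorem herm' (hB : HS q σ B) (u v : V) : B v u = σ (B u v) := by
  rw [hB.frm.herm u v, one_mul]

/-- A subspace consisting of isotropic vectors is totally isotropic. -/
theorem ti_of_iso (hB : HS q σ B) {W : Submodule F V} (h : ∀ v ∈ W, B v v = 0) : TI B W := by
  intro u hu v hv
  refine eq_zero_of_forall_trace hB.card fun c => ?_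
  have h1 := h (c • u + v) (W.add_mem (W.smul_mem c hu) hv)
  rw [hB.frm.add_right, hB.frm.smul_right, hB.frm.add_left, hB.frm.add_left, hB.frm.smul_left, hB.frm.smul_left,
    h u hu, h v hv, herm' hB u v] at h1
  rw [← hB.sig, map_mul]
  linear_combination h1

theorem self_fixed (hB : HS q σ B) (v : V) : (B v v) ^ q = B v v := by
  have := herm' hB v v
  rw [hB.sig] at this
  exact this.symm

theorem nd_top (hB : HS q σ B) : Nd B (⊤ : Submodule F V) := by
  intro u _ hu
  by_contra h
  push Not at h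
  exact hu (hB.nd u fun v => h v trivial)

omit [Fintype F] in
theorem finrank_span_le_one (x : V) : finrank F (F ∙ x) ≤ 1 := by
  classical
  have := finrank_span_finset_le_card (R := F) ({x} : Finset V)
  rwa [Finset.coe_singleton, Finset.card_singleton] at this

variable [FiniteDimensional F V]

/-- An anisotropic vector orthogonal to `e` (anisotropic) and `w`. -/
theorem exists_aniso (hB : HS q σ B) (hn : 4 ≤ finrank F V) {e w : V} (hee : B e e ≠ 0) :
    ∃ v : V, B v w = 0 ∧ B v e = 0 ∧ B v v ≠ 0 := by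
  classical
  by_contra hcon
  push Not at hcon
  have hnd : Nd B (F ∙ e) := by
    intro u hu hu0
    obtain ⟨a, rfl⟩ := Submodule.mem_span_singleton.1 hu
    refine ⟨e, Submodule.mem_span_singleton_self e, ?_⟩
    rw [hB.frm.smul_left]
    refine mul_ne_zero ?_ hee
    rintro rfl
    exact hu0 (zero_smul _ _)
  have he0 : e ≠ 0 := by
    rintro rfl
    exact hee (hB.frm.zero_left _)
  have h1 := hB.frm.finrank_perp_inf hnd (le_top : (F ∙ e) ≤ ⊤)
  have h2 := hB.frm.nd_perp_inf (nd_top hB) hnd le_top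
  rw [inf_top_eq] at h1 h2
  rw [finrank_span_singleton he0, finrank_top] at h1
  have h3 := hB.frm.finrank_add_perp_ge (Submodule.span F ((({e, w} : Finset V) : Set V)))
  have h4 : finrank F (Submodule.span F ((({e, w} : Finset V) : Set V))) ≤ 2 :=
    (finrank_span_finset_le_card (R := F) ({e, w} : Finset V)).trans Finset.card_le_two
  have hle : hB.frm.perp (Submodule.span F ((({e, w} : Finset V) : Set V))) ≤ hB.frm.perp (F ∙ e) := by
    apply hB.frm.perp_anti
    rw [Submodule.span_singleton_le_iff_mem]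
    exact Submodule.subset_span (by simp)
  have hti : TI B (hB.frm.perp (Submodule.span F ((({e, w} : Finset V) : Set V)))) := by
    refine ti_of_iso hB fun v hv => hcon v ?_ ?_
    · exact hv w (Submodule.subset_span (by simp))
    · exact hv e (Submodule.subset_span (by simp))
  have h5 := hB.frm.two_mul_finrank_le h2 hle hti
  omega

omit [FiniteDimensional F V] in
/-- If `e ≠ 0` is orthogonal to all vectors orthogonal to `w`, then `e` is a multiple of `w`. -/
theorem exists_not_orth (hB : HS q σ B) {e w : V} (hew : ∀ t : F, e ≠ t • w) : ∃ f : V, B f w = 0 ∧ B f e ≠ 0 := by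
  by_contra hcon
  push Not at hcon
  have hw : w ≠ 0 := by
    rintro rfl
    apply hew 0
    rw [zero_smul]
    apply hB.nd
    intro v
    rw [hB.frm.eq_zero_comm]
    exact hcon v (hB.frm.zero_right _)
  obtain ⟨f, hf⟩ : ∃ f, B w f ≠ 0 := by
    by_contra h
    push Not at h
    exact hw (hB.nd w h)
  have hf' : B f w ≠ 0 := fun h => hf (hB.frm.eq_zero_comm.1 h)
  apply hew (σ (B f e / B f w))
  rw [← sub_eq_zero]
  apply hB.nd
  intro v
  rw [hB.frm.eq_zero_comm, hB.frm.sub_right, hB.frm.smul_right, hB.frm.sigma_sq]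
  have h1 := hcon (v - (B v w / B f w) • f) (by
    rw [hB.frm.sub_left, hB.frm.smul_left, div_mul_cancel₀ _ hf', sub_self])
  rw [hB.frm.sub_left, hB.frm.smul_left] at h1
  linear_combination h1

/-- The key construction: for orthogonal `e ≠ 0` and isotropic `w` there is `v ∈ w^⊥` such that `v + ⟨e⟩` and all
`w + a v + ⟨e⟩`, `a ≠ 0`, contain isotropic vectors which are not orthogonal to `e`. -/
theorem key (hB : HS q σ B) (hn : 4 ≤ finrank F V) {e w : V} (hew : ∀ t : F, e ≠ t • w) (hw : B w w = 0)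
    (hwe : B w e = 0) :
    ∃ v : V, (∃ d : F, B (v + d • e) (v + d • e) = 0 ∧ B (v + d • e) e ≠ 0) ∧
      ∀ a : F, a ≠ 0 → ∃ d : F, B (w + a • v + d • e) (w + a • v + d • e) = 0 ∧ B (w + a • v + d • e) e ≠ 0 := by
  have hew' : B e w = 0 := hB.frm.eq_zero_comm.1 hwe
  by_cases hee : B e e = 0
  · obtain ⟨f, hf, hfe⟩ := exists_not_orth hB hew
    have hfix : (-B f f) ^ q = -B f f := by rw [neg_pow_q hB.card, self_fixed hB]
    obtain ⟨s, hs⟩ := exists_trace_eq hB.card hfix
    have hef : B e f = σ (B f e) := herm' hB f e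
    have hσ : σ (B f e) ≠ 0 := by rwa [Ne, map_eq_zero]
    -- `v = f + t e` with `σ t * B f e = σ s`
    obtain ⟨t, ht⟩ : ∃ t : F, t = s / σ (B f e) := ⟨_, rfl⟩
    have ht1 : t * B e f = s := by rw [hef, ht, div_mul_cancel₀ _ hσ]
    have ht2 : σ t * B f e = σ s := by
      rw [← ht1, map_mul, hef, hB.frm.sigma_sq]
    have hvv : B (f + t • e) (f + t • e) = 0 := by
      rw [hB.frm.add_right, hB.frm.smul_right, hB.frm.add_left, hB.frm.add_left, hB.frm.smul_left,
        hB.frm.smul_left, hee]
      rw [← hB.sig] at hs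
      linear_combination ht1 + ht2 + hs
    have hvw : B (f + t • e) w = 0 := by
      rw [hB.frm.add_left, hB.frm.smul_left, hf, hew', mul_zero, add_zero]
    have hve : B (f + t • e) e = B f e := by
      rw [hB.frm.add_left, hB.frm.smul_left, hee, mul_zero, add_zero]
    refine ⟨f + t • e, ⟨0, ?_, ?_⟩, fun a ha => ⟨0, ?_, ?_⟩⟩
    · rw [zero_smul, add_zero]; exact hvv
    · rw [zero_smul, add_zero, hve]; exact hfe
    · rw [zero_smul, add_zero, hB.frm.add_right, hB.frm.smul_right, hB.frm.add_left, hB.frm.add_left,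
        hB.frm.smul_left, hB.frm.smul_left, hw, hvv, hvw, hB.frm.eq_zero_comm.1 hvw]
      ring
    · rw [zero_smul, add_zero, hB.frm.add_left, hB.frm.smul_left, hwe, zero_add, hve]
      exact mul_ne_zero ha hfe
  · obtain ⟨v, hvw, hve, hvv⟩ := exists_aniso hB hn (w := w) hee
    have hev := hB.frm.eq_zero_comm.1 hve
    have hwv := hB.frm.eq_zero_comm.1 hvw
    have hN : ∀ a : F, a ≠ 0 → ∃ d : F, d ≠ 0 ∧ a * σ a * B v v + d * σ d * B e e = 0 := by
      intro a ha
      have h1 : (-(a * a ^ q * B v v / B e e)) ^ q = -(a * a ^ q * B v v / B e e) := by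
        rw [neg_pow_q hB.card, div_pow, mul_pow, norm_pow_q hB.card, self_fixed hB, self_fixed hB]
      have h2 : -(a * a ^ q * B v v / B e e) ≠ 0 :=
        neg_ne_zero.2 (div_ne_zero (mul_ne_zero (mul_ne_zero ha (pow_ne_zero _ ha)) hvv) hee)
      obtain ⟨d, hd, hd'⟩ := exists_norm_eq_ne hB.card h1 h2
      refine ⟨d, hd, ?_⟩
      rw [hB.sig, hB.sig, hd']
      field_simp
      ring
    refine ⟨v, ?_, fun a ha => ?_⟩
    · obtain ⟨d, hd, hd'⟩ := hN 1 one_ne_zero
      refine ⟨d, ?_, ?_⟩
      · rw [hB.frm.add_right, hB.frm.smul_right, hB.frm.add_left, hB.frm.add_left,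
          hB.frm.smul_left, hB.frm.smul_left, hve, hev]
        rw [map_one] at hd'
        linear_combination hd'
      · rw [hB.frm.add_left, hB.frm.smul_left, hve, zero_add]
        exact mul_ne_zero hd hee
    · obtain ⟨d, hd, hd'⟩ := hN a ha
      refine ⟨d, ?_, ?_⟩
      · rw [hB.frm.add_right, hB.frm.add_right, hB.frm.smul_right, hB.frm.smul_right, hB.frm.add_left, hB.frm.add_left,
          hB.frm.add_left, hB.frm.add_left, hB.frm.add_left, hB.frm.add_left,
          hB.frm.smul_left, hB.frm.smul_left, hB.frm.smul_left, hB.frm.smul_left, hB.frm.smul_left, hB.frm.smul_left,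
          hve, hev, hw, hwe, hew', hwv, hvw]
        linear_combination hd'
      · rw [hB.frm.add_left, hB.frm.add_left, hB.frm.smul_left, hB.frm.smul_left, hve, hwe]
        rw [mul_zero, add_zero, zero_add]
        exact mul_ne_zero hd hee

omit [Fintype F] [FiniteDimensional F V] in
theorem N_e {g : End F V} {c : F} {e : V} (he : g e = c • e) : (g - c • (1 : End F V)) e = 0 := by
  rw [LinearMap.sub_apply, LinearMap.smul_apply, Module.End.one_apply, he, sub_self]

omit [FiniteDimensional F V] in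
theorem g_orth (hB : HS q σ B) {g : End F V} (hg : Isom B g) {c : F} (hc : c * σ c = 1) {e : V} (he : g e = c • e)
    (u : V) : B (g u) e = c * B u e := by
  have h1 := hg u e
  rw [he, hB.frm.smul_right] at h1
  linear_combination c * h1 - B (g u) e * hc

omit [FiniteDimensional F V] in
theorem N_orth (hB : HS q σ B) {g : End F V} (hg : Isom B g) {c : F} (hc : c * σ c = 1) {e : V} (he : g e = c • e)
    (u : V) : B ((g - c • (1 : End F V)) u) e = 0 := by
  rw [LinearMap.sub_apply, LinearMap.smul_apply, Module.End.one_apply, hB.frm.sub_left, hB.frm.smul_left,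
    g_orth hB hg hc he, sub_self]

omit [FiniteDimensional F V] in
theorem N_iso (hB : HS q σ B) (g : End F V) (c : F) {y : V} (hy : B y y = 0) :
    B ((g - c • (1 : End F V)) y) y = B (g y) y := by
  rw [LinearMap.sub_apply, LinearMap.smul_apply, Module.End.one_apply, hB.frm.sub_left, hB.frm.smul_left, hy,
    mul_zero, sub_zero]

omit [FiniteDimensional F V] in
theorem not_mul (hB : HS q σ B) {g : End F V} {c : F} {e : V} (he0 : e ≠ 0) (he : g e = c • e)
    {w : V} (hw : B w w = 0) (hw' : B (g w) w ≠ 0) (t : F) : e ≠ t • w := by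
  rintro rfl
  have ht : t ≠ 0 := by
    rintro rfl
    exact he0 (zero_smul _ _)
  rw [map_smul, smul_comm] at he
  have h1 := smul_right_injective V ht he
  apply hw'
  rw [h1, hB.frm.smul_left, hw, mul_zero]

/-- An eigenvector `e` is not orthogonal to all vectors of type I. -/
theorem lemmaY (hB : HS q σ B) (hn : 4 ≤ finrank F V) {g : End F V} (hg : Isom B g) {c : F} (hc : c * σ c = 1) {e : V}
    (he0 : e ≠ 0) (he : g e = c • e) {w : V} (hw : B w w = 0) (hw' : B (g w) w ≠ 0) :
    ∃ x, B x x = 0 ∧ B (g x) x ≠ 0 ∧ B x e ≠ 0 := by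
  classical
  by_cases hwe : B w e = 0
  swap
  · exact ⟨w, hw, hw', hwe⟩
  obtain ⟨v, ⟨d, hd, hd'⟩, h⟩ := key hB hn (not_mul hB he0 he hw hw') hw hwe
  by_contra hcon
  push Not at hcon
  have hcon' : ∀ x, B x x = 0 → B x e ≠ 0 → B (g x) x = 0 := fun x hx hxe => by
    by_contra hx'
    exact hxe (hcon x hx hx')
  have hv : B ((g - c • (1 : End F V)) v) v = 0 := by
    have h1 := hcon' _ hd hd'
    rw [← N_iso hB g c hd, map_add, map_smul, N_e he, smul_zero, add_zero, hB.frm.add_right, hB.frm.smul_right,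
      N_orth hB hg hc he, mul_zero, add_zero] at h1
    exact h1
  have h1 := norm_trick (B := B) (σ := σ) (fun x => (g - c • (1 : End F V)) x) (w := w) (v := v) (r := 1)
    (norms q (1 : F)) (by
      rw [card_norms hB.card (one_pow _) one_ne_zero]
      have := two_le hB.card
      omega) (fun a ha => by rw [hB.sig]; exact mem_norms.1 ha) fun a ha => by
      have ha0 : a ≠ 0 := by
        rintro rfl
        have := mem_norms.1 ha
        rw [zero_mul] at this
        exact zero_ne_one this
      obtain ⟨d, hd, hd'⟩ := h a ha0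
      have h1 := hcon' _ hd hd'
      rw [← N_iso hB g c hd, expand hB.frm _ (N_e he) (N_orth hB hg hc he)] at h1
      exact h1
  rw [hv, mul_zero, add_zero, N_iso hB g c hw] at h1
  exact hw' h1

/-- Two orthogonal eigenvectors, odd characteristic: there is a vector of type I which is orthogonal to none of them. -/
theorem lemmaYY (hB : HS q σ B) (hn : 4 ≤ finrank F V) {g : End F V} (hg : Isom B g) {c' : F}
    (hc' : c' * σ c' = 1) {e₁ e₂ : V} (he0 : e₂ ≠ 0) (he₂ : g e₂ = c' • e₂)
    (h21 : B e₂ e₁ = 0) (h2 : (2 : F) ≠ 0) {w : V} (hw : B w w = 0) (hw' : B (g w) w ≠ 0) (hwe : B w e₁ ≠ 0) :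
    ∃ x, B x x = 0 ∧ B (g x) x ≠ 0 ∧ B x e₁ ≠ 0 ∧ B x e₂ ≠ 0 := by
  classical
  by_cases hwe2 : B w e₂ = 0
  swap
  · exact ⟨w, hw, hw', hwe, hwe2⟩
  obtain ⟨v, -, h⟩ := key hB hn (not_mul hB he0 he₂ hw hw') hw hwe2
  by_contra hcon
  push Not at hcon
  have hcon' : ∀ x, B x x = 0 → B x e₁ ≠ 0 → B x e₂ ≠ 0 → B (g x) x = 0 := fun x hx hx1 hx2 => by
    by_contra hx'
    exact hx2 (hcon x hx hx' hx1)
  have hq : 3 ≤ q := by
    have h3 := two_le hB.card
    by_contra h4
    have h5 : q = 2 := by omega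
    have h6 : ((Fintype.card F : ℕ) : F) = 0 := Nat.cast_card_eq_zero F
    rw [hB.card, h5] at h6
    have h7 : (2 : F) * 2 = 0 := by
      have : ((2 ^ 2 : ℕ) : F) = 2 * 2 := by norm_num
      rw [← this]
      exact h6
    exact h2 (mul_self_eq_zero.1 h7)
  have main : ∀ r : F, r ^ q = r → r ≠ 0 →
      B ((g - c' • (1 : End F V)) w) w + r * B ((g - c' • (1 : End F V)) v) v = 0 := by
    intro r hr hr0
    refine norm_trick (B := B) (σ := σ) (fun x => (g - c' • (1 : End F V)) x) (w := w) (v := v) (r := r)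
      ((norms q r).filter fun a => B w e₁ + a * B v e₁ ≠ 0) ?_
      (fun a ha => by rw [hB.sig]; exact mem_norms.1 (Finset.mem_filter.1 ha).1) fun a ha => ?_
    · have h3 := Finset.card_filter_add_card_filter_not (s := norms q r) (fun a => B w e₁ + a * B v e₁ ≠ 0)
      have h4 : ((norms q r).filter fun a => ¬ (B w e₁ + a * B v e₁ ≠ 0)).card ≤ 1 := by
        rw [Finset.card_le_one]
        intro a ha b hb
        have ha' := not_not.1 (Finset.mem_filter.1 ha).2
        have hb' := not_not.1 (Finset.mem_filter.1 hb).2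
        have hv : B v e₁ ≠ 0 := by
          intro h0
          rw [h0, mul_zero, add_zero] at ha'
          exact hwe ha'
        apply mul_right_cancel₀ hv
        linear_combination ha' - hb'
      rw [card_norms hB.card hr hr0] at h3
      omega
    · obtain ⟨ha1, ha2⟩ := Finset.mem_filter.1 ha
      have ha0 : a ≠ 0 := by
        rintro rfl
        have := mem_norms.1 ha1
        rw [zero_mul] at this
        exact hr0 this.symm
      obtain ⟨d, hd, hd'⟩ := h a ha0
      have h1 := hcon' _ hd (by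
        rw [hB.frm.add_left, hB.frm.add_left, hB.frm.smul_left, hB.frm.smul_left, h21, mul_zero, add_zero]
        exact ha2) hd'
      rw [← N_iso hB g c' hd, expand hB.frm _ (N_e he₂) (N_orth hB hg hc' he₂)] at h1
      exact h1
  have h3 := main 1 (one_pow _) one_ne_zero
  have h4 := main (-1) (by rw [neg_pow_q hB.card, one_pow]) (neg_ne_zero.2 one_ne_zero)
  rw [N_iso hB g c' hw] at h3 h4
  have h5 : 2 * B (g w) w = 0 := by linear_combination h3 + h4
  exact hw' ((mul_eq_zero.1 h5).resolve_left h2)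

variable {g : End F V} {w : V} {U : Submodule F V} {g₁ : End F U} {b : U → F} {c : F}

omit [Fintype F] in
/-- (2) if `g₁` is a scalar then it is an eigenvalue of `g` with a large eigenspace. -/
theorem ker_large (h : Step B g w U g₁ b) (hc : g₁ = c • (1 : End F U)) :
    finrank F U ≤ finrank F (LinearMap.ker (g - c • (1 : End F V))) + 1 := by
  have h1 := LinearMap.finrank_range_add_finrank_ker ((g - c • (1 : End F V)).domRestrict U)
  have h2 : finrank F (LinearMap.range ((g - c • (1 : End F V)).domRestrict U)) ≤ 1 := by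
    have : LinearMap.range ((g - c • (1 : End F V)).domRestrict U) ≤ F ∙ (g w) := by
      rintro _ ⟨v, rfl⟩
      rw [LinearMap.domRestrict_apply, LinearMap.sub_apply, LinearMap.smul_apply, Module.End.one_apply, h.eq, hc]
      rw [LinearMap.smul_apply, Module.End.one_apply, Submodule.coe_smul, add_sub_cancel_left]
      exact Submodule.smul_mem _ _ (Submodule.mem_span_singleton_self _)
    exact (Submodule.finrank_mono this).trans (finrank_span_le_one _)
  have h3 : finrank F (LinearMap.ker ((g - c • (1 : End F V)).domRestrict U)) ≤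
      finrank F (LinearMap.ker (g - c • (1 : End F V))) := by
    rw [← Submodule.finrank_map_subtype_eq U]
    apply Submodule.finrank_mono
    rintro _ ⟨v, hv, rfl⟩
    exact hv
  omega

/-- (1') if `w` is not orthogonal to an eigenvector with eigenvalue `c` then `g₁ ≠ c`. -/
theorem ne_scalar (hB : HS q σ B) (hg : Isom B g) (h : Step B g w U g₁ b) (hU : finrank F U + 2 = finrank F V)
    (hr : 2 ≤ finrank F (LinearMap.range (g - c • (1 : End F V)))) (hc : c * σ c = 1) {e : V} (he : g e = c • e)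
    (hwe : B w e ≠ 0) : g₁ ≠ c • (1 : End F U) := by
  intro h1
  have hc0 : c ≠ 0 := left_ne_zero_of_mul_eq_one hc
  have h2 : U ≤ LinearMap.ker (g - c • (1 : End F V)) := by
    intro v hv
    have h3 := h.eq ⟨v, hv⟩
    rw [h1, LinearMap.smul_apply, Module.End.one_apply, Submodule.coe_smul] at h3
    have h4 : (g - c • (1 : End F V)) v = b ⟨v, hv⟩ • g w := by
      rw [LinearMap.sub_apply, LinearMap.smul_apply, Module.End.one_apply]
      rw [sub_eq_iff_eq_add, add_comm]
      exact h3
    have h5 := N_orth hB hg hc he v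
    rw [h4, hB.frm.smul_left, g_orth hB hg hc he] at h5
    have h6 := (mul_eq_zero.1 h5).resolve_right (mul_ne_zero hc0 hwe)
    rw [LinearMap.mem_ker, h4, h6, zero_smul]
  have h3 : U < LinearMap.ker (g - c • (1 : End F V)) := by
    refine lt_of_le_of_ne h2 ?_
    intro h4
    have h5 : e ∈ U := by rw [h4]; exact N_e he
    exact hwe (hB.frm.eq_zero_comm.1 ((h.mem e).1 h5).1)
  have h4 := Submodule.finrank_lt_finrank_of_lt h3
  have h5 := LinearMap.finrank_range_add_finrank_ker (g - c • (1 : End F V))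
  omega

omit [FiniteDimensional F V] in
/-- (1b) if `w` is not orthogonal to an eigenvector with eigenvalue `c`, the eigenspace has dimension at least 2 and
`g₁` is scalar then `g₁ = c`. -/
theorem eq_of_scalar (hB : HS q σ B) (hg : Isom B g) (h : Step B g w U g₁ b)
    (hk : 2 ≤ finrank F (LinearMap.ker (g - c • (1 : End F V)))) (hc : c * σ c = 1) {e : V} (he : g e = c • e)
    (hwe : B w e ≠ 0) {c' : F} (h1 : g₁ = c' • (1 : End F U)) : c' = c := by
  have hc0 : c ≠ 0 := left_ne_zero_of_mul_eq_one hc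
  have hew : B e w ≠ 0 := fun h => hwe (hB.frm.eq_zero_comm.1 h)
  -- an eigenvector in `U`
  obtain ⟨f, hf, hfe⟩ : ∃ f ∈ LinearMap.ker (g - c • (1 : End F V)), f ∉ F ∙ e := by
    by_contra hcon
    push Not at hcon
    have h2 : LinearMap.ker (g - c • (1 : End F V)) ≤ F ∙ e := hcon
    have h3 := (Submodule.finrank_mono h2).trans (finrank_span_le_one e)
    omega
  have hgf : g f = c • f := by
    rw [LinearMap.mem_ker, LinearMap.sub_apply, LinearMap.smul_apply, Module.End.one_apply, sub_eq_zero] at hf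
    exact hf
  obtain ⟨u, hu⟩ : ∃ u, u = f - (B f w / B e w) • e := ⟨_, rfl⟩
  have hgu : g u = c • u := by rw [hu, map_sub, map_smul, hgf, he, smul_sub, smul_comm]
  have hu0 : u ≠ 0 := by
    rw [hu]
    intro h0
    apply hfe
    rw [sub_eq_zero] at h0
    rw [h0]
    exact Submodule.smul_mem _ _ (Submodule.mem_span_singleton_self _)
  have huw : B u w = 0 := by
    rw [hu, hB.frm.sub_left, hB.frm.smul_left, div_mul_cancel₀ _ hew, sub_self]
  have huU : u ∈ U := by
    rw [h.mem]
    refine ⟨huw, ?_⟩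
    rw [hB.frm.eq_zero_comm, g_orth hB hg hc hgu, hB.frm.eq_zero_comm.1 huw, mul_zero]
  have h3 := h.eq ⟨u, huU⟩
  rw [h1, LinearMap.smul_apply, Module.End.one_apply, Submodule.coe_smul] at h3
  rw [hgu] at h3
  have h4 := congrArg (fun x => B x w) h3
  simp only at h4
  rw [hB.frm.smul_left, hB.frm.add_left, hB.frm.smul_left, hB.frm.smul_left, huw, mul_zero, mul_zero, zero_add] at h4
  have h5 := (mul_eq_zero.1 h4.symm).resolve_right h.ne
  rw [h5, zero_smul, add_zero] at h3
  exact (smul_left_injective F hu0 h3).symm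

/-- The scalar `g₁` has norm one. -/
theorem norm_scalar (hB : HS q σ B) (hg : Isom B g) (hn : 4 ≤ finrank F V) (h : Step B g w U g₁ b)
    (h1 : g₁ = c • (1 : End F U)) : c * σ c = 1 := by
  obtain ⟨hU, hd⟩ := Cfsg.Agent.H951.OreU.Step.hs hB hg h
  have h2 : 0 < finrank F U := by omega
  obtain ⟨u, hu⟩ := Module.finrank_pos_iff_exists_ne_zero.1 h2
  obtain ⟨v, hv⟩ : ∃ v : U, res B U u v ≠ 0 := by
    by_contra hcon
    push Not at hcon
    exact hu (hU.nd u hcon)
  have h3 := h.isom u v
  rw [h1, LinearMap.smul_apply, LinearMap.smul_apply, Module.End.one_apply, Module.End.one_apply,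
    hU.frm.smul_left, hU.frm.smul_right] at h3
  apply mul_right_cancel₀ hv
  rw [one_mul, mul_assoc]
  exact h3

/-- **T7b**: a good first step. -/
theorem exists_good_step (hB : HS q σ B) {g : End F V} (hg : Isom B g) (_hdet : LinearMap.det g = 1)
    (hn : 4 ≤ finrank F V) (hr : ∀ c : F, 2 ≤ finrank F (LinearMap.range (g - c • (1 : End F V)))) :
    ∃ (w : V) (U : Submodule F V) (g₁ : End F U) (b : U → F), Step B g w U g₁ b ∧
      ((∀ c : F, g₁ ≠ c • (1 : End F U)) ∨ (finrank F V = 4 ∧ ∃ c : F, g₁ = c • (1 : End F U) ∧ c ^ 2 ≠ 1)) := by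
  by_contra hcon
  push Not at hcon
  -- every step is scalar
  have hsc : ∀ (w : V) (U : Submodule F V) (g₁ : End F U) (b : U → F), Step B g w U g₁ b →
      ∃ c : F, g₁ = c • (1 : End F U) ∧ (finrank F V = 4 → c ^ 2 = 1) := by
    intro w U g₁ b h
    obtain ⟨⟨c, hc⟩, h2⟩ := hcon w U g₁ b h
    exact ⟨c, hc, fun h4 => h2 h4 c hc⟩
  have hns : ∀ c : F, g ≠ c • (1 : End F V) := by
    rintro c rfl
    have := hr c
    rw [sub_self, LinearMap.range_zero, finrank_bot] at this
    omega
  have hker : ∀ c : F, finrank F (LinearMap.ker (g - c • (1 : End F V))) ≥ 1 → ∃ e : V, e ≠ 0 ∧ g e = c • e := by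
    intro c hc
    obtain ⟨⟨e, he⟩, he0⟩ := Module.finrank_pos_iff_exists_ne_zero.1
      (show 0 < finrank F (LinearMap.ker (g - c • (1 : End F V))) from hc)
    refine ⟨e, fun h0 => he0 (Subtype.ext h0), ?_⟩
    rw [LinearMap.mem_ker, LinearMap.sub_apply, LinearMap.smul_apply, Module.End.one_apply, sub_eq_zero] at he
    exact he
  -- first step
  obtain ⟨w, hw, hw'⟩ := Cfsg.Agent.H951.OreU.exists_typeI hB hg hns
  obtain ⟨U, g₁, b, h⟩ := Cfsg.Agent.H951.OreU.exists_step hB hg hw hw'
  obtain ⟨c, hc, hc4⟩ := hsc w U g₁ b h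
  have hc1 := norm_scalar hB hg hn h hc
  have hd := (Cfsg.Agent.H951.OreU.Step.hs hB hg h).2
  have hk := ker_large h hc
  obtain ⟨e₁, he₁0, he₁⟩ := hker c (by omega)
  -- second vector
  obtain ⟨x, hx, hx', hxe⟩ := lemmaY hB hn hg hc1 he₁0 he₁ hw hw'
  obtain ⟨U', g₁', b', h'⟩ := Cfsg.Agent.H951.OreU.exists_step hB hg hx hx'
  obtain ⟨c', hc', hc4'⟩ := hsc x U' g₁' b' h'
  have hc1' := norm_scalar hB hg hn h' hc'
  have hd' := (Cfsg.Agent.H951.OreU.Step.hs hB hg h').2
  have hk' := ker_large h' hc'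
  have hne : c' ≠ c := by
    rintro rfl
    exact ne_scalar hB hg h' hd' (hr c') hc1 he₁ hxe hc'
  obtain ⟨e₂, he₂0, he₂⟩ := hker c' (by omega)
  have hn4 : finrank F V = 4 := by
    by_contra h5
    exact hne (eq_of_scalar hB hg h' (by omega) hc1 he₁ hxe hc')
  have hcc := hc4 hn4
  have hcc' := hc4' hn4
  have h2 : (2 : F) ≠ 0 := by
    intro h2
    apply hne
    have h3 : (c' - c) ^ 2 = 0 := by linear_combination hcc + hcc' + (1 - c * c') * h2
    exact sub_eq_zero.1 ((pow_eq_zero_iff two_ne_zero).1 h3)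
  have h21 : B e₂ e₁ = 0 := by
    have h3 := g_orth hB hg hc1 he₁ e₂
    rw [he₂, hB.frm.smul_left] at h3
    have h4 : (c' - c) * B e₂ e₁ = 0 := by linear_combination h3
    exact (mul_eq_zero.1 h4).resolve_left (sub_ne_zero.2 hne)
  obtain ⟨y, hy, hy', hy1, hy2⟩ := lemmaYY hB hn hg hc1' he₂0 he₂ h21 h2 hx hx' hxe
  obtain ⟨U'', g₁'', b'', h''⟩ := Cfsg.Agent.H951.OreU.exists_step hB hg hy hy'
  obtain ⟨c'', hc'', hc4''⟩ := hsc y U'' g₁'' b'' h''
  have hd'' := (Cfsg.Agent.H951.OreU.Step.hs hB hg h'').2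
  have h3 : c'' ≠ c := by
    rintro rfl
    exact ne_scalar hB hg h'' hd'' (hr c'') hc1 he₁ hy1 hc''
  have h4 : c'' ≠ c' := by
    rintro rfl
    exact ne_scalar hB hg h'' hd'' (hr c'') hc1' he₂ hy2 hc''
  have h5 := hc4'' hn4
  have h6 : (c'' - c) * (c'' - c') = 0 := by
    have h7 : c' + c = 0 := by
      have h8 : (c' - c) * (c' + c) = 0 := by linear_combination hcc' - hcc
      exact (mul_eq_zero.1 h8).resolve_left (sub_ne_zero.2 hne)
    linear_combination h5 - hcc + (c - c'') * h7
  rcases mul_eq_zero.1 h6 with h6 | h6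
  · exact h3 (sub_eq_zero.1 h6)
  · exact h4 (sub_eq_zero.1 h6)

end Cfsg.Agent.H954.OreB
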