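import Mathlib
import Cfsg.Prelude.Def_GeometricClasses

/-!
# Field subalgebras of matrix algebras (helper954)

* `exists_field` : a field subalgebra is the range of an algebra homomorphism from a field;
* `exists_equiv_comm` : Skolem-Noether for fields: two actions of a finite field extension on a
  finite-dimensional space are conjugate;
* `exists_equiv_minpoly` : two endomorphisms with the same minimal polynomial of maximal degree are conjugate;
* `exists_SL` : an element of `SL_n` normalising some copy of the field is conjugate in `SL_n` into the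
  normaliser of a given field subalgebra.
-/

set_option autoImplicit false

namespace Cfsg.Agent.H954.FieldSub

open Module Polynomial

section VS

variable {F L V : Type*} [Field F] [Field L] [Algebra F L] [AddCommGroup V] [Module F V]

/-- `V` as a vector space over `L` through `φ`. -/
def VS (_φ : L →ₐ[F] Module.End F V) : Type _ := V

instance instVSacg (φ : L →ₐ[F] Module.End F V) : AddCommGroup (VS φ) := inferInstanceAs (AddCommGroup V)
instance instVSmodF (φ : L →ₐ[F] Module.End F V) : Module F (VS φ) := inferInstanceAs (Module F V)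
instance instVSmodL (φ : L →ₐ[F] Module.End F V) : Module L (VS φ) :=
  Module.compHom V (φ : L →+* Module.End F V)

theorem smul_def (φ : L →ₐ[F] Module.End F V) (a : L) (v : VS φ) :
    a • v = φ a v := rfl

instance instVStower (φ : L →ₐ[F] Module.End F V) : IsScalarTower F L (VS φ) where
  smul_assoc c a v := by
    show φ (c • a) v = c • (φ a v)
    rw [map_smul]; rfl

theorem finrank_VS (φ : L →ₐ[F] Module.End F V) :
    finrank F L * finrank L (VS φ) = finrank F V := by
  have := Module.finrank_mul_finrank F L (VS φ)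
  rw [this]; rfl

instance instVSfin [FiniteDimensional F V] (φ : L →ₐ[F] Module.End F V) : FiniteDimensional F (VS φ) :=
  inferInstanceAs (FiniteDimensional F V)

instance instVSfinL [FiniteDimensional F V] (φ : L →ₐ[F] Module.End F V) : FiniteDimensional L (VS φ) :=
  Module.Finite.right F L (VS φ)

theorem exists_equiv_comm [FiniteDimensional F V] [FiniteDimensional F L]
    (φ ψ : L →ₐ[F] Module.End F V) : ∃ e : V ≃ₗ[F] V, ∀ a v, e (φ a v) = ψ a (e v) := by
  have h : finrank L (VS φ) = finrank L (VS ψ) := by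
    have h1 := finrank_VS φ
    have h2 := finrank_VS ψ
    exact Nat.eq_of_mul_eq_mul_left (Module.finrank_pos (R := F) (M := L)) (h1.trans h2.symm)
  let e := LinearEquiv.ofFinrankEq (R := L) (VS φ) (VS ψ) h
  refine ⟨(e.restrictScalars F : VS φ ≃ₗ[F] VS ψ), fun a v => ?_⟩
  exact e.map_smul a v

/-- An `L`-linear automorphism with any given determinant over `F`. -/
theorem exists_det_eq [FiniteDimensional F V] [Finite L] [Nontrivial V]
    (φ : L →ₐ[F] Module.End F V) {u : F} (hu : u ≠ 0) :
    ∃ c : V ≃ₗ[F] V, (∀ a v, c (φ a v) = φ a (c v)) ∧ LinearMap.det (c : V →ₗ[F] V) = u := by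
  have hfL : FiniteDimensional F L := Module.Finite.of_finite
  obtain ⟨b, hb⟩ := FiniteField.norm_surjective F L u
  have hb0 : b ≠ 0 := by
    rintro rfl
    rw [Algebra.norm_zero] at hb
    exact hu hb.symm
  have hpos : 0 < finrank L (VS φ) := by
    by_contra h
    have h0 : finrank L (VS φ) = 0 := by omega
    have h1 := finrank_VS φ
    rw [h0, mul_zero] at h1
    have : 0 < finrank F V := Module.finrank_pos
    omega
  have hntr : Nontrivial (VS φ) := inferInstanceAs (Nontrivial V)
  let B := Module.finBasis L (VS φ)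
  let w : Fin (finrank L (VS φ)) → Lˣ := fun i => if i.1 = 0 then Units.mk0 b hb0 else 1
  let B' := B.unitsSMul w
  let c : VS φ ≃ₗ[L] VS φ := B.equiv B' (Equiv.refl _)
  have hdet : LinearMap.det (c : VS φ →ₗ[L] VS φ) = b := by
    rw [← LinearMap.det_toMatrix B]
    have : LinearMap.toMatrix B B (c : VS φ →ₗ[L] VS φ) =
        Matrix.diagonal (fun i => (w i : L)) := by
      ext i j
      rw [LinearMap.toMatrix_apply]
      simp only [LinearEquiv.coe_coe]
      have : c (B j) = (w j : L) • B j := by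
        simp [c, B', Module.Basis.unitsSMul_apply]
        rfl
      rw [this, map_smul, Finsupp.smul_apply, Module.Basis.repr_self, Matrix.diagonal_apply, Finsupp.single_apply]
      by_cases h : i = j
      · subst h; simp
      · simp [h, Ne.symm h]
    rw [this, Matrix.det_diagonal]
    rw [Finset.prod_eq_single (⟨0, hpos⟩ : Fin (finrank L (VS φ)))]
    · simp [w]
    · intro i _ hi
      have : i.1 ≠ 0 := fun h => hi (Fin.ext h)
      simp [w, this]
    · simp
  refine ⟨(c.restrictScalars F : VS φ ≃ₗ[F] VS φ), fun a v => c.map_smul a v, ?_⟩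
  have := LinearMap.det_restrictScalars (R := F) (f := (c : VS φ →ₗ[L] VS φ))
  rw [hdet, hb] at this
  exact this

end VS

section Minpoly

variable {F V W : Type*} [Field F] [AddCommGroup V] [Module F V] [FiniteDimensional F V]
  [AddCommGroup W] [Module F W] [FiniteDimensional F W]

/-- A cyclic module. -/
theorem exists_equiv_quot (x : Module.End F V) (hx : (minpoly F x).natDegree = finrank F V) :
    Nonempty ((F[X] ⧸ Ideal.span {minpoly F x}) ≃ₗ[F[X]] Module.AEval' x) := by
  obtain ⟨v, hv⟩ := Module.exists_ker_toSpanSingleton_eq_annihilator F[X] (Module.AEval' x)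
  have hsp : Ideal.span {minpoly F x} =
      LinearMap.ker (LinearMap.toSpanSingleton F[X] (Module.AEval' x) v) := by
    rw [hv, span_minpoly_eq_annihilator]
  let g : (F[X] ⧸ Ideal.span {minpoly F x}) →ₗ[F[X]] Module.AEval' x :=
    Submodule.liftQ _ (LinearMap.toSpanSingleton F[X] (Module.AEval' x) v) hsp.le
  have hg : LinearMap.ker g = ⊥ := Submodule.ker_liftQ_eq_bot' _ _ hsp
  have hmp : minpoly F x ≠ 0 := minpoly.ne_zero (Algebra.IsIntegral.isIntegral x)
  have hfin : FiniteDimensional F (F[X] ⧸ Ideal.span {minpoly F x}) :=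
    (AdjoinRoot.powerBasis hmp).finite
  have h1 : finrank F (F[X] ⧸ Ideal.span {minpoly F x}) = finrank F (Module.AEval' x) := by
    have : finrank F (F[X] ⧸ Ideal.span {minpoly F x}) = (minpoly F x).natDegree :=
      finrank_quotient_span_eq_natDegree
    rw [this, hx]
    exact (Module.AEval'.of x).finrank_eq
  have hbij : Function.Bijective (g.restrictScalars F) := by
    have hinj' : Function.Injective g := LinearMap.ker_eq_bot.1 hg
    have hinj : Function.Injective (g.restrictScalars F) := hinj'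
    exact ⟨hinj, (LinearMap.injective_iff_surjective_of_finrank_eq_finrank h1).1 hinj⟩
  exact ⟨LinearEquiv.ofBijective g hbij⟩

/-- Endomorphisms with the same minimal polynomial of maximal degree are conjugate. -/
theorem exists_equiv_minpoly (x : Module.End F V) (y : Module.End F W) (hxy : minpoly F x = minpoly F y)
    (hx : (minpoly F x).natDegree = finrank F V) (hy : (minpoly F y).natDegree = finrank F W) :
    ∃ e : V ≃ₗ[F] W, ∀ v, e (x v) = y (e v) := by
  obtain ⟨e1⟩ := exists_equiv_quot x hx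
  obtain ⟨e2⟩ := exists_equiv_quot y hy
  rw [← hxy] at e2
  let e : Module.AEval' x ≃ₗ[F[X]] Module.AEval' y := e1.symm.trans e2
  refine ⟨((Module.AEval'.of x).trans (e.restrictScalars F)).trans (Module.AEval'.of y).symm, fun v => ?_⟩
  simp only [LinearEquiv.trans_apply, LinearEquiv.restrictScalars_apply]
  rw [← Module.AEval'.X_smul_of, map_smul, LinearEquiv.symm_apply_eq, ← Module.AEval'.X_smul_of,
    LinearEquiv.apply_symm_apply]

end Minpoly

section Mat

universe u v

variable {F : Type u} [Field F] {ι : Type} [Fintype ι] [DecidableEq ι]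

/-- A field subalgebra is the range of an algebra homomorphism from a field. -/
theorem exists_field [Nonempty ι] {k : ℕ} {K : Subalgebra F (Matrix ι ι F)}
    (hK : Cfsg.Geo.IsFieldSubalgebra k K) :
    ∃ (L : Type u) (_ : Field L) (_ : Algebra F L) (φ : L →ₐ[F] Matrix ι ι F),
      φ.range = K ∧ finrank F L = k := by
  have hf : IsField K := 
    { exists_pair_ne := ⟨0, 1, fun h => zero_ne_one (congrArg Subtype.val h)⟩
      mul_comm := fun x y => Subtype.ext (hK.comm x x.2 y y.2)
      mul_inv_cancel := fun {a} ha => by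
        obtain ⟨y, hy, h⟩ := hK.inv a a.2 (fun h => ha (Subtype.ext h))
        exact ⟨⟨y, hy⟩, Subtype.ext h⟩ }
  let fK : Field K := hf.toField
  exact ⟨K, fK, K.algebra, K.val, K.range_val, hK.finrank_eq⟩

theorem mem_normalizer_of [Finite F] {K : Subalgebra F (Matrix ι ι F)} {g : GL ι F}
    (h : ∀ k ∈ K, (g : Matrix ι ι F) * k * ((g⁻¹ : GL ι F) : Matrix ι ι F) ∈ K) :
    g ∈ Cfsg.Geo.subalgebraNormalizer K := by
  intro k
  refine ⟨h k, fun hk => ?_⟩
  let f : K → K := fun a => ⟨_, h a a.2⟩
  have hinj : Function.Injective f := by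
    intro a b hab
    have h1 := congrArg Subtype.val hab
    simp only [f] at h1
    have h2 := congrArg (fun M => ((g⁻¹ : GL ι F) : Matrix ι ι F) * M * (g : Matrix ι ι F)) h1
    simp only [Matrix.mul_assoc] at h2
    apply Subtype.ext
    simpa [← Matrix.mul_assoc, ← Units.val_mul] using h2
  have hsurj := Finite.injective_iff_surjective.1 hinj
  obtain ⟨a, ha⟩ := hsurj ⟨_, hk⟩
  have h1 := congrArg Subtype.val ha
  simp only [f] at h1
  have h2 := congrArg (fun M => ((g⁻¹ : GL ι F) : Matrix ι ι F) * M * (g : Matrix ι ι F)) h1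
  have h3 : (a : Matrix ι ι F) = k := by
    simpa [← Matrix.mul_assoc, ← Units.val_mul] using h2
  rw [← h3]; exact a.2

/-- An element of `SL_n` normalising a copy of `L` is conjugate in `SL_n` into the normaliser of any
other copy. -/
theorem exists_SL [Finite F] {n : ℕ} [Nonempty (Fin n)] {L : Type v} [Field L] [Algebra F L] [FiniteDimensional F L]
    (φ : L →ₐ[F] Matrix (Fin n) (Fin n) F) (x : Matrix.SpecialLinearGroup (Fin n) F)
    (ψ : L →ₐ[F] Module.End F (Fin n → F)) (τ : L → L)
    (h : ∀ a v, Matrix.toLin' (x : Matrix (Fin n) (Fin n) F) (ψ a v) =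
      ψ (τ a) (Matrix.toLin' (x : Matrix (Fin n) (Fin n) F) v)) :
    ∃ P : Matrix.SpecialLinearGroup (Fin n) F, P⁻¹ * x * P ∈
      ((Cfsg.Geo.subalgebraNormalizer φ.range).comap
        (Matrix.SpecialLinearGroup.toGL : Matrix.SpecialLinearGroup (Fin n) F →* GL (Fin n) F)) := by
  have : Finite L := Module.finite_of_finite F
  let φ' : L →ₐ[F] Module.End F (Fin n → F) := (Matrix.toLinAlgEquiv' (R := F) (n := Fin n)).toAlgHom.comp φ
  have hφ' : ∀ a, φ' a = Matrix.toLin' (φ a) := fun a => rfl
  obtain ⟨e, he⟩ := exists_equiv_comm ψ φ'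
  have hdet : LinearMap.det (e : (Fin n → F) →ₗ[F] (Fin n → F)) ≠ 0 := e.isUnit_det'.ne_zero
  obtain ⟨c, hc, hcd⟩ := exists_det_eq φ' (inv_ne_zero hdet)
  let e' : (Fin n → F) ≃ₗ[F] (Fin n → F) := e.trans c
  have he' : ∀ a v, e' (ψ a v) = φ' a (e' v) := fun a v => by
    simp only [e', LinearEquiv.trans_apply, he, hc]
  have hd : LinearMap.det (e' : (Fin n → F) →ₗ[F] (Fin n → F)) = 1 := by
    have : (e' : (Fin n → F) →ₗ[F] (Fin n → F)) = (c : (Fin n → F) →ₗ[F] (Fin n → F)) ∘ₗ
        (e : (Fin n → F) →ₗ[F] (Fin n → F)) := rfl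
    rw [this, LinearMap.det_comp, hcd, inv_mul_cancel₀ hdet]
  obtain ⟨Q, hQ⟩ : ∃ Q : Matrix.SpecialLinearGroup (Fin n) F,
      Matrix.toLin' (Q : Matrix (Fin n) (Fin n) F) = (e' : (Fin n → F) →ₗ[F] (Fin n → F)) :=
    ⟨⟨LinearMap.toMatrix' (e' : (Fin n → F) →ₗ[F] (Fin n → F)), by rw [LinearMap.det_toMatrix', hd]⟩,
      Matrix.toLin'_toMatrix' _⟩
  refine ⟨Q⁻¹, ?_⟩
  rw [inv_inv, Subgroup.mem_comap]
  apply mem_normalizer_of
  rintro k ⟨a, rfl⟩
  refine ⟨τ a, ?_⟩
  -- `Q x Q⁻¹ φ a = φ (τ a) Q x Q⁻¹`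
  have key : ((Q * x * Q⁻¹ : Matrix.SpecialLinearGroup (Fin n) F) : Matrix (Fin n) (Fin n) F) * φ a =
      φ (τ a) * ((Q * x * Q⁻¹ : Matrix.SpecialLinearGroup (Fin n) F) : Matrix (Fin n) (Fin n) F) := by
    have h1 : ((Q * x : Matrix.SpecialLinearGroup (Fin n) F) : Matrix (Fin n) (Fin n) F) *
        LinearMap.toMatrix' (ψ a) =
        φ (τ a) * ((Q * x : Matrix.SpecialLinearGroup (Fin n) F) : Matrix (Fin n) (Fin n) F) := by
      apply (Matrix.toLin' (R := F)).injective
      rw [Matrix.toLin'_mul, Matrix.toLin'_mul, Matrix.SpecialLinearGroup.coe_mul, Matrix.toLin'_mul,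
        Matrix.toLin'_toMatrix']
      ext1 i
      ext1
      simp only [LinearMap.comp_apply]
      rw [h, hQ]
      exact he' _ _
    have h2 : (Q : Matrix (Fin n) (Fin n) F) * LinearMap.toMatrix' (ψ a) = φ a * (Q : Matrix (Fin n) (Fin n) F) := by
      apply (Matrix.toLin' (R := F)).injective
      rw [Matrix.toLin'_mul, Matrix.toLin'_mul, Matrix.toLin'_toMatrix', hQ]
      ext1 i
      ext1
      simp only [LinearMap.comp_apply]
      exact he' _ _
    have h3 : ((Q⁻¹ : Matrix.SpecialLinearGroup (Fin n) F) : Matrix (Fin n) (Fin n) F) * φ a =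
        LinearMap.toMatrix' (ψ a) * ((Q⁻¹ : Matrix.SpecialLinearGroup (Fin n) F) : Matrix (Fin n) (Fin n) F) := by
      have e1 : (Q : Matrix (Fin n) (Fin n) F) * ((Q⁻¹ : Matrix.SpecialLinearGroup (Fin n) F) : Matrix (Fin n) (Fin n) F) = 1 := by
        rw [← Matrix.SpecialLinearGroup.coe_mul, mul_inv_cancel]; rfl
      have e2 : ((Q⁻¹ : Matrix.SpecialLinearGroup (Fin n) F) : Matrix (Fin n) (Fin n) F) * (Q : Matrix (Fin n) (Fin n) F) = 1 := by
        rw [← Matrix.SpecialLinearGroup.coe_mul, inv_mul_cancel]; rfl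
      calc ((Q⁻¹ : Matrix.SpecialLinearGroup (Fin n) F) : Matrix (Fin n) (Fin n) F) * φ a
          = ((Q⁻¹ : Matrix.SpecialLinearGroup (Fin n) F) : Matrix (Fin n) (Fin n) F) * φ a *
            ((Q : Matrix (Fin n) (Fin n) F) * ((Q⁻¹ : Matrix.SpecialLinearGroup (Fin n) F) : Matrix (Fin n) (Fin n) F)) := by
            rw [e1, mul_one]
        _ = ((Q⁻¹ : Matrix.SpecialLinearGroup (Fin n) F) : Matrix (Fin n) (Fin n) F) * (φ a * (Q : Matrix (Fin n) (Fin n) F)) *
             ((Q⁻¹ : Matrix.SpecialLinearGroup (Fin n) F) : Matrix (Fin n) (Fin n) F) := by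
            simp only [mul_assoc]
        _ = _ := by rw [← h2, ← mul_assoc, e2, one_mul]
    rw [Matrix.SpecialLinearGroup.coe_mul, mul_assoc, h3, ← mul_assoc, h1, mul_assoc]
  have hinv : ((Matrix.SpecialLinearGroup.toGL (Q * x * Q⁻¹))⁻¹ : GL (Fin n) F) =
    Matrix.SpecialLinearGroup.toGL (Q * x * Q⁻¹)⁻¹ := (map_inv _ _).symm
  rw [hinv]
  show φ (τ a) = ((Q * x * Q⁻¹ : Matrix.SpecialLinearGroup (Fin n) F) : Matrix (Fin n) (Fin n) F) * φ a *
    (((Q * x * Q⁻¹)⁻¹ : Matrix.SpecialLinearGroup (Fin n) F) : Matrix (Fin n) (Fin n) F)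
  rw [key, mul_assoc, ← Matrix.SpecialLinearGroup.coe_mul, mul_inv_cancel]
  simp

end Mat

end Cfsg.Agent.H954.FieldSub
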