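import Cfsg.Agent.H954.OutLin
import Cfsg.Agent.H954.OutExcB
import Cfsg.Agent.H934.HeisSq
import Cfsg.Agent.H934.HeisE6
import Cfsg.Agent.H934.HeisTwE6

/-!
# Degrees from the special group of the highest root (helper954, for S4830 / S4831)

`F₄(q)`: `(q - 1) q⁴`; `E₆(q)`: `(q - 1) q¹⁰`; `²E₆(q)`: `q¹⁰`; `²G₂(q)`: `q / 2`.
-/

set_option autoImplicit false

namespace Cfsg.Agent.H954.OutExcC

open Cfsg.Lie Cfsg.Agent.H954.OutDeg

universe u v

section chev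

open Cfsg.Agent.ChevalleyStructure.Elts Cfsg.Agent.H934.HeisChev Cfsg.Agent.H934.HeisSq

variable {D : ChevalleyDatum} (hD : InList D) {F : Type u} [Field F]

include hD in
theorem md_chev_heis {n k : ℕ} (hn : n = 2 * k) [Fintype F] (T : HT n) (ok : T.Ok D) (he : ∀ i, (T.e i : F) ≠ 0)
    (hs : IsSimpleGroup ↥(D.group F)) : MD ↥(D.group F) ((Fintype.card F - 1) * Fintype.card F ^ k) := by
  classical
  have : Finite (GL D.Idx F) := inferInstance
  let DD := (T.rs hD ok F he).toD0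
  have hZc : Nat.card (DD.Zg.subgroupOf DD.Qg) = Fintype.card F := by
    rw [Nat.card_congr (Subgroup.subgroupOfEquivOfLe (fun g hg => by
      obtain ⟨a, rfl⟩ := hg
      exact DD.z_mem_Qg a)).toEquiv, DD.card_Zg, Nat.card_eq_fintype_card]
  have h := md_heis (P := DD.Qg) (X := ↥(D.group F)) DD.Qg.subtype DD.hyp ?_ ?_ (k := Fintype.card F ^ k) ?_
  · rwa [hZc] at h
  · rintro x ⟨a, ha⟩ y ⟨b, hb⟩ hx hy
    have ha' : DD.z a = (x : ↥(D.group F)) := ha
    have hb' : DD.z b = (y : ↥(D.group F)) := hb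
    show IsConj (x : ↥(D.group F)) (y : ↥(D.group F))
    rw [← ha', ← hb']
    refine z_isConj0 hD ok.th_lt ok.p_lt ok.p_th a b ?_ ?_
    · rintro rfl
      exact hx (Subtype.ext (by rw [← ha', DD.z_zero]; rfl))
    · rintro rfl
      exact hy (Subtype.ext (by rw [← hb', DD.z_zero]; rfl))
  · refine ⟨⟨DD.z 1, DD.z_mem_Qg 1⟩, ⟨1, rfl⟩, fun h => ?_⟩
    exact one_ne_zero (DD.z_inj 1 h)
  · rw [hZc, DD.card_Qg, Nat.card_fun, Nat.card_eq_fintype_card (α := F), Nat.card_eq_fintype_card (α := Fin n),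
      Fintype.card_fin, hn, pow_mul, mul_comm, ← pow_mul, ← pow_mul, mul_comm k 2]

/-- The tables for the long roots of `F₄`. -/
def tabF : HT 8 where
  S := ![24, 26, 31, 32, 42, 43, 45, 46]
  th := 47
  opp := fun i => ⟨7 - i, by omega⟩
  e := ![-1, -1, 1, -1, 1, -1, 1, 1]
  p := 3

theorem tabF_ok : tabF.Ok chevF4 where
  S_lt := by decide +kernel
  th_lt := by decide +kernel
  th_ne := by decide +kernel
  S_ne := by decide +kernel
  opp_ne := by decide +kernel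
  opp_opp := by decide +kernel
  p_lt := by decide +kernel
  p_th := by decide +kernel

/-- `F₄(q)`. -/
theorem md_f4 [Fintype F] (hs : IsSimpleGroup ↥(chevF4.group F)) :
    MD ↥(chevF4.group F) ((Fintype.card F - 1) * Fintype.card F ^ 4) := by
  refine md_chev_heis (by simp [InList]) rfl tabF tabF_ok ?_ hs
  have h : ∀ i, tabF.e i = 1 ∨ tabF.e i = -1 := by decide
  intro i
  rcases h i with h | h <;> rw [h] <;> simp

/-- forget the Levi part -/
def ht {n k : ℕ} (T : HTab n k) : HT n := ⟨T.S, T.th, T.opp, T.e, T.p⟩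

theorem ht_ok {n k : ℕ} {T : HTab n k} (ok : T.Ok D) : (ht T).Ok D where
  S_lt := ok.S_lt
  th_lt := ok.th_lt
  th_ne := ok.th_ne
  S_ne := ok.S_ne
  opp_ne := ok.opp_ne
  opp_opp := ok.opp_opp
  p_lt := ok.p_lt
  p_th := ok.p_th

/-- `E₆(q)`. -/
theorem md_e6 [Fintype F] (hs : IsSimpleGroup ↥(chevE6.group F)) :
    MD ↥(chevE6.group F) ((Fintype.card F - 1) * Fintype.card F ^ 10) :=
  md_chev_heis (by simp [InList]) rfl (ht Cfsg.Agent.H934.HeisE6.tab)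
    (ht_ok Cfsg.Agent.H934.HeisE6.tab_ok)
    (fun i => cast_ne_zero (Cfsg.Agent.H934.HeisE6.tab_ok.e_sq i)) hs

end chev

section tw

open Cfsg.Agent.H934.HeisData Cfsg.Agent.H934.HeisRoot Cfsg.Agent.H934.HeisTw Cfsg.Agent.H934.HeisTw.TwData

/-- The degree bound for fixed points of an automorphism on a special group. -/
theorem md_tw {Γ V A K : Type*} [Group Γ] [AddCommGroup V] [AddCommGroup A] {D : Data Γ V A K} {σ : Γ →* Γ}
    {G : Subgroup Γ} {φ : A → A} {sV : V → V} [Finite Γ] (T : TwData D σ G φ sV) [IsSimpleGroup G]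
    (hconj : ∀ a b (ha : φ a = a) (hb : φ b = b), a ≠ 0 → b ≠ 0 →
      IsConj (⟨D.z a, T.z_mem a ha⟩ : G) ⟨D.z b, T.z_mem b hb⟩)
    {a0 : A} (h0 : φ a0 = a0) (ha0 : a0 ≠ 0) {k : ℕ} (hk : k ^ 2 ≤ Nat.card {v : V // sV v = v}) :
    MD ↥G ((Nat.card {a : A // φ a = a} - 1) * k) := by
  have : Nontrivial A := ⟨a0, 0, ha0⟩
  have hz : Nat.card (D.Zg.subgroupOf (Q0 D G)) = Nat.card {a : A // φ a = a} := by
    symm
    refine Nat.card_congr (Equiv.ofBijective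
      (fun a => ⟨⟨D.z a, T.z_mem a a.2, D.z_mem_Qg a⟩, ⟨a, rfl⟩⟩) ⟨fun a b h => ?_, ?_⟩)
    · apply Subtype.ext
      exact z_injective D (congrArg (fun w : D.Zg.subgroupOf (Q0 D G) => ((w : Q0 D G) : Γ)) h)
    · rintro ⟨⟨g, hg⟩, a, ha⟩
      have ha' : D.z a = g := ha
      subst ha'
      exact ⟨⟨a, T.fix_z hg.1⟩, rfl⟩
  have h := md_heis (P := Q0 D G) (X := ↥G) (Subgroup.inclusion (Q0_le (D := D) (G := G))) T.hyp ?_ ?_ (k := k) ?_
  · rwa [hz] at h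
  · rintro x ⟨a, ha⟩ y ⟨b, hb⟩ hx hy
    have ha' : D.z a = (x : Γ) := ha
    have hb' : D.z b = (y : Γ) := hb
    have ha1 : a ≠ 0 := by
      rintro rfl
      exact hx (Subtype.ext (by rw [← ha', D.z_zero]; rfl))
    have hb1 : b ≠ 0 := by
      rintro rfl
      exact hy (Subtype.ext (by rw [← hb', D.z_zero]; rfl))
    have haG : D.z a ∈ G := by rw [ha']; exact x.2.1
    have hbG : D.z b ∈ G := by rw [hb']; exact y.2.1
    have h1 := hconj a b (T.fix_z haG) (T.fix_z hbG) ha1 hb1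
    have h2 : (⟨D.z a, T.z_mem a (T.fix_z haG)⟩ : G) = Subgroup.inclusion (Q0_le (D := D) (G := G)) x :=
      Subtype.ext ha'
    have h3 : (⟨D.z b, T.z_mem b (T.fix_z hbG)⟩ : G) = Subgroup.inclusion (Q0_le (D := D) (G := G)) y :=
      Subtype.ext hb'
    rwa [h2, h3] at h1
  · refine ⟨⟨D.z a0, T.z_mem a0 h0, D.z_mem_Qg a0⟩, ⟨a0, rfl⟩, fun h => ?_⟩
    exact ha0 (D.z_inj a0 (congrArg (fun g : G => (g : Γ)) h))
  · have h1 := T.card_Q
    rw [Subgroup.card_top] at h1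
    rw [hz]
    calc Nat.card {a : A // φ a = a} * k ^ 2 ≤ Nat.card {a : A // φ a = a} * Nat.card {v : V // sV v = v} :=
          Nat.mul_le_mul_left _ hk
      _ = _ := mul_comm _ _
      _ ≤ _ := h1

variable {F : Type*} [Field F] [Fintype F]

variable {Γ ι κ : Type*} [Group Γ] [Fintype ι] [DecidableEq ι] (R : RH Γ F ι κ)

/-- The degree bound, for root elements over a finite field. -/
theorem md_tw_final [Finite Γ] (σ : Γ →* Γ) (G : Subgroup Γ) (φ : F →+* F) (ρ : Equiv.Perm ι) (ε : ι → F) {q n k : ℕ}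
    (hq : 1 < q) (hn : 1 < n) (hφ : ∀ x, φ x = x ^ q) (hF : Fintype.card F = q ^ n)
    (sig_x : ∀ i t, σ (R.x i t) = R.x (ρ i) (ε i * φ t)) (sig_z : ∀ t, σ (R.z t) = R.z (φ t))
    (fix : ∀ g ∈ G, σ g = g) (z_mem : ∀ a, φ a = a → R.z a ∈ G)
    (hVn : ∀ v, (sV φ ρ ε)^[n] v = v)
    (lift0 : ∀ i t, ∃ a, R.X (tr (sV φ ρ ε) n (Pi.single i t)) * R.z a ∈ G)
    [IsSimpleGroup G]
    (hconj : ∀ a b (ha : φ a = a) (hb : φ b = b), a ≠ 0 → b ≠ 0 →
      IsConj (⟨R.z a, z_mem a ha⟩ : G) ⟨R.z b, z_mem b hb⟩) (hk : Fintype.card ι = 2 * k) :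
    MD ↥G ((q - 1) * q ^ k) := by
  obtain ⟨b, hb⟩ := exists_distinct hq hn hφ hF
  obtain ⟨b0, hb0⟩ := exists_tr_one (by omega) hb (iterate_frob_n hφ hF)
  have T := of_trace R σ G φ ρ ε n sig_x sig_z fix z_mem hVn hb0 lift0
  have hc1 : q ≤ Nat.card {a : F // φ a = a} := by
    have h3 := card_le_pow (M := F) (F := F) (by omega) hb (s := (φ : F →+ F)) (fun c v => map_mul φ c v)
      (iterate_frob_n hφ hF)
    rw [Nat.card_eq_fintype_card, hF] at h3
    exact le_of_pow_le_pow_left₀ (by omega) (by omega) h3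
  have hc2 : q ^ Fintype.card ι ≤ Nat.card {v : ι → F // sV φ ρ ε v = v} := by
    have h3 := card_le_pow (M := ι → F) (by omega) hb (s := sV φ ρ ε) (sV_smul φ ρ ε) hVn
    rw [Nat.card_fun, Nat.card_eq_fintype_card (α := F), Nat.card_eq_fintype_card (α := ι), hF, ← pow_mul, mul_comm,
      pow_mul] at h3
    exact le_of_pow_le_pow_left₀ (by omega) (by omega) h3
  refine MD.mono (md_tw T hconj (map_one φ) one_ne_zero (k := q ^ k) (le_trans ?_ hc2)) ?_
  · rw [hk, ← pow_mul, mul_comm k 2]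
  · exact Nat.mul_le_mul_right _ (Nat.sub_le_sub_right hc1 1)

end tw

section twE6

open Cfsg.Agent.H934.HeisTwE6 Cfsg.Agent.ChevalleyStructure.TwE6Basic Cfsg.Agent.ChevalleyStructure.TwE6BN

/-- `²E₆(q)`. -/
theorem md_twE6 {K : Type u} [Field K] [Fintype K] {q : ℕ} (hq : IsPrimePow q) (hK : Fintype.card K = q ^ 2)
    (hs : IsSimpleGroup ↥(Cfsg.Lie.twistedE6 K q)) : MD ↥(Cfsg.Lie.twistedE6 K q) ((q - 1) * q ^ 10) := by
  classical
  obtain ⟨φ, hφ, hqq⟩ := exists_frob hq hK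
  have : Finite (GL chevE6.Idx K) := inferInstance
  exact md_tw_final (R K) (sg φ) (twistedE6 K q) φ rhoI (fun i => (eps i : K)) hq.one_lt (n := 2) (by norm_num) hφ hK
    (sig_R φ) (sig_z φ) (fun g hg => twisted_le_fix φ hφ hqq hg) (z_mem hφ hqq)
    (sV_two fun t => by rw [hφ, hφ, hqq])
    (fun i t => Cfsg.Agent.H934.HeisTw.lift_two (R K) (lift hφ hqq i t))
    (fun a b ha hb ha0 hb0 => by
      obtain ⟨h, hh, he⟩ := z_conj hφ ha hb ha0 hb0
      exact isConj_iff.2 ⟨⟨h, hh⟩, Subtype.ext he⟩) (by rw [Fintype.card_fin])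

end twE6

/-- `²G₂(q)`. -/
theorem md_ree {K : Type*} [Field K] [Fintype K] {m : ℕ} (hK : Fintype.card K = 3 ^ (2 * m + 1))
    (hs : IsSimpleGroup ↥(Cfsg.Lie.twistedG2 K (3 ^ m))) :
    MD ↥(Cfsg.Lie.twistedG2 K (3 ^ m)) (Fintype.card K / 2) := by
  classical
  have : Fact (Nat.Prime 3) := ⟨by norm_num⟩
  have : CharP K 3 := charP_of_card_eq_prime_pow hK
  obtain ⟨a, haH, ha1, ha2⟩ := Cfsg.Agent.S1157.exists_involution hK
  obtain ⟨⟨e⟩, -⟩ := Cfsg.Agent.S1152.result hK a haH ha1 ha2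
  let π : Matrix.SpecialLinearGroup (Fin 2) K →* ↥(Cfsg.Lie.twistedG2 K (3 ^ m)) :=
    (Subgroup.subtype _).comp (e.symm.toMonoidHom.comp ((MonoidHom.inr (Multiplicative (ZMod 2))
      (Matrix.ProjectiveSpecialLinearGroup (Fin 2) K)).comp (QuotientGroup.mk' (Subgroup.center
      (Matrix.SpecialLinearGroup (Fin 2) K)))))
  refine md_half_SL π ⟨1, ?_⟩
  intro h
  have h1 : e.symm ((1 : Multiplicative (ZMod 2)), (QuotientGroup.mk' (Subgroup.center
      (Matrix.SpecialLinearGroup (Fin 2) K)) (Cfsg.Agent.H934.HeisChev.up 1))) = 1 := Subtype.ext h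
  rw [e.symm.map_eq_one_iff, Prod.mk_eq_one] at h1
  have h2 := (QuotientGroup.eq_one_iff _).1 h1.2
  rw [Subgroup.mem_center_iff] at h2
  have h3 := congrArg (fun A : Matrix.SpecialLinearGroup (Fin 2) K => (A : Matrix (Fin 2) (Fin 2) K) 0 0)
    (h2 ⟨!![1, 0; 1, 1], by rw [Matrix.det_fin_two_of]; ring⟩)
  have h4 : ((!![(1 : K), 0; 1, 1] * !![(1 : K), 1; 0, 1] : Matrix (Fin 2) (Fin 2) K)) 0 0 =
    ((!![(1 : K), 1; 0, 1] * !![(1 : K), 0; 1, 1] : Matrix (Fin 2) (Fin 2) K)) 0 0 := h3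
  rw [Matrix.mul_fin_two, Matrix.mul_fin_two] at h4
  simp at h4

end Cfsg.Agent.H954.OutExcC
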