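import Cfsg.Agent.H954.TSing3
import Cfsg.Agent.S0289
import Cfsg.Agent.S0290

/-!
# The type of `[V, x]` when the order of `q` modulo `r` is even (helper954)

`isPlus_iff_even` : `x` an isometry of order `r` without fixed vectors of a nondegenerate `U` of dimension
`i A`, `i = ord_r(q)` even: `U` has plus type iff `A` is even.
-/

set_option autoImplicit false

namespace Cfsg.Agent.H954.TSing

open Module QuadraticMap Cfsg.Agent.H951 Cfsg.Agent.H955 Cfsg.Agent.LieClassical.OrthCore
  Cfsg.Agent.LieClassical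

/-- number of singular vectors, plus type -/
theorem card_sing_plus {F : Type*} [Field F] [Fintype F] {U : Type*} [AddCommGroup U] [Module F U]
    [FiniteDimensional F U] {R : QuadraticForm F U} (hR : Nondeg R) {m : ℕ} (hm : 1 ≤ m)
    (hd : finrank F U = 2 * m) (hP : IsPlus R) :
    Nat.card {v : U // R v = 0} =
      Fintype.card F ^ (2 * m - 1) + Fintype.card F ^ m - Fintype.card F ^ (m - 1) := by
  obtain ⟨e, he⟩ := exists_plus_equiv m R hR hd hP
  rw [← Cfsg.Agent.S0289.result (F := F) rfl m hm]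
  refine Nat.card_congr (e.toEquiv.subtypeEquiv fun v => ?_)
  rw [← QuadForms.coe_plusForm, ← he v]
  rfl

/-- number of singular vectors, minus type -/
theorem card_sing_minus {F : Type*} [Field F] [Fintype F] {U : Type*} [AddCommGroup U] [Module F U]
    [FiniteDimensional F U] {R : QuadraticForm F U} (hR : Nondeg R) {m : ℕ} (hm : 1 ≤ m)
    (hd : finrank F U = 2 * m) (hP : ¬ IsPlus R) :
    Nat.card {v : U // R v = 0} =
      Fintype.card F ^ (2 * m - 1) + Fintype.card F ^ (m - 1) - Fintype.card F ^ m := by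
  obtain ⟨a, b, hab⟩ := exists_aniso_coeff F
  obtain ⟨e, he⟩ := exists_minus_equiv hab (m - 1) R hR (by omega) hP
  rw [← Cfsg.Agent.S0290.result (F := F) rfl m hm a b hab]
  refine Nat.card_congr (e.toEquiv.subtypeEquiv fun v => ?_)
  rw [← QuadForms.coe_minusForm, ← he v]
  rfl

theorem isPlus_iff_even {F : Type*} [Field F] [Fintype F] {U : Type*} [AddCommGroup U] [Module F U]
    [FiniteDimensional F U] {R : QuadraticForm F U} (hR : Nondeg R) {x : Module.End F U} {r : ℕ}
    [hrp : Fact r.Prime] (hr2 : 2 < r) (hr : (r : F) ≠ 0) (hQ : ∀ v, R (x v) = R v) (hx : x ^ r = 1)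
    (hfix : ∀ v, x v = v → v = 0) {i A : ℕ} (hi : orderOf (Fintype.card F : ZMod r) = i) (hie : Even i)
    (hd : finrank F U = i * A) : IsPlus R ↔ Even A := by
  set q := Fintype.card F with hq
  have hq1 : 1 < q := Fintype.one_lt_card
  have hipos : 0 < i := by rw [← hi]; exact ord_pos (F := F) hr
  obtain ⟨j, hj⟩ := hie
  have hrq : ¬ r ∣ q := by
    intro h
    have h1 : ((q : ℕ) : ZMod r) = 0 := (ZMod.natCast_eq_zero_iff _ _).2 h
    rw [h1] at hi
    rw [← hi] at hipos
    have h2 : orderOf (0 : ZMod r) = 0 := by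
      rw [orderOf_eq_zero_iff']
      intro n hn
      rw [zero_pow hn.ne']
      exact zero_ne_one
    omega
  have hhalf : (q : ZMod r) ^ j = -1 := by
    have h1 := pow_half_eq_neg_one hrq (by rw [hi]; exact ⟨j, hj⟩)
    rw [hi, show i / 2 = j by omega] at h1
    exact h1
  have hq1' : (q : ZMod r) ≠ 1 := by
    intro h
    rw [h, orderOf_one] at hi
    omega
  rcases Nat.eq_zero_or_pos A with rfl | hA
  · rw [mul_zero] at hd
    exact iff_of_true (isPlus_of_finrank_zero hd) Even.zero
  set m := j * A with hm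
  have hm1 : 1 ≤ m := Nat.mul_pos (by omega) hA
  have hd' : finrank F U = 2 * m := by rw [hd, hj, hm]; ring
  have hqm : (q : ZMod r) ^ m = (-1) ^ A := by rw [hm, pow_mul, hhalf]
  have h2 : (2 : ZMod r) ≠ 0 := two_ne_zero_zmod hr2
  have hfin : Finite U := Module.finite_of_finite F
  have hmod := card_modEq hx {v : U | R v = 0} (fun v hv => (hQ v).trans hv)
  have h1 : Nat.card {v : U // v ∈ {v : U | R v = 0} ∧ x v = v} = 1 := by
    rw [Nat.card_eq_one_iff_exists]
    refine ⟨⟨0, by simp, map_zero x⟩, ?_⟩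
    rintro ⟨v, hv, hv'⟩
    exact Subtype.ext (hfix v hv')
  rw [h1] at hmod
  have hmod' := (ZMod.natCast_eq_natCast_iff _ _ _).2 hmod
  have hsplit : (q : ZMod r) ^ (2 * m - 1) = (q : ZMod r) ^ m * (q : ZMod r) ^ (m - 1) := by
    rw [← pow_add]; congr 1; omega
  have hstep : (q : ZMod r) ^ m = (q : ZMod r) * (q : ZMod r) ^ (m - 1) := by
    rw [← pow_succ']; congr 1; omega
  have hle1 : q ^ (m - 1) ≤ q ^ m := Nat.pow_le_pow_right (by omega) (by omega)
  have hle2 : q ^ m ≤ q ^ (2 * m - 1) := Nat.pow_le_pow_right (by omega) (by omega)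
  constructor
  · intro hP
    by_contra hne
    rw [Nat.not_even_iff_odd] at hne
    rw [hne.neg_one_pow] at hqm
    have h3 : Nat.card ({v : U | R v = 0} : Set U) = q ^ (2 * m - 1) + q ^ m - q ^ (m - 1) :=
      card_sing_plus hR hm1 hd' hP
    rw [h3, Nat.cast_sub (by omega)] at hmod'
    push_cast at hmod'
    rw [hsplit, hqm] at hmod'
    have h4 : (2 : ZMod r) * ((q : ZMod r) ^ (m - 1) + 1) = 0 := by linear_combination -hmod'
    have h5 : (q : ZMod r) ^ (m - 1) = -1 := by
      have := (mul_eq_zero.1 h4).resolve_left h2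
      linear_combination this
    rw [hqm, h5] at hstep
    apply hq1'
    linear_combination hstep
  · intro hA'
    by_contra hP
    rw [hA'.neg_one_pow] at hqm
    have h3 : Nat.card ({v : U | R v = 0} : Set U) = q ^ (2 * m - 1) + q ^ (m - 1) - q ^ m :=
      card_sing_minus hR hm1 hd' hP
    rw [h3, Nat.cast_sub (by omega)] at hmod'
    push_cast at hmod'
    rw [hsplit, hqm] at hmod'
    have h4 : (2 : ZMod r) * ((q : ZMod r) ^ (m - 1) - 1) = 0 := by linear_combination hmod'
    have h5 : (q : ZMod r) ^ (m - 1) = 1 := by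
      have := (mul_eq_zero.1 h4).resolve_left h2
      linear_combination this
    rw [hqm, h5] at hstep
    apply hq1'
    linear_combination -hstep

end Cfsg.Agent.H954.TSing
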