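import Cfsg.Agent.H954.OutExcC
import Cfsg.Agent.S2119
import Cfsg.Agent.S2060
import Cfsg.Agent.S2061
import Cfsg.Agent.S2062
import Cfsg.Agent.S2063
import Cfsg.Agent.S2064
import Cfsg.Agent.S2065
import Cfsg.Agent.S2066
import Cfsg.Agent.S2067
import Cfsg.Agent.S2068
import Cfsg.Agent.S2069
import Cfsg.Agent.S2070
import Cfsg.Agent.S2071
import Cfsg.Agent.S2072
import Cfsg.Agent.S2073
import Cfsg.Agent.S2074
import Cfsg.Agent.S2075
import Cfsg.Agent.S2076
import Cfsg.Agent.S2077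
import Cfsg.Agent.S2078
import Cfsg.Agent.S2079
import Cfsg.Agent.S2080
import Cfsg.Agent.S2081
import Cfsg.Agent.S2082
import Cfsg.Agent.S2083
import Cfsg.Agent.S2084
import Cfsg.Agent.S2085
import Cfsg.Agent.S2121
import Cfsg.Agent.S2122
import Cfsg.Agent.S2123
import Cfsg.Agent.S2124
import Cfsg.Agent.S2125
import Cfsg.Agent.S2126
import Cfsg.Agent.S2127
import Cfsg.Agent.S2128
import Cfsg.Agent.S2129
import Cfsg.Agent.S2130
import Cfsg.Agent.TitsK.Model
import Cfsg.Agent.TitsK.Inst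
import Cfsg.Agent.TitsK.SheetT

/-!
# `|Out G| < χ(1)`: alternating, sporadic and exceptional groups (helper954, for S4830 / S4831)
-/

set_option autoImplicit false

namespace Cfsg.Agent.H954.OutLinB

open Cfsg.Lie Cfsg.Agent.H954.OutDeg Cfsg.Agent.H934.OutB

universe u v

variable {G : Type u} [Group G]

theorem simple_of {X : Type v} [Group X] [IsSimpleGroup G] (e : G ≃* X) : IsSimpleGroup X :=
  e.symm.isSimpleGroup

theorem not_comm_of {X : Type v} [Group X] (hna : ¬ IsMulCommutative G) (e : G ≃* X) : ¬ IsMulCommutative X := by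
  intro h
  apply hna
  refine ⟨⟨fun a b => e.injective ?_⟩⟩
  rw [map_mul, map_mul]
  exact h.is_comm.comm _ _

theorem exists_pf (F : Type u) [Field F] [Fintype F] : ∃ p f : ℕ, p.Prime ∧ 1 ≤ f ∧ Fintype.card F = p ^ f := by
  obtain ⟨p, f, hp, hf, h⟩ := Fintype.isPrimePow_card_of_field (α := F)
  exact ⟨p, f, Nat.prime_iff.2 hp, hf, h.symm⟩

theorem exists_pf_of_pow {K : Type v} [Field K] [Fintype K] {q n : ℕ} (hq : IsPrimePow q)
    (hK : Fintype.card K = q ^ n) :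
    ∃ p f : ℕ, p.Prime ∧ 1 ≤ f ∧ q = p ^ f ∧ CharP K p ∧ Fintype.card K = p ^ (n * f) := by
  obtain ⟨p, f, hp, hf, rfl⟩ := hq
  have hp' := Nat.prime_iff.2 hp
  have := Fact.mk hp'
  have h : Fintype.card K = p ^ (n * f) := by rw [hK, ← pow_mul, mul_comm]
  exact ⟨p, f, hp', hf, rfl, charP_of_card_eq_prime_pow h, h⟩

theorem small [Finite G] [IsSimpleGroup G] (hna : ¬ IsMulCommutative G) {X : Type v} [Group X]
    (h : Nat.card (Cfsg.Out X) ≤ 2) (e : Nonempty (G ≃* X)) : OL G := by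
  obtain ⟨e⟩ := e
  refine (md_three hna).ol ?_
  rw [card_out_congr e]
  omega

theorem ol_alternating [Finite G] [IsSimpleGroup G] (hna : ¬ IsMulCommutative G) {n : ℕ} (hn : 5 ≤ n) (h6 : n ≠ 6)
    (e : G ≃* alternatingGroup (Fin n)) : OL G := by
  have := simple_of e
  have hna' := not_comm_of hna e
  have : Nontrivial (Fin n) := Fin.nontrivial_iff_two_le.2 (by omega)
  refine small hna ?_ ⟨e⟩
  refine (card_out_of_aut hna' (n := 2) ?_).le
  have h1 := Nat.card_congr (Equiv.ofBijective _ (Cfsg.Agent.S2119.result n (by omega) h6))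
  rw [← h1, Nat.card_eq_fintype_card, Nat.card_eq_fintype_card, two_mul_card_alternatingGroup]

theorem ol_tits [Finite G] [IsSimpleGroup G] (hna : ¬ IsMulCommutative G) (h : Cfsg.Lie.IsoTits G) : OL G := by
  obtain ⟨e⟩ := h
  obtain ⟨e'⟩ := Cfsg.Agent.TitsK.exists_equiv
  have hfin : Finite Cfsg.Agent.FourTwo.Base.LL := by infer_instance
  have h1 : Nat.card (Cfsg.Out ↥Cfsg.Agent.TitsK.TT) ∣ 2 := Cfsg.Agent.TitsK.tdata.index_inn
  exact small hna (Nat.le_of_dvd (by norm_num) h1) ⟨e.trans e'⟩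

theorem ol_sporadic [Finite G] [IsSimpleGroup G] (hna : ¬ IsMulCommutative G) (h : Cfsg.IsSporadicGroup G) :
    OL G := by
  rcases h with h | h | h | h | h | h | h | h | h | h | h | h | h | h | h | h | h | h | h | h | h | h | h | h | h | h
  · exact small hna (le_of_eq_of_le (Cfsg.Agent.S2060.result) (by norm_num)) h
  · exact small hna (le_of_eq_of_le (Cfsg.Agent.S2061.result) (by norm_num)) h
  · exact small hna (le_of_eq_of_le (Cfsg.Agent.S2062.result) (by norm_num)) h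
  · exact small hna (le_of_eq_of_le (Cfsg.Agent.S2063.result) (by norm_num)) h
  · exact small hna (le_of_eq_of_le (Cfsg.Agent.S2064.result) (by norm_num)) h
  · exact small hna (le_of_eq_of_le (Cfsg.Agent.S2065.result) (by norm_num)) h
  · exact small hna (le_of_eq_of_le (Cfsg.Agent.S2066.result) (by norm_num)) h
  · obtain ⟨F, _, _, ω, hF, hω, e⟩ := h
    exact small hna (le_of_eq_of_le (Cfsg.Agent.S2067.result hF ω hω) (by norm_num)) e
  · exact small hna (le_of_eq_of_le (Cfsg.Agent.S2068.result) (by norm_num)) h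
  · exact small hna (le_of_eq_of_le (Cfsg.Agent.S2069.result) (by norm_num)) h
  · exact small hna (le_of_eq_of_le (Cfsg.Agent.S2070.result) (by norm_num)) h
  · exact small hna (le_of_eq_of_le (Cfsg.Agent.S2071.result) (by norm_num)) h
  · exact small hna (le_of_eq_of_le (Cfsg.Agent.S2073.result) (by norm_num)) h
  · exact small hna (le_of_eq_of_le (Cfsg.Agent.S2072.result) (by norm_num)) h
  · exact small hna (le_of_eq_of_le (Cfsg.Agent.S2074.result) (by norm_num)) h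
  · exact small hna (le_of_eq_of_le (Cfsg.Agent.S2075.result) (by norm_num)) h
  · exact small hna (le_of_eq_of_le (Cfsg.Agent.S2077.result) (by norm_num)) h
  · exact small hna (le_of_eq_of_le (Cfsg.Agent.S2078.result) (by norm_num)) h
  · exact small hna (le_of_eq_of_le (Cfsg.Agent.S2076.result) (by norm_num)) h
  · exact small hna (le_of_eq_of_le (Cfsg.Agent.S2079.result) (by norm_num)) h
  · exact small hna (le_of_eq_of_le (Cfsg.Agent.S2080.result) (by norm_num)) h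
  · exact small hna (le_of_eq_of_le (Cfsg.Agent.S2081.result) (by norm_num)) h
  · exact small hna (le_of_eq_of_le (Cfsg.Agent.S2082.result) (by norm_num)) h
  · exact small hna (le_of_eq_of_le (Cfsg.Agent.S2083.result) (by norm_num)) h
  · exact small hna (le_of_eq_of_le (Cfsg.Agent.S2084.result) (by norm_num)) h
  · exact small hna (le_of_eq_of_le (Cfsg.Agent.S2085.result) (by norm_num)) h

/-! ### Arithmetic -/

theorem two_pow_gt {f : ℕ} (hf : 3 ≤ f) : f + 1 < 2 ^ f := by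
  induction f, hf using Nat.le_induction with
  | base => norm_num
  | succ n hn ih => rw [pow_succ]; omega

theorem three_pow_gt {f : ℕ} (hf : 2 ≤ f) : 2 * f + 1 < 3 ^ f := by
  induction f, hf using Nat.le_induction with
  | base => norm_num
  | succ n hn ih => rw [pow_succ]; omega

theorem arith {p f N : ℕ} (hp : p.Prime) (hf : 1 ≤ f) (hN : N ≤ f ∨ (3 ≤ p ∧ N ≤ 2 * f)) : N < max 3 (p ^ f - 1) := by
  rw [lt_max_iff]
  rcases hN with hN | ⟨h3, hN⟩
  · rcases Nat.lt_or_ge f 3 with h | h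
    · left; omega
    · right
      have h1 := two_pow_gt h
      have h2 : 2 ^ f ≤ p ^ f := Nat.pow_le_pow_left hp.two_le f
      omega
  · rcases Nat.lt_or_ge f 2 with h | h
    · left; omega
    · right
      have h1 := three_pow_gt h
      have h2 : 3 ^ f ≤ p ^ f := Nat.pow_le_pow_left h3 f
      omega


/-- `6 f < (q - 1) q ^ 4` -/
theorem arith_heis {p f k : ℕ} (hp : p.Prime) (hf : 1 ≤ f) (hk : 4 ≤ k) : 6 * f < (p ^ f - 1) * (p ^ f) ^ k := by
  have h2 : 2 ^ f ≤ p ^ f := Nat.pow_le_pow_left hp.two_le f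
  have h3 : f < 2 ^ f := Nat.lt_two_pow_self
  have h4 : 2 ^ 1 ≤ 2 ^ f := Nat.pow_le_pow_right (by norm_num) hf
  have h5 : 1 ≤ p ^ f - 1 := by omega
  have h7 : 6 * f < (p ^ f) ^ 4 := by
    calc 6 * f < 8 * 2 ^ f := by omega
      _ = 2 ^ 3 * 2 ^ f := by norm_num
      _ ≤ (2 ^ f) ^ 3 * 2 ^ f := Nat.mul_le_mul_right _ (Nat.pow_le_pow_left (by omega) 3)
      _ = (2 ^ f) ^ 4 := by ring
      _ ≤ _ := Nat.pow_le_pow_left h2 4
  have h8 : (p ^ f) ^ 4 ≤ (p ^ f) ^ k := Nat.pow_le_pow_right (by omega) hk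
  have h9 : 1 * (p ^ f) ^ k ≤ (p ^ f - 1) * (p ^ f) ^ k := Nat.mul_le_mul_right _ h5
  omega

/-! ### The exceptional groups -/

theorem ol_g2 [Finite G] [IsSimpleGroup G] (hna : ¬ IsMulCommutative G) (h : Cfsg.Lie.IsoChevG2 G) : OL G := by
  obtain ⟨F, _, _, h3, ⟨e⟩⟩ := h
  obtain ⟨p, f, hp, hf, hF⟩ := exists_pf F
  have := Fact.mk hp
  have : CharP F p := charP_of_card_eq_prime_pow hF
  have hs := simple_of e
  have : Finite ↥(chevG2.group F) := Finite.of_equiv G e.toEquiv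
  have h1 := Cfsg.Agent.S2121.result p f hF (by rwa [← hF])
  refine OL.congr (((md_three (not_comm_of hna e)).max (Cfsg.Agent.H954.OutExc.md_g2 hs)).ol ?_) e.symm
  rw [h1, hF]
  refine arith hp hf ?_
  split_ifs with h
  · right
    omega
  · left
    omega

theorem ol_f4 [Finite G] [IsSimpleGroup G] (h : Cfsg.Lie.IsoF4 G) : OL G := by
  obtain ⟨F, _, _, ⟨e⟩⟩ := h
  obtain ⟨p, f, hp, hf, hF⟩ := exists_pf F
  have := Fact.mk hp
  have : CharP F p := charP_of_card_eq_prime_pow hF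
  have hs := simple_of e
  have h1 := Cfsg.Agent.S2122.result p f hF
  refine OL.congr ((Cfsg.Agent.H954.OutExcC.md_f4 hs).ol ?_) e.symm
  rw [h1, hF]
  refine lt_of_le_of_lt ?_ (arith_heis hp hf le_rfl)
  apply Nat.mul_le_mul_right
  have := Nat.le_of_dvd (by norm_num) (Nat.gcd_dvd_left 2 p)
  omega

theorem ol_e6 [Finite G] [IsSimpleGroup G] (h : Cfsg.Lie.IsoChevE6 G) : OL G := by
  obtain ⟨F, _, _, ⟨e⟩⟩ := h
  obtain ⟨p, f, hp, hf, hF⟩ := exists_pf F
  have := Fact.mk hp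
  have : CharP F p := charP_of_card_eq_prime_pow hF
  have hs := simple_of e
  have h1 := Cfsg.Agent.S2123.result p f hF
  refine OL.congr ((Cfsg.Agent.H954.OutExcC.md_e6 hs).ol ?_) e.symm
  rw [h1, hF]
  refine lt_of_le_of_lt ?_ (arith_heis hp hf (k := 10) (by norm_num))
  apply Nat.mul_le_mul_right
  have := Nat.le_of_dvd (by norm_num) (Nat.gcd_dvd_left 3 (p ^ f - 1))
  omega

theorem ol_e7 [Finite G] [IsSimpleGroup G] (hna : ¬ IsMulCommutative G) (h : Cfsg.Lie.IsoE7 G) : OL G := by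
  obtain ⟨F, _, _, ⟨e⟩⟩ := h
  obtain ⟨p, f, hp, hf, hF⟩ := exists_pf F
  have := Fact.mk hp
  have : CharP F p := charP_of_card_eq_prime_pow hF
  have hs := simple_of e
  have : Finite ↥(chevE7.group F) := Finite.of_equiv G e.toEquiv
  have h1 := Cfsg.Agent.S2124.result p f hF
  refine OL.congr (((md_three (not_comm_of hna e)).max (Cfsg.Agent.H954.OutExc.md_e7 hs)).ol ?_) e.symm
  rw [h1, hF]
  refine arith hp hf ?_
  rcases hp.eq_two_or_odd with rfl | ho
  · left
    have h2 : Nat.gcd 2 (2 ^ f - 1) = 1 := by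
      rw [← Nat.coprime_iff_gcd_eq_one, Nat.coprime_two_left, Nat.odd_iff]
      obtain ⟨k, rfl⟩ : ∃ k, f = k + 1 := ⟨f - 1, by omega⟩
      have : 0 < 2 ^ k := Nat.pos_of_ne_zero (by positivity)
      rw [pow_succ]
      omega
    rw [h2, one_mul]
  · right
    have := hp.two_le
    refine ⟨by omega, Nat.mul_le_mul_right _ (Nat.le_of_dvd (by norm_num) (Nat.gcd_dvd_left 2 (p ^ f - 1)))⟩

theorem ol_e8 [Finite G] [IsSimpleGroup G] (hna : ¬ IsMulCommutative G) (h : Cfsg.Lie.IsoE8 G) : OL G := by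
  obtain ⟨F, _, _, ⟨e⟩⟩ := h
  obtain ⟨p, f, hp, hf, hF⟩ := exists_pf F
  have := Fact.mk hp
  have : CharP F p := charP_of_card_eq_prime_pow hF
  have hs := simple_of e
  have : Finite ↥(chevE8.group F) := Finite.of_equiv G e.toEquiv
  have h1 := Cfsg.Agent.S2125.result p f hF
  refine OL.congr (((md_three (not_comm_of hna e)).max (Cfsg.Agent.H954.OutExc.md_e8 hs)).ol ?_) e.symm
  rw [h1, hF]
  exact arith hp hf (Or.inl le_rfl)

theorem ol_2e6 [Finite G] [IsSimpleGroup G] (h : Cfsg.Lie.Iso2E6 G) : OL G := by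
  obtain ⟨K, _, _, q, hq, hK, ⟨e⟩⟩ := h
  obtain ⟨p, f, hp, hf, rfl, _, hKp⟩ := exists_pf_of_pow hq hK
  have := Fact.mk hp
  have hs := simple_of e
  have h1 := Cfsg.Agent.S2130.result p f hKp hf
  refine OL.congr ((Cfsg.Agent.H954.OutExcC.md_twE6 hq hK hs).ol ?_) e.symm
  rw [h1]
  refine lt_of_le_of_lt ?_ (arith_heis hp hf (k := 10) (by norm_num))
  apply Nat.mul_le_mul_right
  have := Nat.le_of_dvd (by norm_num) (Nat.gcd_dvd_left 3 (p ^ f + 1))
  omega

theorem ol_3d4 [Finite G] [IsSimpleGroup G] (h : Cfsg.Lie.Iso3D4 G) : OL G := by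
  obtain ⟨K, _, _, q, hq, hK, ⟨e⟩⟩ := h
  obtain ⟨p, f, hp, hf, rfl, _, hKp⟩ := exists_pf_of_pow hq hK
  have := Fact.mk hp
  have hs := simple_of e
  have h1 := Cfsg.Agent.S2129.result p f hKp hf
  refine OL.congr ((Cfsg.Agent.H954.OutExc.md_twD4 hq hK hs).ol ?_) e.symm
  rw [h1]
  have h2 : 2 ^ f ≤ p ^ f := Nat.pow_le_pow_left hp.two_le f
  have h3 : f < 2 ^ f := Nat.lt_two_pow_self
  have h4 : 2 ^ 1 ≤ 2 ^ f := Nat.pow_le_pow_right (by norm_num) hf
  have h5 : (2 ^ f) ^ 3 ≤ (p ^ f) ^ 3 := Nat.pow_le_pow_left h2 3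
  have h6 : 4 * 2 ^ f ≤ (2 ^ f) ^ 3 := by
    calc 4 * 2 ^ f = 2 ^ 2 * 2 ^ f := by norm_num
      _ ≤ (2 ^ f) ^ 2 * 2 ^ f := Nat.mul_le_mul_right _ (Nat.pow_le_pow_left (by omega) 2)
      _ = _ := by ring
  omega

theorem ol_sz [Finite G] [IsSimpleGroup G] (h : Cfsg.Lie.IsoSuzuki G) : OL G := by
  obtain ⟨F, _, _, m, hm, hF, ⟨e⟩⟩ := h
  have hs := simple_of e
  have h1 := Cfsg.Agent.S2126.result hm hF
  refine OL.congr ((Cfsg.Agent.H954.OutExc.md_sz hF hs).ol ?_) e.symm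
  rw [h1, hF]
  have := two_pow_gt (f := 2 * m + 1) (by omega)
  omega

theorem ol_2f4 [Finite G] [IsSimpleGroup G] (h : Cfsg.Lie.Iso2F4 G) : OL G := by
  obtain ⟨F, _, _, m, hm, hF, ⟨e⟩⟩ := h
  have hs := simple_of e
  have h1 := Cfsg.Agent.S2128.result hm hF
  refine OL.congr ((Cfsg.Agent.H954.OutExc.md_twF4 hF hs).ol ?_) e.symm
  rw [h1, hF]
  have := two_pow_gt (f := 2 * m + 1) (by omega)
  omega

theorem ol_ree [Finite G] [IsSimpleGroup G] (h : Cfsg.Lie.IsoRee G) : OL G := by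
  obtain ⟨F, _, _, m, hm, hF, ⟨e⟩⟩ := h
  have hs := simple_of e
  have h1 := Cfsg.Agent.S2127.result hm hF
  refine OL.congr ((Cfsg.Agent.H954.OutExcC.md_ree hF hs).ol ?_) e.symm
  rw [h1, hF]
  have h2 : 2 * (2 * m + 1) + 1 < 3 ^ (2 * m + 1) := three_pow_gt (by omega)
  rw [Nat.lt_iff_add_one_le, Nat.le_div_iff_mul_le (by norm_num)]
  omega

end Cfsg.Agent.H954.OutLinB
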