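import Cfsg.Agent.H954.OutLinB
import Cfsg.Agent.H685.OutDegCl
import Cfsg.Agent.H685.AcdMain
import Cfsg.Agent.S0254

/-!
# `|Out G| < χ(1) ^ 2` for every known simple group (helper954, for S4830)
-/

set_option autoImplicit false

namespace Cfsg.Agent.H954.OutAllD

open Cfsg Cfsg.Agent.H954.OutDeg Cfsg.Agent.H954.OutLinB

universe u v

variable {G : Type u} [Group G]

theorem od_alternating [Finite G] [IsSimpleGroup G] (hna : ¬ IsMulCommutative G) (h : Cfsg.IsAlternating G) :
    OD G := by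
  obtain ⟨n, hn, ⟨e⟩⟩ := h
  rcases eq_or_ne n 6 with rfl | h6
  · have : Fact (Nat.Prime 3) := ⟨by norm_num⟩
    have : Fintype (GaloisField 3 2) := Fintype.ofFinite _
    have hF : Fintype.card (GaloisField 3 2) = 9 := by
      rw [← Nat.card_eq_fintype_card, GaloisField.card 3 2 (by norm_num)]
      norm_num
    obtain ⟨e'⟩ := Cfsg.Agent.S0254.result hF
    have e2 := e.trans e'.symm
    have := simple_of e2
    have h1 := Cfsg.Agent.H685.OutDegCl.psl (F := GaloisField 3 2) le_rfl (fun _ => by rw [hF]; norm_num) inferInstance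
      (not_comm_of hna e2)
    exact h1.congr e2.symm
  · exact (ol_alternating hna hn h6 e).od

/-- **`|Out G| < χ(1) ^ 2`** for every nonlinear irreducible character `χ` of a nonabelian known simple group `G`. -/
theorem od [Finite G] [IsSimpleGroup G] (hna : ¬ IsMulCommutative G) (h : Cfsg.IsKnownSimple' G) : OD G := by
  rcases h with h | h | h | h | h | h | h | h | h | h
  · exfalso
    apply hna
    have : Fact (Nat.card G).Prime := ⟨h⟩
    have : IsCyclic G := isCyclic_of_prime_card rfl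
    infer_instance
  · exact od_alternating hna h
  · obtain ⟨F, _, _, n, hn, h4, ⟨e⟩⟩ := h
    exact (Cfsg.Agent.H685.OutDegCl.psl hn h4 (simple_of e) (not_comm_of hna e)).congr e.symm
  · obtain ⟨F, _, _, m, hm, h3, ⟨e⟩⟩ := h
    exact (Cfsg.Agent.H685.OutDegCl.psp hm h3 (simple_of e) (not_comm_of hna e)).congr e.symm
  · obtain ⟨F, _, _, n, q, hF, hn, h32, ⟨e⟩⟩ := h
    exact (Cfsg.Agent.H685.OutDegCl.psu hF hn h32 (simple_of e) (not_comm_of hna e)).congr e.symm
  · obtain ⟨F, _, _, m, hm, ho, ⟨e⟩⟩ := h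
    exact (Cfsg.Agent.H685.OutDegCl.pomega_odd hm ho (simple_of e) (not_comm_of hna e)).congr e.symm
  · obtain ⟨F, _, _, m, hm, ⟨e⟩⟩ := h
    exact (Cfsg.Agent.H685.OutDegCl.pomega_plus hm (simple_of e) (not_comm_of hna e)).congr e.symm
  · obtain ⟨F, _, _, m, a, b, hm, hab, ⟨e⟩⟩ := h
    exact (Cfsg.Agent.H685.OutDegCl.pomega_minus hm a b hab (simple_of e) (not_comm_of hna e)).congr e.symm
  · rcases h with h | h | h | h | h | h | h | h | h | h | h
    · exact (ol_g2 hna h).od
    · exact (ol_f4 h).od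
    · exact (ol_e6 h).od
    · exact (ol_e7 hna h).od
    · exact (ol_e8 hna h).od
    · exact (ol_2e6 h).od
    · exact (ol_3d4 h).od
    · exact (ol_sz h).od
    · exact (ol_ree h).od
    · exact (ol_2f4 h).od
    · exact (ol_tits hna h).od
  · exact (ol_sporadic hna h).od

/-- The hypothesis of `H685.Acd.reduction`. -/
theorem outDeg (hK : ∀ (X : Type u) [Group X] [Finite X] [IsSimpleGroup X], Cfsg.IsKnownSimple' X) :
    Cfsg.Agent.H685.Acd.OutDeg.{u} := fun S _ _ _ hna χ hχ =>
  ⟨md_three hna χ hχ, od hna (hK S) χ hχ⟩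

end Cfsg.Agent.H954.OutAllD
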