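import Cfsg.Agent.H954.OutHeis
import Cfsg.Agent.H934.HeisChev

/-!
# `|Out X| < χ(1)`: the tools (helper954, for S4830 / S4831)

* `OL X` : `|Out X| < χ(1)` for all irreducible characters `χ` of degree `≠ 1`;
* `md_half` : one-parameter subgroups `x : F → X` normalized by the squares;
* `md_heis'` : special groups with fused centre.
-/

set_option autoImplicit false

namespace Cfsg.Agent.H954.OutDeg

open Cfsg Cfsg.Agent.H686.CharKit Cfsg.Agent.Characters.Core Cfsg.Agent.H677.CodMultiset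
open scoped ComplexConjugate

universe u v w

/-- `|Out X| < χ(1)` for all irreducible characters of degree `≠ 1`. -/
def OL (X : Type u) [Group X] : Prop :=
  ∀ χ : IrrCharacter X, charDegree (χ : X → ℂ) ≠ 1 → Nat.card (Cfsg.Out X) < charDegree (χ : X → ℂ)

theorem MD.ol {X : Type u} [Group X] {d : ℕ} (h : MD X d) (hd : Nat.card (Cfsg.Out X) < d) : OL X :=
  fun χ hχ => lt_of_lt_of_le hd (h χ hχ)

theorem OL.od {X : Type u} [Group X] (h : OL X) : OD X := fun χ hχ => by
  have h1 := h χ hχ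
  nlinarith

theorem OL.congr {X : Type u} {Y : Type v} [Group X] [Group Y] (h : OL X) (e : X ≃* Y) : OL Y := by
  intro χ hχ
  have h1 : IsIrrCharacter X ((χ : Y → ℂ) ∘ (e : X →* Y)) := isIrr_comp (e : X →* Y) e.surjective χ.2
  have h2 : charDegree ((χ : Y → ℂ) ∘ (e : X →* Y)) = charDegree (χ : Y → ℂ) := by
    apply Cfsg.Agent.Blocks.Basic.charDegree_of_eq
    show (χ : Y → ℂ) (e 1) = _
    rw [map_one, Cfsg.Agent.Blocks.Basic.irr_one_eq_charDegree χ.2]
  have h3 := h ⟨_, h1⟩ (by rw [h2]; exact hχ)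
  rwa [h2, Cfsg.Agent.H934.OutB.card_out_congr e] at h3

/-- distinct linear constituents -/
theorem orbit_le {A : Type u} [Group A] [Fintype A] {θ : A → ℂ} (hθ : IsCharacter A θ) {ι : Type v} [Finite ι]
    (μ : ι → (A →* ℂˣ)) (hμ : Function.Injective μ) (h : ∀ i, classInner θ (fun a => (μ i a : ℂ)) ≠ 0) :
    Nat.card ι ≤ charDegree θ := by
  classical
  have := Fintype.ofFinite ι
  have := finite_irr (G := A)
  have := Fintype.ofFinite (IrrCharacter A)
  obtain ⟨m, hm⟩ := exists_nat_comb hθ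
  let J : ι → IrrCharacter A := fun i => ⟨_, Characters.Linear.isIrrCharacter_hom (μ i)⟩
  have hJ : Function.Injective J := by
    intro i j hij
    apply hμ
    ext a
    exact congrFun (congrArg Subtype.val hij) a
  have hmc : θ = ∑ ψ : IrrCharacter A, (m ψ : ℂ) • (ψ : A → ℂ) := by
    rw [hm]
    exact Finset.sum_congr rfl fun ψ _ => by rw [Nat.cast_smul_eq_nsmul]
  have hmJ : ∀ i, 1 ≤ m (J i) := by
    intro i
    rw [Nat.one_le_iff_ne_zero]
    intro h0
    apply h i
    rw [hmc, classInner_sum_left]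
    refine Finset.sum_eq_zero fun ψ _ => ?_
    rw [classInner_smul_left]
    rcases eq_or_ne ψ (J i) with rfl | hne
    · rw [h0, Nat.cast_zero, zero_mul]
    · rw [classInner_irr_ne ψ.2 (Characters.Linear.isIrrCharacter_hom (μ i)) (fun h => hne (Subtype.ext h)), mul_zero]
  have hdeg : charDegree θ = ∑ ψ : IrrCharacter A, m ψ * charDegree (ψ : A → ℂ) := by
    have h1 := charDegree_cast hθ
    have h2 : (charDegree θ : ℂ) = ((∑ ψ : IrrCharacter A, m ψ * charDegree (ψ : A → ℂ) : ℕ) : ℂ) := by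
      rw [h1, hmc, Finset.sum_apply]
      push_cast
      refine Finset.sum_congr rfl fun ψ _ => ?_
      rw [Pi.smul_apply, smul_eq_mul, Cfsg.Agent.Blocks.Basic.irr_one_eq_charDegree ψ.2]
    exact_mod_cast h2
  have hJd : ∀ i, charDegree (J i : A → ℂ) = 1 := by
    intro i
    apply Cfsg.Agent.Blocks.Basic.charDegree_of_eq
    show ((μ i 1 : ℂˣ) : ℂ) = _
    rw [map_one]
    simp
  rw [hdeg, Nat.card_eq_fintype_card]
  calc Fintype.card ι = ∑ i : ι, 1 := by simp
    _ ≤ ∑ i : ι, m (J i) * charDegree (J i : A → ℂ) :=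
      Finset.sum_le_sum fun i _ => by rw [hJd, mul_one]; exact hmJ i
    _ = ∑ ψ ∈ Finset.univ.image J, m ψ * charDegree (ψ : A → ℂ) := by
      rw [Finset.sum_image fun i _ j _ h => hJ h]
    _ ≤ _ := Finset.sum_le_sum_of_subset (Finset.subset_univ _)

theorem card_squares (F : Type v) [Field F] [Fintype F] :
    Fintype.card F / 2 ≤ Nat.card {s : F // ∃ c : F, c ≠ 0 ∧ s = c ^ 2} := by
  classical
  have h1 := Finset.card_le_mul_card_image (s := (Finset.univ : Finset F).erase 0) (f := fun c => c ^ 2) (n := 2) (by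
    intro a ha
    obtain ⟨c, -, rfl⟩ := Finset.mem_image.1 ha
    have h2 : (Finset.filter (fun x => x ^ 2 = c ^ 2) ((Finset.univ : Finset F).erase 0)) ⊆ {c, -c} := by
      intro x hx
      rw [Finset.mem_filter] at hx
      rw [Finset.mem_insert, Finset.mem_singleton]
      exact sq_eq_sq_iff_eq_or_eq_neg.1 hx.2
    exact (Finset.card_le_card h2).trans Finset.card_le_two)
  have h2 : Nat.card {s : F // ∃ c : F, c ≠ 0 ∧ s = c ^ 2} =
      (((Finset.univ : Finset F).erase 0).image fun c => c ^ 2).card := by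
    rw [Nat.card_eq_fintype_card, Fintype.card_subtype]
    congr 1
    ext s
    simp only [Finset.mem_filter, Finset.mem_univ, true_and, Finset.mem_image, Finset.mem_erase, ne_eq, and_true]
    exact exists_congr fun c => and_congr_right fun _ => eq_comm
  rw [Finset.card_erase_of_mem (Finset.mem_univ _), Finset.card_univ] at h1
  rw [h2]
  omega

/-- **Degree bound from a one-parameter subgroup normalized by the squares.** -/
theorem md_half {X : Type u} [Group X] [Finite X] [IsSimpleGroup X] {F : Type v} [Field F] [Fintype F] (x : F → X)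
    (hadd : ∀ s t, x (s + t) = x s * x t) (hone : ∃ t, x t ≠ 1)
    (htor : ∀ c : F, c ≠ 0 → ∀ t, ∃ h, h * x t * h⁻¹ = x (c ^ 2 * t)) : MD X (Fintype.card F / 2) := by
  classical
  intro χ hχ
  have h0 : x 0 = 1 := by
    have h := hadd 0 0
    rw [add_zero] at h
    exact mul_right_cancel (b := x 0) (by rw [← h, one_mul])
  let f : Multiplicative F →* X :=
    { toFun := fun t => x t.toAdd
      map_one' := h0
      map_mul' := fun s t => hadd _ _ }
  let A := Multiplicative F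
  have := finite_irr (G := A)
  have := Fintype.ofFinite (IrrCharacter A)
  have hchar : IsCharacter A ((χ : X → ℂ) ∘ f) := isCharacter_comp f (isIrr_isCharacter χ.2)
  have hcl := isClassFunction_def.1 (isIrr_isClassFunction χ.2)
  obtain ⟨m, hm⟩ := exists_nat_comb hchar
  have hlin : ∀ ψ : IrrCharacter A, ∃ g : A →* ℂˣ, (ψ : A → ℂ) = fun a => (g a : ℂ) := fun ψ =>
    Characters.Linear.exists_hom_of_isIrrCharacter ψ.2 (Characters.CCBasic.irr_apply_one_of_comm mul_comm ψ.2)
  choose g hg using hlin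
  have hmc : ((χ : X → ℂ) ∘ f) = ∑ ψ : IrrCharacter A, (m ψ : ℂ) • (ψ : A → ℂ) := by
    rw [hm]
    exact Finset.sum_congr rfl fun ψ _ => by rw [Nat.cast_smul_eq_nsmul]
  -- a nontrivial constituent
  obtain ⟨t0, ht0⟩ := hone
  obtain ⟨ψ, hψm, hψ1⟩ : ∃ ψ : IrrCharacter A, m ψ ≠ 0 ∧ g ψ ≠ 1 := by
    by_contra hcon
    push Not at hcon
    have h1 : (χ : X → ℂ) (x t0) = (χ : X → ℂ) 1 := by
      have h2 := congrFun hmc (Multiplicative.ofAdd t0)
      have h3 := congrFun hmc 1
      rw [Finset.sum_apply] at h2 h3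
      have h4 : (χ : X → ℂ) (x t0) = ((χ : X → ℂ) ∘ f) (Multiplicative.ofAdd t0) := rfl
      have h5 : (χ : X → ℂ) 1 = ((χ : X → ℂ) ∘ f) 1 := by
        show _ = (χ : X → ℂ) (f 1)
        rw [map_one]
      rw [h4, h5, h2, h3]
      refine Finset.sum_congr rfl fun ψ _ => ?_
      by_cases h6 : m ψ = 0
      · rw [h6, Pi.smul_apply, Pi.smul_apply, Nat.cast_zero, zero_smul, zero_smul]
      · rw [Pi.smul_apply, Pi.smul_apply, hg ψ, hcon ψ h6]
        rfl
    have h2 : x t0 ∈ chKer χ := mem_chKer.2 h1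
    rw [chKer_eq_bot (ne_one hχ), Subgroup.mem_bot] at h2
    exact ht0 h2
  -- multiplication by `s`
  let ml : F → (A →* A) := fun s =>
    { toFun := fun a => Multiplicative.ofAdd (s * a.toAdd)
      map_one' := by
        show Multiplicative.ofAdd (s * 0) = 1
        rw [mul_zero]; rfl
      map_mul' := fun a b => by
        show Multiplicative.ofAdd (s * (a.toAdd + b.toAdd)) = Multiplicative.ofAdd (s * a.toAdd + s * b.toAdd)
        rw [mul_add] }
  have hml : ∀ s (a : A), ml s a = Multiplicative.ofAdd (s * a.toAdd) := fun _ _ => rfl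
  let ι := {s : F // ∃ c : F, c ≠ 0 ∧ s = c ^ 2}
  have h1 := orbit_le hchar (ι := ι) (fun s => (g ψ).comp (ml s)) ?_ ?_
  · have h2 : charDegree ((χ : X → ℂ) ∘ f) = charDegree (χ : X → ℂ) := by
      apply Cfsg.Agent.Blocks.Basic.charDegree_of_eq
      show (χ : X → ℂ) (f 1) = _
      rw [map_one, Cfsg.Agent.Blocks.Basic.irr_one_eq_charDegree χ.2]
    rw [h2] at h1
    exact (card_squares F).trans h1
  · intro s s' hss
    by_contra hne
    apply hψ1
    refine MonoidHom.ext fun a => ?_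
    have hne' : (s : F) - s' ≠ 0 := sub_ne_zero.2 fun h => hne (Subtype.ext h)
    have h2 := DFunLike.congr_fun hss (Multiplicative.ofAdd (a.toAdd / ((s : F) - s')))
    have h3 : g ψ (Multiplicative.ofAdd ((s : F) * (a.toAdd / ((s : F) - s')))) =
      g ψ (Multiplicative.ofAdd ((s' : F) * (a.toAdd / ((s : F) - s')))) := h2
    have h4 : a = Multiplicative.ofAdd ((s : F) * (a.toAdd / ((s : F) - s'))) *
        (Multiplicative.ofAdd ((s' : F) * (a.toAdd / ((s : F) - s'))))⁻¹ := by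
      rw [← ofAdd_neg, ← ofAdd_add]
      have h5 : a.toAdd = (s : F) * (a.toAdd / ((s : F) - s')) + -((s' : F) * (a.toAdd / ((s : F) - s'))) := by
        field_simp
        ring
      rw [← h5]
      rfl
    rw [h4, map_mul, map_inv, h3, mul_inv_cancel, MonoidHom.one_apply]
  · rintro ⟨s, c, hc, rfl⟩
    have hc2 : c ^ 2 ≠ 0 := pow_ne_zero 2 hc
    have h2 : classInner ((χ : X → ℂ) ∘ f) (fun a => (((g ψ).comp (ml (c ^ 2))) a : ℂ)) =
        classInner ((χ : X → ℂ) ∘ f) (fun a => (g ψ a : ℂ)) := by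
      rw [classInner_def, classInner_def]
      congr 1
      let e : A ≃ A :=
        { toFun := fun a => Multiplicative.ofAdd (c ^ 2 * a.toAdd)
          invFun := fun a => Multiplicative.ofAdd ((c ^ 2)⁻¹ * a.toAdd)
          left_inv := fun a => by
            show Multiplicative.ofAdd ((c ^ 2)⁻¹ * (c ^ 2 * a.toAdd)) = a
            rw [inv_mul_cancel_left₀ hc2]; rfl
          right_inv := fun a => by
            show Multiplicative.ofAdd (c ^ 2 * ((c ^ 2)⁻¹ * a.toAdd)) = a
            rw [mul_inv_cancel_left₀ hc2]; rfl }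
      refine Fintype.sum_equiv e _ _ fun a => ?_
      have h3 : ((χ : X → ℂ) ∘ f) a = ((χ : X → ℂ) ∘ f) (e a) := by
        obtain ⟨h, hh⟩ := htor c hc a.toAdd
        show (χ : X → ℂ) (x a.toAdd) = (χ : X → ℂ) (x (c ^ 2 * a.toAdd))
        rw [← hh, hcl]
      rw [h3]
      rfl
    show classInner ((χ : X → ℂ) ∘ f) (fun a => (((g ψ).comp (ml (c ^ 2))) a : ℂ)) ≠ 0
    rw [h2, hmc, classInner_sum_left, Finset.sum_eq_single ψ]
    · rw [classInner_smul_left, ← hg ψ, classInner_irr_self ψ.2, mul_one]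
      exact_mod_cast hψm
    · intro ψ' _ hne
      rw [classInner_smul_left, ← hg ψ, classInner_irr_ne ψ'.2 ψ.2 (fun h => hne (Subtype.ext h)), mul_zero]
    · intro h
      exact absurd (Finset.mem_univ ψ) h

/-- version for `SL₂` -/
theorem md_half_SL {X : Type u} [Group X] [Finite X] [IsSimpleGroup X] {F : Type v} [Field F] [Fintype F]
    (π : Matrix.SpecialLinearGroup (Fin 2) F →* X) (hne : ∃ t, π (Cfsg.Agent.H934.HeisChev.up t) ≠ 1) :
    MD X (Fintype.card F / 2) := by
  refine md_half (fun t => π (Cfsg.Agent.H934.HeisChev.up t)) ?_ hne ?_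
  · intro s t
    rw [← map_mul]
    congr 1
    apply Subtype.ext
    show !![1, s + t; 0, 1] = !![1, s; 0, 1] * !![1, t; 0, 1]
    rw [Matrix.mul_fin_two]
    simp [add_comm]
  · intro c hc t
    refine ⟨π (Cfsg.Agent.H934.HeisChev.dg c hc), ?_⟩
    rw [mul_inv_eq_iff_eq_mul, ← map_mul, ← map_mul, Cfsg.Agent.H934.HeisChev.dg_up]

/-- **Degree bound for a special group with fused centre**, simple groups. -/
theorem heis_gen {P : Type v} {X : Type u} [Group P] [Finite P] [Group X] [Finite X] [IsSimpleGroup X] (f : P →* X)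
    {Z : Subgroup P} (hyp : Cfsg.Agent.H934.Heis.Hyp Z (⊤ : Subgroup P))
    (hZ : ∀ x ∈ Z, ∀ y ∈ Z, x ≠ 1 → y ≠ 1 → IsConj (f x) (f y)) (hne : ∃ x ∈ Z, f x ≠ 1)
    (χ : IrrCharacter X) (hχ : charDegree (χ : X → ℂ) ≠ 1) :
    (Nat.card Z - 1) ^ 2 * Nat.card P ≤ Nat.card Z * charDegree (χ : X → ℂ) ^ 2 := by
  obtain ⟨t, ht, hπt⟩ := hne
  have ht1 : t ≠ 1 := fun h => hπt (by rw [h, map_one])
  have hchar : IsCharacter P ((χ : X → ℂ) ∘ f) := isCharacter_comp f (isIrr_isCharacter χ.2)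
  have hcl := isClassFunction_def.1 (isIrr_isClassFunction χ.2)
  have h1 := Cfsg.Agent.H954.OutHeis.heis_le (P := P) (Z := Z) hyp.central ?_ hchar ((χ : X → ℂ) (f t)) ?_ ?_ ?_
  · have h2 : charDegree ((χ : X → ℂ) ∘ f) = charDegree (χ : X → ℂ) := by
      apply Cfsg.Agent.Blocks.Basic.charDegree_of_eq
      show (χ : X → ℂ) (f 1) = _
      rw [map_one, Cfsg.Agent.Blocks.Basic.irr_one_eq_charDegree χ.2]
    rwa [h2] at h1
  · intro x hx z hz
    obtain ⟨y, -, he⟩ := hyp.special x trivial hx z hz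
    exact ⟨y, he⟩
  · intro z hz hz1
    obtain ⟨g, hg⟩ := isConj_iff.1 (hZ t ht z hz ht1 hz1)
    show (χ : X → ℂ) (f z) = (χ : X → ℂ) (f t)
    rw [← hg, hcl]
  · intro h
    have h2 : f t ∈ chKer χ := mem_chKer.2 (by
      have h3 : (χ : X → ℂ) (f 1) = (χ : X → ℂ) (f t) := h
      rw [← h3, map_one])
    rw [chKer_eq_bot (ne_one hχ), Subgroup.mem_bot] at h2
    exact hπt h2
  · intro h
    rw [h, Subgroup.mem_bot] at ht
    exact ht1 ht

/-- the same for `MD` -/
theorem md_heis {P : Type v} {X : Type u} [Group P] [Finite P] [Group X] [Finite X] [IsSimpleGroup X] (f : P →* X)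
    {Z : Subgroup P} (hyp : Cfsg.Agent.H934.Heis.Hyp Z (⊤ : Subgroup P))
    (hZ : ∀ x ∈ Z, ∀ y ∈ Z, x ≠ 1 → y ≠ 1 → IsConj (f x) (f y)) (hne : ∃ x ∈ Z, f x ≠ 1) {k : ℕ}
    (hk : Nat.card Z * k ^ 2 ≤ Nat.card P) : MD X ((Nat.card Z - 1) * k) := by
  intro χ hχ
  have h1 := heis_gen f hyp hZ hne χ hχ
  have h0 : 0 < Nat.card Z := Nat.card_pos
  have h2 : Nat.card Z * ((Nat.card Z - 1) * k) ^ 2 ≤ Nat.card Z * charDegree (χ : X → ℂ) ^ 2 := by
    calc Nat.card Z * ((Nat.card Z - 1) * k) ^ 2 = (Nat.card Z - 1) ^ 2 * (Nat.card Z * k ^ 2) := by ring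
      _ ≤ (Nat.card Z - 1) ^ 2 * Nat.card P := Nat.mul_le_mul_left _ hk
      _ ≤ _ := h1
  exact (Nat.pow_le_pow_iff_left two_ne_zero).1 (Nat.le_of_mul_le_mul_left h2 h0)

end Cfsg.Agent.H954.OutDeg
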