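import Cfsg.Agent.H954.OutLinB
import Cfsg.Agent.H685.OutLinCl
import Cfsg.Agent.H404.Avg.OutPslTwo
import Cfsg.Agent.S0254

/-!
# `|Out G| < χ(1)` for every known simple group (helper954, for S4830 and S4831)
-/

set_option autoImplicit false

namespace Cfsg.Agent.H954.OutAllL

open Cfsg Cfsg.Agent.H954.OutDeg Cfsg.Agent.H954.OutLinB

universe u v

variable {G : Type u} [Group G]

theorem ol_alternating' [Finite G] [IsSimpleGroup G] (hna : ¬ IsMulCommutative G) (h : Cfsg.IsAlternating G) :
    OL G := by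
  obtain ⟨n, hn, ⟨e⟩⟩ := h
  rcases eq_or_ne n 6 with rfl | h6
  · have : Fact (Nat.Prime 3) := ⟨by norm_num⟩
    have : Fintype (GaloisField 3 2) := Fintype.ofFinite _
    have hF : Fintype.card (GaloisField 3 2) = 9 := by
      rw [← Nat.card_eq_fintype_card, GaloisField.card 3 2 (by norm_num)]
      norm_num
    obtain ⟨e'⟩ := Cfsg.Agent.S0254.result hF
    have e2 := e.trans e'.symm
    have := simple_of e2
    have h1 := Cfsg.Agent.H404.Avg.ol_psl_two (F := GaloisField 3 2) (not_comm_of hna e2) (by rw [hF]; norm_num)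
    exact h1.congr e2.symm
  · exact ol_alternating hna hn h6 e

/-- **`|Out G| < χ(1)`** for every nonlinear irreducible character `χ` of a nonabelian known simple group `G`. -/
theorem ol [Finite G] [IsSimpleGroup G] (hna : ¬ IsMulCommutative G) (h : Cfsg.IsKnownSimple' G) : OL G := by
  rcases h with h | h | h | h | h | h | h | h | h | h
  · exfalso
    apply hna
    have : Fact (Nat.card G).Prime := ⟨h⟩
    have : IsCyclic G := isCyclic_of_prime_card rfl
    infer_instance
  · exact ol_alternating' hna h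
  · obtain ⟨F, _, _, n, hn, h4, ⟨e⟩⟩ := h
    rcases eq_or_lt_of_le hn with h2 | h2
    · subst h2
      have := simple_of e
      exact (Cfsg.Agent.H404.Avg.ol_psl_two (F := F) (not_comm_of hna e) (h4 rfl)).congr e.symm
    · exact (Cfsg.Agent.H685.OutLinCl.psl h2 (simple_of e) (not_comm_of hna e)).congr e.symm
  · obtain ⟨F, _, _, m, hm, h3, ⟨e⟩⟩ := h
    exact (Cfsg.Agent.H685.OutLinCl.psp hm h3 (simple_of e) (not_comm_of hna e)).congr e.symm
  · obtain ⟨F, _, _, n, q, hF, hn, h32, ⟨e⟩⟩ := h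
    exact (Cfsg.Agent.H685.OutLinCl.psu hF hn h32 (simple_of e) (not_comm_of hna e)).congr e.symm
  · obtain ⟨F, _, _, m, hm, ho, ⟨e⟩⟩ := h
    exact (Cfsg.Agent.H685.OutLinCl.pomega_odd hm ho (simple_of e) (not_comm_of hna e)).congr e.symm
  · obtain ⟨F, _, _, m, hm, ⟨e⟩⟩ := h
    exact (Cfsg.Agent.H685.OutLinCl.pomega_plus hm (simple_of e) (not_comm_of hna e)).congr e.symm
  · obtain ⟨F, _, _, m, a, b, hm, hab, ⟨e⟩⟩ := h
    exact (Cfsg.Agent.H685.OutLinCl.pomega_minus hm a b hab (simple_of e) (not_comm_of hna e)).congr e.symm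
  · rcases h with h | h | h | h | h | h | h | h | h | h | h
    · exact ol_g2 hna h
    · exact ol_f4 h
    · exact ol_e6 h
    · exact ol_e7 hna h
    · exact ol_e8 hna h
    · exact ol_2e6 h
    · exact ol_3d4 h
    · exact ol_sz h
    · exact ol_ree h
    · exact ol_2f4 h
    · exact ol_tits hna h
  · exact ol_sporadic hna h

end Cfsg.Agent.H954.OutAllL
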