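import Cfsg.Agent.H954.TSing4

/-!
# Invariant totally singular subspaces of given dimension (helper954)

`x` an isometry of the nondegenerate space `V`, `x ^ r = 1`, `fx x ⊥ cm x`.

* `exists_inv_ts` : gluing a totally singular subspace of `fx x` and an invariant one of `cm x`;
* `isPlus_fx_iff` : the type of `fx x` if `i = ord_r(q)` is even, `dim cm x = i A`;
* `exists_inv_ts_even`, `exists_inv_ts_odd` : the sufficient conditions.
-/

set_option autoImplicit false

namespace Cfsg.Agent.H954.TSing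

open Module QuadraticMap Cfsg.Agent.H951 Cfsg.Agent.H955 Cfsg.Agent.LieClassical.OrthCore

variable {F V : Type*} [Field F] [AddCommGroup V] [Module F V] {Q : QuadraticForm F V}
  {x : Module.End F V} {r : ℕ}

theorem orth_fx_cm (hQ : ∀ v, Q (x v) = Q v) : Orth Q (fx x) (cm x) := by
  intro u hu w hw
  obtain ⟨v, rfl⟩ := mem_cm.1 hw
  have h1 := polar_isom hQ u v
  rw [mem_fx.1 hu] at h1
  rw [polar_sub_right, h1, sub_self]

theorem nondeg_fx (hQn : Nondeg Q) (hQ : ∀ v, Q (x v) = Q v) (hr : (r : F) ≠ 0) (hx : x ^ r = 1) :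
    Nondeg (res Q (fx x)) := by
  rw [nondeg_res_iff]
  intro v hv hvw
  refine hQn v fun y => ?_
  have hy : y ∈ fx x ⊔ cm x := by
    rw [(isCompl_fx_cm hr hx).sup_eq_top]; exact Submodule.mem_top
  obtain ⟨a, ha, b, hb, rfl⟩ := Submodule.mem_sup.1 hy
  rw [polar_add_right, hvw a ha, orth_fx_cm hQ v hv b hb, add_zero]

theorem nondeg_cm (hQn : Nondeg Q) (hQ : ∀ v, Q (x v) = Q v) (hr : (r : F) ≠ 0) (hx : x ^ r = 1) :
    Nondeg (res Q (cm x)) := by
  rw [nondeg_res_iff]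
  intro v hv hvw
  refine hQn v fun y => ?_
  have hy : y ∈ fx x ⊔ cm x := by
    rw [(isCompl_fx_cm hr hx).sup_eq_top]; exact Submodule.mem_top
  obtain ⟨a, ha, b, hb, rfl⟩ := Submodule.mem_sup.1 hy
  rw [polar_add_right, hvw b hb, polar_comm, orth_fx_cm hQ a ha v hv, add_zero]

theorem perp_cm [FiniteDimensional F V] (hQn : Nondeg Q) (hQ : ∀ v, Q (x v) = Q v) (hr : (r : F) ≠ 0)
    (hx : x ^ r = 1) : perp Q (cm x) = fx x := by
  symm
  apply Submodule.eq_of_le_of_finrank_eq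
  · intro v hv
    rw [mem_perp']
    exact fun w hw => orth_fx_cm hQ v hv w hw
  · have h1 := finrank_add_perp hQn (cm x)
    have h2 := finrank_fx_add_cm (F := F) hr hx
    omega

theorem perp_fx [FiniteDimensional F V] (hQn : Nondeg Q) (hQ : ∀ v, Q (x v) = Q v) (hr : (r : F) ≠ 0)
    (hx : x ^ r = 1) : perp Q (fx x) = cm x := by
  rw [← perp_cm hQn hQ hr hx, perp_perp hQn]

/-- gluing -/
theorem exists_inv_ts [Fintype F] [FiniteDimensional F V] [Fact r.Prime] (hQ : ∀ v, Q (x v) = Q v)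
    (hr : (r : F) ≠ 0) (hx : x ^ r = 1) {W₀ W₁ : Submodule F V} (h0 : W₀ ≤ fx x) (h0s : TS Q W₀)
    (h1 : W₁ ≤ cm x) (h1i : Inv x W₁) (h1s : TS Q W₁) {w b : ℕ} (hw : w ≤ finrank F W₀)
    (hb : orderOf (Fintype.card F : ZMod r) * b ≤ finrank F W₁) :
    ∃ W : Submodule F V, finrank F W = orderOf (Fintype.card F : ZMod r) * b + w ∧ TS Q W ∧ Inv x W := by
  obtain ⟨U₀, hU₀, hU₀d⟩ := exists_sub W₀ hw
  obtain ⟨U₁, hU₁, hU₁i, hU₁d⟩ := exists_inv_finrank hr hx h1i h1 hb
  refine ⟨U₁ ⊔ U₀, ?_, ?_, ?_⟩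
  · rw [finrank_sup_of_disj, hU₁d, hU₀d]
    rw [eq_bot_iff, ← (isCompl_fx_cm hr hx).inf_eq_bot]
    exact fun v hv => ⟨h0 (hU₀ hv.2), h1 (hU₁ hv.1)⟩
  · exact (h1s.mono hU₁).sup (h0s.mono hU₀) fun u hu w hw => by
      rw [polar_comm]; exact orth_fx_cm hQ w (h0 (hU₀ hw)) u (h1 (hU₁ hu))
  · exact hU₁i.sup (inv_of_le_fx (hU₀.trans h0))

theorem restrict_pow_coe {U : Submodule F V} (hU : Inv x U) (n : ℕ) (v : U) :
    (((x.restrict hU) ^ n) v : V) = (x ^ n) (v : V) := by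
  induction n generalizing v with
  | zero => rfl
  | succ n ih =>
    rw [pow_succ, pow_succ, Module.End.mul_apply, Module.End.mul_apply, ih]
    rfl

/-- type of `[V, x]` -/
theorem isPlus_cm_iff [Fintype F] [FiniteDimensional F V] [Fact r.Prime] (hr2 : 2 < r) (hQn : Nondeg Q)
    (hQ : ∀ v, Q (x v) = Q v) (hr : (r : F) ≠ 0) (hx : x ^ r = 1) {i A : ℕ}
    (hi : orderOf (Fintype.card F : ZMod r) = i) (hie : Even i) (hA : finrank F (cm x) = i * A) :
    IsPlus (res Q (cm x)) ↔ Even A := by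
  have hI : Inv x (cm x) := inv_cm
  refine isPlus_iff_even (nondeg_cm hQn hQ hr hx) (x := x.restrict hI) hr2 hr (fun v => hQ v) ?_ ?_ hi hie hA
  · refine LinearMap.ext fun v => Subtype.ext ?_
    rw [restrict_pow_coe, hx]; rfl
  · intro v hv
    apply Subtype.ext
    show (v : V) = 0
    rw [← Submodule.mem_bot F, ← (isCompl_fx_cm hr hx).inf_eq_bot]
    exact ⟨mem_fx.2 (congrArg Subtype.val hv), v.2⟩

/-- type of `C_V(x)` -/
theorem isPlus_fx_iff [Fintype F] [FiniteDimensional F V] [Fact r.Prime] (hr2 : 2 < r) (hQn : Nondeg Q)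
    (hev : Even (finrank F V))
    (hQ : ∀ v, Q (x v) = Q v) (hr : (r : F) ≠ 0) (hx : x ^ r = 1) {i A : ℕ}
    (hi : orderOf (Fintype.card F : ZMod r) = i) (hie : Even i) (hA : finrank F (cm x) = i * A) :
    IsPlus (res Q (fx x)) ↔ (IsPlus Q ↔ Even A) := by
  have h1 := isPlus_cm_iff hr2 hQn hQ hr hx hi hie hA
  have h2 := isPlus_iff_perp hQn (nondeg_cm hQn hQ hr hx) hev (by rw [hA]; exact hie.mul_right A)
  rw [perp_cm hQn hQ hr hx, h1] at h2
  tauto

/-- Witt index of an even-dimensional subspace -/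
theorem exists_ts_type [Finite F] [FiniteDimensional F V] {U : Submodule F V} (hUn : Nondeg (res Q U))
    (hev : Even (finrank F U)) :
    ∃ W ≤ U, TS Q W ∧ (IsPlus (res Q U) → finrank F U = 2 * finrank F W) ∧
      (finrank F U ≤ 2 * finrank F W + 2) := by
  by_cases hP : IsPlus (res Q U)
  · obtain ⟨W, hW, hd⟩ := hP
    refine ⟨W.map U.subtype, ?_, ?_, ?_, ?_⟩
    · rintro _ ⟨w, -, rfl⟩
      exact w.2
    · rintro _ ⟨w, hw, rfl⟩
      exact hW w hw
    · intro _
      rw [finrank_map_of_injective _ U.injective_subtype]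
      omega
    · rw [finrank_map_of_injective _ U.injective_subtype]
      omega
  · obtain ⟨W, hW, hWs, hd⟩ := exists_ts_fix hUn
    exact ⟨W, hW, hWs, fun h => absurd h hP, hd⟩

theorem ts_le_half [FiniteDimensional F V] {U W : Submodule F V} (hUn : Nondeg (res Q U)) (hWU : W ≤ U)
    (hW : TS Q W) : 2 * finrank F W ≤ finrank F U := by
  have h3 := two_mul_finrank_le hUn (U := W.comap U.subtype) (fun u hu => hW _ hu)
  rwa [(Submodule.comapSubtypeEquivOfLe hWU).finrank_eq] at h3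

theorem ts_lt_half [FiniteDimensional F V] {U W : Submodule F V} (hUn : Nondeg (res Q U)) (hWU : W ≤ U)
    (hW : TS Q W) (hev : Even (finrank F U)) (hP : ¬ IsPlus (res Q U)) :
    2 * finrank F W + 2 ≤ finrank F U := by
  have h1 := ts_le_half hUn hWU hW
  have h2 : 2 * finrank F W ≠ finrank F U := by
    intro h
    apply hP
    refine isPlus_of_le hUn (U := W.comap U.subtype) (fun u hu => hW _ hu) ?_
    rw [(Submodule.comapSubtypeEquivOfLe hWU).finrank_eq]
    omega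
  obtain ⟨k, hk⟩ := hev
  omega

end Cfsg.Agent.H954.TSing
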