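import Cfsg.Agent.S0721
import Cfsg.Agent.S0953
import Cfsg.Agent.S4456
import Cfsg.Agent.H459.Rad
import Cfsg.Agent.H671.Tensor
import Cfsg.Agent.Lib.SubnormalJoin

/-!
# Reduction of S4910 to the hub fact `FactCop` (helper954)
-/

set_option autoImplicit false

namespace Cfsg.Agent.H954.Cop

open Cfsg Cfsg.Agent.H671.H5 Cfsg.Agent.H459.Rad Cfsg.Agent.Characters.Core
open Cfsg.Agent.Blocks.Basic (charDegree_of_eq irr_one_eq_charDegree charDegree_pos)

universe u v

/-- degree of the extension of `θ × ... × θ` -/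
theorem degree_ext {G : Type v} [Group G] [Finite G] (N : Subgroup G) {S : Type u} [Group S] [Finite S] {m : ℕ}
    (e : N ≃* (Fin m → S)) {θ : IrrCharacter S} {χ : IrrCharacter G}
    (h : ∀ n : N, (χ : G → ℂ) n = ∏ i, (θ : S → ℂ) (e n i)) :
    charDegree (χ : G → ℂ) = charDegree (θ : S → ℂ) ^ m := by
  apply charDegree_of_eq
  have h1 := h 1
  rw [map_one] at h1
  rw [show ((1 : G)) = ((1 : N) : G) from rfl, h1, Nat.cast_pow, ← irr_one_eq_charDegree θ.2]
  simp

/-- characters of a quotient group -/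
theorem exists_infl {G : Type v} [Group G] [Finite G] (R : Subgroup G) [R.Normal] (χ : IrrCharacter (G ⧸ R)) :
    ∃ ψ : IrrCharacter G, charDegree (ψ : G → ℂ) = charDegree (χ : G ⧸ R → ℂ) := by
  refine ⟨⟨_, isIrr_comp (QuotientGroup.mk' R) (QuotientGroup.mk'_surjective R) χ.2⟩, ?_⟩
  apply charDegree_of_eq
  show (χ : G ⧸ R → ℂ) (QuotientGroup.mk' R 1) = _
  rw [map_one, irr_one_eq_charDegree χ.2]

/-- trivial solvable radical -/
theorem main_rad (hF : FactCop.{0}) {G : Type v} [Group G] [Finite G] (hR : solvableRadical G = ⊥)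
    (hne : Nontrivial G) :
    ∃ χ ψ : IrrCharacter G, charDegree (χ : G → ℂ) ≠ 1 ∧ charDegree (ψ : G → ℂ) ≠ 1 ∧
      Nat.Coprime (charDegree (χ : G → ℂ)) (charDegree (ψ : G → ℂ)) := by
  classical
  obtain ⟨N, hNn, hN1, hmin⟩ := Cfsg.Agent.Lib.SubnormalJoin.exists_minimal_normal G
  have hNs : ¬ Group.IsSolvable N := fun h => hN1 (le_bot_iff.mp (hR ▸ le_rad hNn h))
  obtain ⟨T, _, m, hTs, hm, ⟨e⟩⟩ := Cfsg.Agent.S0721.result N hN1 hmin
  have hT : ¬ IsMulCommutative T := by
    intro h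
    apply hNs
    exact Group.isSolvable_of_comm fun a b => e.injective (by
      rw [map_mul, map_mul]
      funext i
      exact h.is_comm.comm _ _)
  have : Finite T := by
    have h1 : Finite (Fin m → T) := Finite.of_equiv _ e.toEquiv
    exact Finite.of_injective (fun t : T => (fun _ : Fin m => t)) fun a b h => congrFun h ⟨0, hm⟩
  rcases hF T hT with ⟨α, β, hα, hβ, hab, hAα, hAβ⟩ | ⟨α, hα, hAα⟩
  · obtain ⟨χ, hχ⟩ := Cfsg.Agent.H671.Tensor.exists_extension N hT e hAα
    obtain ⟨ψ, hψ⟩ := Cfsg.Agent.H671.Tensor.exists_extension N hT e hAβ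
    refine ⟨χ, ψ, ?_, ?_, ?_⟩
    · rw [degree_ext N e hχ]
      intro h
      exact hα (Nat.pow_eq_one.mp h |>.resolve_right hm.ne')
    · rw [degree_ext N e hψ]
      intro h
      exact hβ (Nat.pow_eq_one.mp h |>.resolve_right hm.ne')
    · rw [degree_ext N e hχ, degree_ext N e hψ]
      exact hab.pow _ _
  · obtain ⟨χ, hχ⟩ := Cfsg.Agent.H671.Tensor.exists_extension N hT e hAα
    obtain ⟨p, k, hp, hk, hpk⟩ := hα
    have hp' : p.Prime := Nat.prime_iff.mpr hp
    have : Fact p.Prime := ⟨hp'⟩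
    have hd := degree_ext N e hχ
    rw [← hpk, ← pow_mul] at hd
    have hkm : k * m ≠ 0 := (Nat.mul_pos hk hm).ne'
    have hχ1 : charDegree (χ : G → ℂ) ≠ 1 := by
      rw [hd]
      intro h
      rcases Nat.pow_eq_one.mp h with h | h
      · exact hp'.one_lt.ne' h
      · exact hkm h
    by_contra hcon
    push Not at hcon
    have hall : ∀ ψ : IrrCharacter G, charDegree (ψ : G → ℂ) ≠ 1 → p ∣ charDegree (ψ : G → ℂ) := by
      intro ψ hψ
      by_contra hnd
      apply hcon χ ψ hχ1 hψ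
      rw [hd]
      exact Nat.Coprime.pow_left _ ((Nat.Prime.coprime_iff_not_dvd hp').mpr hnd)
    obtain ⟨K, hKn, hKc, j, hj⟩ := Cfsg.Agent.S4456.result p hp' hall
    -- p divides |N|
    have hpN : p ∣ Nat.card N := by
      have h1 : charDegree (α : T → ℂ) ∣ Nat.card T := Cfsg.Agent.S0953.charDegree_dvd_card α
      have h2 : p ∣ Nat.card T := by
        refine dvd_trans ?_ h1
        rw [← hpk]
        exact dvd_pow_self p hk.ne'
      rw [Nat.card_congr e.toEquiv, Nat.card_fun, Nat.card_fin]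
      exact dvd_pow h2 hm.ne'
    have hinf : (N ⊓ K).Normal := inferInstance
    rcases hmin (N ⊓ K) hinf inf_le_left with h | h
    · -- N embeds in the p-group G / K
      apply hNs
      have hpg : IsPGroup p (G ⧸ K) := IsPGroup.of_card (n := j) (by
        rw [← Subgroup.index_eq_card, hj])
      let f : N →* G ⧸ K := (QuotientGroup.mk' K).comp N.subtype
      have hf : Function.Injective f := by
        rw [injective_iff_map_eq_one]
        intro n hn
        have h2 : (n : G) ∈ K := by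
          have h3 : QuotientGroup.mk' K (n : G) = 1 := hn
          rwa [QuotientGroup.mk'_apply, QuotientGroup.eq_one_iff] at h3
        have h3 : (n : G) ∈ N ⊓ K := ⟨n.2, h2⟩
        rw [h, Subgroup.mem_bot] at h3
        exact Subtype.ext h3
      have hpN' : IsPGroup p N := hpg.of_injective f hf
      have : Group.IsNilpotent N := hpN'.isNilpotent
      infer_instance
    · have h1 : N ≤ K := by
        rw [← h]
        exact inf_le_right
      have h2 : Nat.card N ∣ Nat.card K := Subgroup.card_dvd_of_le h1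
      exact hp'.one_lt.ne' (Nat.eq_one_of_dvd_coprimes hKc.symm (dvd_refl p) (dvd_trans hpN h2))

theorem main (hF : FactCop.{0}) {G : Type v} [Group G] [Finite G] (hG : ¬ Group.IsSolvable G) :
    ∃ χ ψ : IrrCharacter G, charDegree (χ : G → ℂ) ≠ 1 ∧ charDegree (ψ : G → ℂ) ≠ 1 ∧
      Nat.Coprime (charDegree (χ : G → ℂ)) (charDegree (ψ : G → ℂ)) := by
  have hR : solvableRadical (G ⧸ solvableRadical G) = ⊥ := rad_quotient
  have hne : Nontrivial (G ⧸ solvableRadical G) := by
    rw [QuotientGroup.nontrivial_iff]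
    intro h
    exact hG (rad_eq_top_iff.mp h)
  obtain ⟨χ, ψ, h1, h2, h3⟩ := main_rad hF hR hne
  obtain ⟨χ', hχ'⟩ := exists_infl _ χ
  obtain ⟨ψ', hψ'⟩ := exists_infl _ ψ
  exact ⟨χ', ψ', hχ' ▸ h1, hψ' ▸ h2, by rw [hχ', hψ']; exact h3⟩

end Cfsg.Agent.H954.Cop
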