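import Cfsg.Agent.H954.OutDeg
import Cfsg.Agent.H934.IdxExc
import Cfsg.Agent.H934.IdxTwE6
import Cfsg.Agent.H934.IdxTwD4
import Cfsg.Agent.H934.IdxTwF4
import Cfsg.Agent.H934.IdxSz
import Cfsg.Agent.H934.IdxRee

/-!
# Degrees of the irreducible characters of the exceptional groups (helper954, for S4830)
-/

set_option autoImplicit false

namespace Cfsg.Agent.H954.OutExc

open Cfsg.Lie Cfsg.Agent.H954.OutDeg

universe u

section chev

open Cfsg.Agent.ChevalleyStructure.Elts Cfsg.Agent.H934.IdxExc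

variable {D : ChevalleyDatum} (hD : InList D) {F : Type u} [Field F]

include hD in
theorem md_chev [Fintype F] (hs : IsSimpleGroup ↥(D.group F)) {r p : ℕ} (hr : r < D.nroots) (hp : p < D.rank)
    (hc : D.cartan p r = 1) : MD ↥(D.group F) (Fintype.card F - 1) := by
  have : Finite (GL D.Idx F) := inferInstance
  rw [← card_Xr (F := F) hD hr]
  refine md_fused (MonoidHom.id _) (Xr hD r) ?_ ?_ ⟨xe hD r 1, ⟨1, rfl⟩, ?_⟩
  · rintro _ ⟨a, rfl⟩ _ ⟨b, rfl⟩
    rw [← xe_add, ← xe_add, add_comm]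
  · rintro _ ⟨a, rfl⟩ _ ⟨b, rfl⟩ ha hb
    refine Cfsg.Agent.H934.IdxExc.isConj hD hr hp hc a b ?_ ?_
    · rintro rfl; exact ha (xe_zero hD r)
    · rintro rfl; exact hb (xe_zero hD r)
  · intro h
    exact one_ne_zero (xe_eq_one hD hr h)

/-- `G₂(q)`. -/
theorem md_g2 [Fintype F] (hs : IsSimpleGroup ↥(chevG2.group F)) : MD ↥(chevG2.group F) (Fintype.card F - 1) := by
  obtain ⟨p, hp, hc⟩ : ∃ p < chevG2.rank, chevG2.cartan p 11 = 1 := by decide +kernel
  exact md_chev (D := chevG2) (by simp [InList]) hs (r := 11) (by decide +kernel) hp hc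

/-- `F₄(q)`. -/
theorem md_f4 [Fintype F] (hs : IsSimpleGroup ↥(chevF4.group F)) : MD ↥(chevF4.group F) (Fintype.card F - 1) := by
  obtain ⟨p, hp, hc⟩ : ∃ p < chevF4.rank, chevF4.cartan p 47 = 1 := by decide +kernel
  exact md_chev (D := chevF4) (by simp [InList]) hs (r := 47) (by decide +kernel) hp hc

/-- `E₇(q)`. -/
theorem md_e7 [Fintype F] (hs : IsSimpleGroup ↥(chevE7.group F)) : MD ↥(chevE7.group F) (Fintype.card F - 1) := by
  obtain ⟨p, hp, hc⟩ : ∃ p < chevE7.rank, chevE7.cartan p 125 = 1 := by decide +kernel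
  exact md_chev (D := chevE7) (by simp [InList]) hs (r := 125) (by decide +kernel) hp hc

/-- `E₈(q)`. -/
theorem md_e8 [Fintype F] (hs : IsSimpleGroup ↥(chevE8.group F)) : MD ↥(chevE8.group F) (Fintype.card F - 1) := by
  obtain ⟨p, hp, hc⟩ : ∃ p < chevE8.rank, chevE8.cartan p 239 = 1 := by decide +kernel
  exact md_chev (D := chevE8) (by simp [InList]) hs (r := 239) (by decide +kernel) hp hc

/-- `E₆(q)`. -/
theorem md_e6 [Fintype F] (hs : IsSimpleGroup ↥(chevE6.group F)) : MD ↥(chevE6.group F) (Fintype.card F - 1) := by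
  obtain ⟨p, hp, hc⟩ : ∃ p < chevE6.rank, chevE6.cartan p 71 = 1 := by decide +kernel
  exact md_chev (D := chevE6) (by simp [InList]) hs (r := 71) (by decide +kernel) hp hc

end chev

section tw

open Cfsg.Agent.ChevalleyStructure.Elts hiding x_add x_zero x_eq_one_iff
open Cfsg.Agent.ChevalleyStructure.TwE6Basic
open Cfsg.Agent.ChevalleyStructure.TwE6BN
open Cfsg.Agent.Schreier.BNTwisted Cfsg.Agent.Schreier.TwESix

theorem md_twE6 {K : Type*} [Field K] [Fintype K] {q : ℕ} (hq : IsPrimePow q) (hK : Fintype.card K = q ^ 2)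
    (hs : IsSimpleGroup ↥(twistedE6 K q)) : MD ↥(twistedE6 K q) (q ^ 2 - 1) := by
  obtain ⟨φ, hφ, hqq⟩ := exists_frob hq hK
  have hq0 : q ≠ 0 := hq.one_lt.ne_bot
  let L := locPair pair3 hφ hqq hq0 fun c hc => tor3 hφ c hc
  rw [← hK]
  refine md_param (fun t => (⟨L.x t, L.x_mem_G t⟩ : ↥(twistedE6 K q))) ?_ ?_ ?_
  · intro s t
    apply Subtype.ext
    show (x 56 (s + t) * x 36 ((s + t) ^ q) : GL chevE6.Idx K) = x 56 s * x 36 (s ^ q) * (x 56 t * x 36 (t ^ q))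
    have c1 : ∀ t u : K, (x 36 u * x 56 t : GL chevE6.Idx K) = x 56 t * x 36 u := fun t u => pair3.comm1 t u
    have e : (s + t) ^ q = s ^ q + t ^ q := by rw [← hφ, ← hφ, ← hφ, map_add]
    rw [e, ← x_add, ← x_add]
    calc (x 56 s * x 56 t * (x 36 (s ^ q) * x 36 (t ^ q)) : GL chevE6.Idx K)
        = x 56 s * (x 56 t * x 36 (s ^ q)) * x 36 (t ^ q) := by group
      _ = x 56 s * (x 36 (s ^ q) * x 56 t) * x 36 (t ^ q) := by rw [c1]
      _ = _ := by group
  · intro h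
    exact L.x_one (congrArg Subtype.val h)
  · intro c hc
    obtain ⟨h, -, hG, hc⟩ := L.tor c hc
    refine ⟨⟨h, hG⟩, Subtype.ext ?_⟩
    have h1 := hc 1
    rw [mul_one] at h1
    exact h1

end tw

section twD4

open Cfsg.Agent.ChevalleyStructure.D4Fixed (twisted_le_fix)
open Cfsg.Agent.ChevalleyStructure.D4U (phi3)
open Cfsg.Agent.ChevalleyStructure.D4Twisted
open Cfsg.Agent.ChevalleyStructure
open Cfsg.Agent.Schreier.BNTwisted Cfsg.Agent.Schreier.TwDFour

theorem md_twD4 {K : Type*} [Field K] [Fintype K] {q : ℕ} (hq : IsPrimePow q) (hK : Fintype.card K = q ^ 3)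
    (hs : IsSimpleGroup ↥(twistedD4 K q)) : MD ↥(twistedD4 K q) (q ^ 3 - 1) := by
  obtain ⟨φ, hφ⟩ := D4Fixed.exists_frob hq hK
  have hle := twisted_le_fix hK hφ
  have h3 := phi3 hK hφ
  let L := locB hφ hle h3
  rw [← hK]
  refine md_param (fun t => (⟨L.x t, L.x_mem_G t⟩ : ↥(twistedD4 K q))) ?_ ?_ ?_
  · intro s t
    apply Subtype.ext
    exact Cfsg.Agent.Schreier.ThreeD4.X_add s t
  · intro h
    exact L.x_one (congrArg Subtype.val h)
  · intro c hc
    obtain ⟨h, -, hG, hc⟩ := L.tor c hc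
    refine ⟨⟨h, hG⟩, Subtype.ext ?_⟩
    have h1 := hc 1
    rw [mul_one] at h1
    exact h1

end twD4

section twF4

open Cfsg.Agent.ChevalleyStructure.TwF4.Rel
open Cfsg.Agent.ChevalleyStructure.TwF4.Groups Cfsg.Agent.ChevalleyStructure.TwF4.RankOne
open Cfsg.Agent.ChevalleyStructure.TwF4.Twisted Cfsg.Agent.ChevalleyStructure.TwF4.TwistedFix
open Cfsg.Agent.ChevalleyStructure.TwF4.BN
open Cfsg.Agent.ChevalleyStructure.TwF4.Torus (T chi T_conj_X T_inr)
open Cfsg.Agent.ChevalleyStructure.TwF4.TwGen (tc chi_tc_24 chi_tc_25 chi_tc_33 chi_tc_27 chi28 chi30 pow_all)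
open Cfsg.Agent.ChevalleyStructure.TwF4.TorusFix (mem_iff pow_unit T_rt rt T_mem_iff)
open Cfsg.Agent.Schreier.TwFFour

theorem md_twF4 {K : Type*} [Field K] [Fintype K] {m : ℕ} (hK : Fintype.card K = 2 ^ (2 * m + 1))
    (hs : IsSimpleGroup ↥(twistedF4 K (2 ^ m))) : MD ↥(twistedF4 K (2 ^ m)) (Fintype.card K - 1) := by
  have : CharP K 2 := charP_two hK
  obtain ⟨φ, hφ⟩ := exists_rln hK
  refine md_param (fun t => (⟨xa (2 ^ m) t, xa_mem t⟩ : ↥(twistedF4 K (2 ^ m)))) ?_ ?_ ?_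
  · intro s t
    exact Subtype.ext (xa_add hφ s t)
  · intro h
    exact one_ne_zero (xa_eq_one hφ.pos.ne' (congrArg Subtype.val h))
  · intro c hc
    refine ⟨⟨T (tc (2 ^ m) (Units.mk0 c hc)⁻¹ 1), (T_mem_iff hK _).2 ⟨_, _, rfl⟩⟩, Subtype.ext ?_⟩
    have h1 := exists_T_a (e := 2 ^ m) (Units.mk0 c hc) (1 : K)
    rw [mul_one] at h1
    exact h1

end twF4

section sz

open Cfsg.Agent.Schreier.Sz Cfsg.Agent.LieRecognition.SzMatrix

theorem md_sz {F : Type*} [Field F] [Fintype F] {m : ℕ} (hF : Fintype.card F = 2 ^ (2 * m + 1))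
    (hs : IsSimpleGroup ↥(Cfsg.Lie.Sz F (2 ^ (m + 1)))) : MD ↥(Cfsg.Lie.Sz F (2 ^ (m + 1))) (Fintype.card F - 1) := by
  classical
  have G := good hF
  refine md_param (fun t => G.u 0 t) ?_ ?_ ?_
  · intro s t
    rw [G.u_mul]
    congr 1 <;> simp
  · intro h
    rw [← G.u_zero] at h
    exact one_ne_zero (G.u_inj h).2
  · intro c hc
    obtain ⟨k, hk⟩ := theta_surjective _ c
    have hk0 : k ≠ 0 := by
      rintro rfl
      rw [map_zero] at hk
      exact hc hk.symm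
    refine ⟨G.d (Units.mk0 k hk0), ?_⟩
    rw [mul_inv_eq_iff_eq_mul, G.d_mul_u]
    congr 2
    · simp
    · rw [one_mul]
      exact hk

end sz

end Cfsg.Agent.H954.OutExc
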