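import Cfsg.Agent.H954.OutDeg
import Cfsg.Agent.CharactersDeep.Extraspecial
import Cfsg.Agent.H934.Heis

/-!
# Degrees and special groups with a fused centre (helper954, for S4830 / S4831)
-/

set_option autoImplicit false

namespace Cfsg.Agent.H954.OutHeis

open Cfsg Cfsg.Agent.H686.CharKit Cfsg.Agent.Characters.Core Cfsg.Agent.H954.OutDeg
open scoped ComplexConjugate

universe u v

/-- Multiplicities in the restriction to a fused commutative group. -/
theorem fused_mult {A : Type u} [Group A] [Fintype A] {θ : A → ℂ} (hθ : IsCharacter A θ) (c : ℂ)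
    (hc : ∀ a : A, a ≠ 1 → θ a = c) (hne : θ 1 ≠ c) (lam : A →* ℂˣ) (hlam : lam ≠ 1) :
    ∃ a' b : ℕ, classInner θ (fun a => (lam a : ℂ)) = b ∧ b ≠ 0 ∧ charDegree θ = a' + (Nat.card A - 1) * b := by
  classical
  have hlamirr := Characters.Linear.isIrrCharacter_hom lam
  obtain ⟨b, hb⟩ := classInner_isNat hθ (isIrr_isCharacter hlamirr)
  obtain ⟨a', ha'⟩ := classInner_isNat hθ (isCharacter_one (G := A))
  have hm0 : (Nat.card A : ℂ) ≠ 0 := card_ne_zero_complex
  have hA1 : 1 < Nat.card A := by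
    rw [Finite.one_lt_card_iff_nontrivial]
    by_contra h
    rw [not_nontrivial_iff_subsingleton] at h
    apply hlam
    ext a
    rw [Subsingleton.elim a 1, map_one, map_one]
  have hsplit : ∀ φ : A → ℂ, ∑ a : A, θ a * φ a = (θ 1 - c) * φ 1 + c * ∑ a : A, φ a := by
    intro φ
    have h1 : ∀ a : A, θ a * φ a = (if a = 1 then (θ 1 - c) * φ 1 else 0) + c * φ a := by
      intro a
      by_cases h : a = 1
      · subst h
        rw [if_pos rfl]
        ring
      · rw [if_neg h, hc a h, zero_add]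
    rw [Finset.sum_congr rfl (fun a _ => h1 a), Finset.sum_add_distrib, Finset.sum_ite_eq',
      if_pos (Finset.mem_univ _), ← Finset.mul_sum]
  have hsumlam : ∑ a : A, conj ((lam a : ℂˣ) : ℂ) = 0 := by
    have h1 := classInner_irr_ne (isIrr_one (G := A)) hlamirr
      (fun h => hlam (by
        ext a
        have := congrFun h a
        simpa using this.symm))
    rw [classInner_def] at h1
    have h2 := (mul_eq_zero.1 h1).resolve_left (inv_ne_zero hm0)
    rw [← h2]
    exact Finset.sum_congr rfl fun a _ => by simp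
  have e1 : (Nat.card A : ℂ) * b = θ 1 - c := by
    rw [← hb, classInner_def, ← mul_assoc, mul_inv_cancel₀ hm0, one_mul,
      hsplit (fun a => conj ((lam a : ℂˣ) : ℂ)), hsumlam, mul_zero, add_zero, map_one]
    simp
  have e2 : (Nat.card A : ℂ) * a' = θ 1 - c + c * Nat.card A := by
    rw [← ha', classInner_def, ← mul_assoc, mul_inv_cancel₀ hm0, one_mul,
      hsplit (fun a => conj ((1 : A → ℂ) a))]
    simp [Nat.card_eq_fintype_card]
  refine ⟨a', b, hb, ?_, ?_⟩
  · rintro rfl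
    rw [Nat.cast_zero, mul_zero] at e1
    exact hne (sub_eq_zero.1 e1.symm)
  · have e3 : (charDegree θ : ℂ) = a' + ((Nat.card A : ℂ) - 1) * b := by
      rw [charDegree_cast hθ]
      apply mul_left_cancel₀ hm0
      have : (Nat.card A : ℂ) * (a' + ((Nat.card A : ℂ) - 1) * b) =
          (Nat.card A : ℂ) * a' + ((Nat.card A : ℂ) - 1) * ((Nat.card A : ℂ) * b) := by ring
      rw [this, e1, e2]
      ring
    have h1 : ((a' + (Nat.card A - 1) * b : ℕ) : ℂ) = a' + ((Nat.card A : ℂ) - 1) * b := by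
      push_cast [Nat.cast_sub hA1.le]
      ring
    rw [← h1] at e3
    exact_mod_cast e3

/-- Irreducible characters of a group which is special over the central subgroup `Z`. -/
theorem sq_deg {P : Type u} [Group P] [Finite P] {Z : Subgroup P} (hcen : ∀ z ∈ Z, ∀ g : P, g * z = z * g)
    (hsp : ∀ x, x ∉ Z → ∀ z ∈ Z, ∃ y, x * y * x⁻¹ * y⁻¹ = z) {ψ : P → ℂ} (hψ : IsIrrCharacter P ψ)
    {c : Subgroup.center P →* ℂˣ} (hc : ∀ (x : P) (z : Subgroup.center P), ψ (x * z) = ψ x * (c z : ℂ))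
    {z0 : Subgroup.center P} (hz0 : (z0 : P) ∈ Z) (hcz : c z0 ≠ 1) :
    charDegree ψ ^ 2 * Nat.card Z = Nat.card P := by
  classical
  have := Fintype.ofFinite P
  have hcl := isClassFunction_def.1 (isIrr_isClassFunction hψ)
  have hmem : ∀ z ∈ Z, z ∈ Subgroup.center P := fun z hz => Subgroup.mem_center_iff.2 fun g => hcen z hz g
  have hoff : ∀ x, x ∉ Z → ψ x = 0 := by
    intro x hx
    obtain ⟨y, hy⟩ := hsp x hx z0 hz0
    have h1 : y * x * y⁻¹ = x * ((z0⁻¹ : Subgroup.center P) : P) := by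
      have hxz : x * ((z0⁻¹ : Subgroup.center P) : P) = ((z0⁻¹ : Subgroup.center P) : P) * x :=
        Subgroup.mem_center_iff.1 (z0⁻¹).2 x
      rw [hxz, Subgroup.coe_inv, ← hy]
      group
    have h2 := hcl x y
    rw [h1, hc, map_inv] at h2
    have h3 : ψ x * ((((c z0)⁻¹ : ℂˣ) : ℂ) - 1) = 0 := by rw [mul_sub, h2, mul_one, sub_self]
    rcases mul_eq_zero.1 h3 with h4 | h4
    · exact h4
    · exfalso
      apply hcz
      have h5 : (c z0)⁻¹ = 1 := Units.ext (by rw [Units.val_one]; exact sub_eq_zero.1 h4)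
      exact inv_eq_one.1 h5
  have hon : ∀ z ∈ Z, ψ z * conj (ψ z) = ψ 1 * ψ 1 := by
    intro z hz
    have h1 := hc 1 ⟨z, hmem z hz⟩
    rw [one_mul] at h1
    have h2 : ψ z = ψ 1 * (c ⟨z, hmem z hz⟩ : ℂ) := h1
    have h3 := Characters.Linear.norm_hom_apply c ⟨z, hmem z hz⟩
    have h4 : ((c ⟨z, hmem z hz⟩ : ℂˣ) : ℂ) * conj ((c ⟨z, hmem z hz⟩ : ℂˣ) : ℂ) = 1 := by
      rw [Complex.mul_conj, Complex.normSq_eq_norm_sq, h3]
      norm_num
    obtain ⟨n, hn, h5⟩ := isIrr_apply_one hψ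
    rw [h2, map_mul, h5]
    have h6 : conj (n : ℂ) = n := Complex.conj_natCast n
    rw [h6]
    linear_combination (n : ℂ) * n * h4
  have h1 := classInner_irr_self hψ
  rw [classInner_def] at h1
  have hm0 : (Nat.card P : ℂ) ≠ 0 := card_ne_zero_complex
  have h2 : ∑ g : P, ψ g * conj (ψ g) = (Nat.card Z : ℂ) * (ψ 1 * ψ 1) := by
    have h3 : ∀ g : P, ψ g * conj (ψ g) = if g ∈ Z then ψ 1 * ψ 1 else 0 := by
      intro g
      split_ifs with h
      · exact hon g h
      · rw [hoff g h, zero_mul]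
    rw [Finset.sum_congr rfl fun g _ => h3 g, ← Finset.sum_filter, Finset.sum_const, nsmul_eq_mul]
    congr 2
    rw [Nat.card_eq_fintype_card, Fintype.card_subtype]
  rw [h2, irr_one_eq hψ] at h1
  have h3 : (Nat.card Z : ℂ) * ((charDegree ψ : ℂ) * charDegree ψ) = Nat.card P := by
    field_simp at h1
    linear_combination h1
  have h4 : ((charDegree ψ ^ 2 * Nat.card Z : ℕ) : ℂ) = Nat.card P := by
    push_cast
    rw [← h3]
    ring
  exact_mod_cast h4
where
  irr_one_eq {P : Type u} [Group P] [Finite P] {ψ : P → ℂ} (hψ : IsIrrCharacter P ψ) : ψ 1 = charDegree ψ :=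
    Cfsg.Agent.Blocks.Basic.irr_one_eq_charDegree hψ

/-- **Degree bound for a special group with fused centre.** -/
theorem heis_le {P : Type u} [Group P] [Finite P] {Z : Subgroup P} (hcen : ∀ z ∈ Z, ∀ g : P, g * z = z * g)
    (hsp : ∀ x, x ∉ Z → ∀ z ∈ Z, ∃ y, x * y * x⁻¹ * y⁻¹ = z) {θ : P → ℂ} (hθ : IsCharacter P θ) (c : ℂ)
    (hc : ∀ z ∈ Z, z ≠ 1 → θ z = c) (hne : θ 1 ≠ c) (hZ : Z ≠ ⊥) :
    (Nat.card Z - 1) ^ 2 * Nat.card P ≤ Nat.card Z * charDegree θ ^ 2 := by
  classical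
  have := Fintype.ofFinite P
  have := Fintype.ofFinite Z
  have := finite_irr (G := P)
  have := Fintype.ofFinite (IrrCharacter P)
  have hmem : ∀ z ∈ Z, z ∈ Subgroup.center P := fun z hz => Subgroup.mem_center_iff.2 fun g => hcen z hz g
  -- a nontrivial linear character of `Z`
  obtain ⟨t, ht1⟩ := Subgroup.ne_bot_iff_exists_ne_one.1 hZ
  have hcardhom := Characters.Linear.card_hom_eq_index_commutator Z
  have hcommZ : commutator Z = ⊥ := by
    rw [commutator_eq_closure, Subgroup.closure_eq_bot_iff]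
    rintro _ ⟨a, b, rfl⟩
    rw [Set.mem_singleton_iff, commutatorElement_eq_one_iff_mul_comm]
    exact Subtype.ext (hcen b b.2 a)
  rw [hcommZ, Subgroup.index_bot] at hcardhom
  have hnt : Nontrivial (Z →* ℂˣ) := by
    have : Finite (Z →* ℂˣ) := Nat.finite_of_card_ne_zero (by rw [hcardhom]; exact Nat.card_pos.ne')
    rw [← Finite.one_lt_card_iff_nontrivial, hcardhom, Finite.one_lt_card_iff_nontrivial]
    exact ⟨⟨t, 1, ht1⟩⟩
  obtain ⟨lam, hlam⟩ := exists_ne (1 : Z →* ℂˣ)
  have hres : IsCharacter Z (fun a : Z => θ a) := Characters.Clifford.isCharacter_restrict Z hθ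
  obtain ⟨a', b, hb, hb0, hdeg⟩ := fused_mult hres c
    (fun a ha => hc a a.2 fun h => ha (Subtype.ext h)) hne lam hlam
  have hdeg' : charDegree (fun a : Z => θ a) = charDegree θ := by
    have h1 := charDegree_cast hres
    have h2 := charDegree_cast hθ
    have h3 : (charDegree (fun a : Z => θ a) : ℂ) = charDegree θ := by rw [h1, h2]; rfl
    exact_mod_cast h3
  rw [hdeg'] at hdeg
  -- a constituent over `lam`
  obtain ⟨m, hm⟩ := exists_nat_comb hθ
  have hex : ∀ ψ : IrrCharacter P, ∃ k : ℕ, classInner (fun a : Z => (ψ : P → ℂ) a) (fun a => (lam a : ℂ)) = k :=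
    fun ψ => classInner_isNat (Characters.Clifford.isCharacter_restrict Z (isIrr_isCharacter ψ.2))
      (Characters.Linear.isCharacter_hom lam)
  choose k hk using hex
  have hbsum : b = ∑ ψ, m ψ * k ψ := by
    have h1 : (fun a : Z => θ a) = ∑ ψ : IrrCharacter P, (m ψ : ℂ) • (fun a : Z => (ψ : P → ℂ) a) := by
      funext a
      rw [Finset.sum_apply, hm, Finset.sum_apply]
      exact Finset.sum_congr rfl fun ψ _ => by simp
    have h2 : (b : ℂ) = ((∑ ψ, m ψ * k ψ : ℕ) : ℂ) := by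
      rw [← hb, h1, classInner_sum_left]
      push_cast
      exact Finset.sum_congr rfl fun ψ _ => by rw [classInner_smul_left, hk]
    exact_mod_cast h2
  obtain ⟨ψ, -, hψ⟩ : ∃ ψ ∈ Finset.univ, m ψ * k ψ ≠ 0 := by
    by_contra hcon
    push Not at hcon
    exact hb0 (by rw [hbsum, Finset.sum_eq_zero hcon])
  have hmψ : m ψ ≠ 0 := fun h => hψ (by rw [h, zero_mul])
  have hkψ : k ψ ≠ 0 := fun h => hψ (by rw [h, mul_zero])
  obtain ⟨cc, hcc, -⟩ := Cfsg.Agent.CharactersDeep.Extraspecial.exists_central_hom ψ.2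
  -- the restriction to `Z`
  let mu : Z →* ℂˣ := cc.comp (Subgroup.inclusion hmem)
  have hrestr : (fun a : Z => (ψ : P → ℂ) a) = (charDegree (ψ : P → ℂ) : ℂ) • fun a : Z => (mu a : ℂ) := by
    funext a
    have h1 := hcc 1 ⟨a, hmem a a.2⟩
    rw [one_mul] at h1
    rw [Pi.smul_apply, smul_eq_mul, ← Cfsg.Agent.Blocks.Basic.irr_one_eq_charDegree ψ.2]
    exact h1
  have hmul : mu = lam := by
    by_contra h
    have h1 := classInner_irr_ne (Characters.Linear.isIrrCharacter_hom mu) (Characters.Linear.isIrrCharacter_hom lam)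
      (fun h2 => h (by
        ext a
        exact congrFun h2 a))
    have h2 := hk ψ
    rw [hrestr, classInner_smul_left, h1, mul_zero] at h2
    exact hkψ (by exact_mod_cast h2.symm)
  have hkeq : k ψ = charDegree (ψ : P → ℂ) := by
    have h2 := hk ψ
    rw [hrestr, classInner_smul_left, hmul, classInner_irr_self (Characters.Linear.isIrrCharacter_hom lam), mul_one]
      at h2
    exact_mod_cast h2.symm
  obtain ⟨z0, hz0⟩ : ∃ z0 : Z, mu z0 ≠ 1 := by
    by_contra hcon
    push Not at hcon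
    apply hlam
    rw [← hmul]
    exact MonoidHom.ext hcon
  have hsq := sq_deg hcen hsp ψ.2 hcc (z0 := ⟨z0, hmem z0 z0.2⟩) z0.2 hz0
  have hble : charDegree (ψ : P → ℂ) ≤ b := by
    rw [hbsum]
    calc charDegree (ψ : P → ℂ) = 1 * k ψ := by rw [one_mul, hkeq]
      _ ≤ m ψ * k ψ := Nat.mul_le_mul_right _ (Nat.one_le_iff_ne_zero.2 hmψ)
      _ ≤ _ := Finset.single_le_sum (f := fun ψ => m ψ * k ψ) (fun _ _ => Nat.zero_le _) (Finset.mem_univ ψ)
  have h1 : (Nat.card Z - 1) * charDegree (ψ : P → ℂ) ≤ charDegree θ := by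
    rw [hdeg]
    exact (Nat.mul_le_mul_left _ hble).trans (Nat.le_add_left _ _)
  calc (Nat.card Z - 1) ^ 2 * Nat.card P = Nat.card Z * ((Nat.card Z - 1) * charDegree (ψ : P → ℂ)) ^ 2 := by
        rw [← hsq]; ring
    _ ≤ _ := Nat.mul_le_mul_left _ (Nat.pow_le_pow_left h1 2)

end Cfsg.Agent.H954.OutHeis
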