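import Cfsg.Agent.H954.TSing6

/-!
# The number of totally singular `m`-spaces modulo the characteristic (helper954)

`card_TSm_modEq_one` : for `2 m < dim V` the number of totally singular `m`-spaces is zero or `≡ 1` modulo `p`.
The group of Siegel transformations with centre `u` fixes exactly the `m`-spaces containing `u`; these
correspond to the totally singular `(m - 1)`-spaces of `⟨u, u'⟩^⊥`.
-/

set_option autoImplicit false

namespace Cfsg.Agent.H954.TSing

open Module QuadraticMap Cfsg.Agent.LieClassical.OrthCore Cfsg.Agent.LieClassical.OrthTrans Cfsg.Agent.H955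

variable {F V : Type*} [Field F] [AddCommGroup V] [Module F V] {Q : QuadraticForm F V}

/-- the hyperplane orthogonal to `u` -/
def hyper (Q : QuadraticForm F V) (u : V) : Submodule F V := LinearMap.ker (polarBilin Q u)

theorem mem_hyper {u w : V} : w ∈ hyper Q u ↔ QuadraticMap.polar Q u w = 0 := Iff.rfl

/-- the group of Siegel transformations with centre `u` -/
def sgHom (u : V) (hu : Q u = 0) : Multiplicative (hyper Q u) →* (V ≃ₗ[F] V) where
  toFun w := siegel Q u (w.toAdd : V) hu (mem_hyper.1 w.toAdd.2)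
  map_one' := by
    ext v
    refine (siegel_apply hu (mem_hyper.1 (0 : hyper Q u).2) v).trans ?_
    simp
  map_mul' a b := (siegel_mul hu (mem_hyper.1 a.toAdd.2) (mem_hyper.1 b.toAdd.2)
    (mem_hyper.1 (a.toAdd + b.toAdd).2)).symm

/-- the subspaces invariant under all Siegel transformations -/
theorem mem_of_siegel [FiniteDimensional F V] (hQ : Nondeg Q) (hd : 3 ≤ finrank F V) {u u' : V} (h : Hyp Q u u')
    {W : Submodule F V} (hWs : TS Q W) (hW0 : W ≠ ⊥)
    (hW : ∀ w (hw : QuadraticMap.polar Q u w = 0), ∀ v ∈ W, siegel Q u w h.left hw v ∈ W) : u ∈ W := by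
  -- every vector of `W` is orthogonal to `u`
  have h1 : ∀ v ∈ W, QuadraticMap.polar Q u v = 0 := by
    intro v hv
    by_contra hne
    -- `w, w'` orthogonal to `u` with `b(w, w') ≠ 0`
    obtain ⟨w, w', hw, hw', hww⟩ : ∃ w w' : V, QuadraticMap.polar Q u w = 0 ∧ QuadraticMap.polar Q u w' = 0 ∧
        QuadraticMap.polar Q w w' ≠ 0 := by
      have h2 := finrank_hperp h
      have h3 := nondeg_hperp hQ h
      have : Nontrivial (hperp Q u u') := Module.nontrivial_of_finrank_pos (R := F) (by omega)
      obtain ⟨w, hw⟩ := exists_ne (0 : hperp Q u u')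
      obtain ⟨w', hw'⟩ := h3.exists_polar_ne hw
      exact ⟨w, w', w.2.1, w'.2.1, hw'⟩
    have hsum : QuadraticMap.polar Q u (w + w') = 0 := by rw [polar_add_right, hw, hw', add_zero]
    have e1 := W.sub_mem (hW w hw v hv) hv
    have e2 := W.sub_mem (hW w' hw' v hv) hv
    have e3 := W.sub_mem (hW (w + w') hsum v hv) hv
    rw [siegel_apply] at e1 e2 e3
    have e4 := W.sub_mem (W.sub_mem e3 e1) e2
    have e5 : v + QuadraticMap.polar Q u v • (w + w') - QuadraticMap.polar Q (w + w') v • u -
        (Q (w + w') * QuadraticMap.polar Q u v) • u - v -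
        (v + QuadraticMap.polar Q u v • w - QuadraticMap.polar Q w v • u -
          (Q w * QuadraticMap.polar Q u v) • u - v) -
        (v + QuadraticMap.polar Q u v • w' - QuadraticMap.polar Q w' v • u -
          (Q w' * QuadraticMap.polar Q u v) • u - v) =
        (-(QuadraticMap.polar Q w w' * QuadraticMap.polar Q u v)) • u := by
      rw [Q_add, polar_add_left]
      module
    rw [e5] at e4
    have e6 : u ∈ W := by
      have := W.smul_mem (-(QuadraticMap.polar Q w w' * QuadraticMap.polar Q u v))⁻¹ e4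
      rwa [smul_smul, inv_mul_cancel₀ (neg_ne_zero.2 (mul_ne_zero hww hne)), one_smul] at this
    exact hne (hWs.polar e6 hv)
  by_contra huW
  obtain ⟨v, hv, hv0⟩ := (Submodule.ne_bot_iff W).1 hW0
  -- `v` is not a multiple of `u`
  obtain ⟨w, hw, hwv⟩ : ∃ w, QuadraticMap.polar Q u w = 0 ∧ QuadraticMap.polar Q w v ≠ 0 := by
    by_contra hcon
    push Not at hcon
    have h4 : v ∈ perp Q (perp Q (F ∙ u)) := by
      intro w hw
      exact hcon w (hw u (Submodule.mem_span_singleton_self u))
    rw [perp_perp hQ] at h4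
    obtain ⟨c, rfl⟩ := Submodule.mem_span_singleton.1 h4
    have hc : c ≠ 0 := fun hc => hv0 (by rw [hc, zero_smul])
    apply huW
    have := W.smul_mem c⁻¹ hv
    rwa [smul_smul, inv_mul_cancel₀ hc, one_smul] at this
  have e1 := W.sub_mem (hW w hw v hv) hv
  rw [siegel_apply, h1 v hv] at e1
  have e2 : v + (0 : F) • w - QuadraticMap.polar Q w v • u - (Q w * 0) • u - v = (-QuadraticMap.polar Q w v) • u := by
    module
  rw [e2] at e1
  apply huW
  have := W.smul_mem (-QuadraticMap.polar Q w v)⁻¹ e1
  rwa [smul_smul, inv_mul_cancel₀ (neg_ne_zero.2 hwv), one_smul] at this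

/-- subspaces containing `u` are invariant -/
theorem siegel_mem_of_mem {u : V} (hu : Q u = 0) {W : Submodule F V} (hWs : TS Q W) (huW : u ∈ W)
    {w : V} (hw : QuadraticMap.polar Q u w = 0) {v : V} (hv : v ∈ W) : siegel Q u w hu hw v ∈ W := by
  rw [siegel_apply, hWs.polar huW hv]
  simp only [zero_smul, add_zero, mul_zero, sub_zero]
  exact W.sub_mem hv (W.smul_mem _ huW)

/-- reduction to `⟨u, u'⟩^⊥` -/
theorem card_containing [FiniteDimensional F V] {u u' : V} (h : Hyp Q u u') (m : ℕ) :
    Nat.card {W : Submodule F V // W ∈ TSm Q (m + 1) ∧ u ∈ W} = Nat.card (TSm (res Q (hperp Q u u')) m) := by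
  rw [card_TSm_res]
  have hu0 := h.left_ne
  have hun : ∀ {W : Submodule F V}, W ≤ hperp Q u u' → u ∉ W := fun hW hu => by
    have := (hW hu).2
    rw [h.pair'] at this
    exact one_ne_zero this
  have hinf : ∀ {W : Submodule F V}, W ≤ hperp Q u u' → W ⊓ (F ∙ u) = ⊥ := by
    intro W hW
    rw [eq_bot_iff]
    rintro _ ⟨h1, h2⟩
    obtain ⟨c, rfl⟩ := Submodule.mem_span_singleton.1 h2
    have h3 := (hW h1).2
    rw [polar_smul_right, h.pair', smul_eq_mul, mul_one] at h3
    rw [h3, zero_smul]
    exact Submodule.zero_mem _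
  -- decomposition of a totally singular space containing `u`
  have hdec : ∀ {W : Submodule F V}, TS Q W → u ∈ W → (W ⊓ hperp Q u u') ⊔ (F ∙ u) = W := by
    intro W hWs huW
    apply le_antisymm
    · refine sup_le inf_le_left ?_
      rw [Submodule.span_singleton_le_iff_mem]; exact huW
    · intro v hv
      have h1 : v = (v - QuadraticMap.polar Q u' v • u) + QuadraticMap.polar Q u' v • u := by abel
      rw [h1]
      refine Submodule.add_mem_sup ⟨W.sub_mem hv (W.smul_mem _ huW), ?_, ?_⟩
        (Submodule.smul_mem _ _ (Submodule.mem_span_singleton_self u))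
      · rw [polar_sub_right, polar_smul_right, h.polar_left, hWs.polar huW hv, smul_zero, sub_zero]
      · rw [polar_sub_right, polar_smul_right, h.pair', smul_eq_mul, mul_one, sub_self]
  have hadd : ∀ {W : Submodule F V}, W ≤ hperp Q u u' → (W ⊔ (F ∙ u)) ⊓ hperp Q u u' = W := by
    intro W hW
    apply le_antisymm
    · rintro _ ⟨h1, h2⟩
      obtain ⟨a, ha, b, hb, rfl⟩ := Submodule.mem_sup.1 h1
      obtain ⟨c, rfl⟩ := Submodule.mem_span_singleton.1 hb
      have h3 := h2.2
      rw [polar_add_right, (hW ha).2, polar_smul_right, h.pair', smul_eq_mul, mul_one, zero_add] at h3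
      rw [h3, zero_smul, add_zero]
      exact ha
    · exact le_inf le_sup_left hW
  refine Nat.card_congr
    { toFun := fun W => ⟨W.1 ⊓ hperp Q u u', ⟨?_, ?_⟩, inf_le_right⟩
      invFun := fun W => ⟨W.1 ⊔ (F ∙ u), ⟨?_, ?_⟩, ?_⟩
      left_inv := fun W => Subtype.ext (hdec W.2.1.2 W.2.2)
      right_inv := fun W => Subtype.ext (hadd W.2.2) }
  · have h1 := H951.finrank_sup_of_disj (hinf (W := W.1 ⊓ hperp Q u u') inf_le_right)
    rw [hdec W.2.1.2 W.2.2, W.2.1.1, finrank_span_singleton hu0] at h1
    omega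
  · exact fun w hw => W.2.1.2 w hw.1
  · rw [H951.finrank_sup_of_disj (hinf W.2.2), W.2.1.1, finrank_span_singleton hu0]
  · refine TS.sup (Q := Q) W.2.1.2 ?_ ?_
    · intro w hw
      obtain ⟨c, rfl⟩ := Submodule.mem_span_singleton.1 hw
      rw [QuadraticMap.map_smul, h.left, smul_zero]
    · intro a ha w hw
      obtain ⟨c, rfl⟩ := Submodule.mem_span_singleton.1 hw
      rw [polar_smul_right, polar_comm, (W.2.2 ha).1, smul_zero]
  · exact Submodule.mem_sup_right (Submodule.mem_span_singleton_self u)

universe v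

theorem card_TSm_modEq_one {F : Type*} [Field F] [Finite F] {p : ℕ} [Fact p.Prime] [CharP F p] (m : ℕ) :
    ∀ {V : Type v} [AddCommGroup V] [Module F V] [FiniteDimensional F V] {Q : QuadraticForm F V}, Nondeg Q →
    2 * m < finrank F V → (TSm Q m).Nonempty → Nat.card (TSm Q m) ≡ 1 [MOD p] := by
  induction m with
  | zero =>
    intro V _ _ _ Q hQ hm _
    have : Nat.card (TSm Q 0) = 1 := by
      rw [Nat.card_eq_one_iff_exists]
      refine ⟨⟨⊥, finrank_bot F V, fun w hw => by rw [(Submodule.mem_bot F).1 hw, map_zero]⟩, ?_⟩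
      rintro ⟨W, hW, -⟩
      exact Subtype.ext (Submodule.finrank_eq_zero.1 hW)
    rw [this]
  | succ m ih =>
    intro V _ _ _ Q hQ hm hne
    obtain ⟨W₀, hW₀d, hW₀s⟩ := hne
    obtain ⟨u, hu, hu0⟩ := exists_ne_zero_of_finrank_pos (U := W₀) (by omega)
    obtain ⟨u', h⟩ := exists_hyp hQ (hW₀s u hu) hu0
    have hfd := finrank_hperp h
    have hfinV : Finite V := Module.finite_of_finite F
    have hfinS : Finite (Submodule F V) := Finite.of_injective (fun W => (W : Set V)) SetLike.coe_injective
    have hcard := card_containing h m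
    have hne' : (TSm (res Q (hperp Q u u')) m).Nonempty := by
      have h1 : 0 < Nat.card {W : Submodule F V // W ∈ TSm Q (m + 1) ∧ u ∈ W} := by
        rw [Nat.card_pos_iff]
        exact ⟨⟨W₀, ⟨hW₀d, hW₀s⟩, hu⟩, inferInstance⟩
      rw [hcard, Nat.card_pos_iff] at h1
      obtain ⟨⟨W, hW⟩⟩ := h1.1
      exact ⟨W, hW⟩
    have hrec := ih (nondeg_hperp hQ h) (by omega) hne'
    rw [← hcard] at hrec
    refine Nat.ModEq.trans ?_ hrec
    -- the action of the Siegel group
    have hpg : IsPGroup p (Multiplicative (hyper Q u)) := by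
      have := Fintype.ofFinite F
      obtain ⟨n, -, hn⟩ := FiniteField.card F p
      have hc : Nat.card (Multiplicative (hyper Q u)) = p ^ ((n : ℕ) * finrank F (hyper Q u)) := by
        have h1 : Nat.card (Multiplicative (hyper Q u)) = Nat.card (hyper Q u) := rfl
        rw [h1, Module.natCard_eq_pow_finrank (K := F), Nat.card_eq_fintype_card, hn, pow_mul]
      exact IsPGroup.of_card hc
    let act : MulAction (Multiplicative (hyper Q u)) (TSm Q (m + 1)) :=
      { smul := fun g W => ⟨W.1.map (sgHom u h.left g : V →ₗ[F] V),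
          (LinearEquiv.finrank_map_eq _ W.1).trans W.2.1, by
          rintro _ ⟨w, hw, rfl⟩
          exact (siegel_mem_O h.left g.toAdd.2 w).trans (W.2.2 w hw)⟩
        one_smul := fun W => Subtype.ext (by
          show W.1.map ((sgHom u h.left 1 : V ≃ₗ[F] V) : V →ₗ[F] V) = W.1
          rw [map_one]
          exact Submodule.map_id W.1)
        mul_smul := fun a b W => Subtype.ext (by
          show W.1.map ((sgHom u h.left (a * b) : V ≃ₗ[F] V) : V →ₗ[F] V) =
            (W.1.map (sgHom u h.left b : V →ₗ[F] V)).map (sgHom u h.left a : V →ₗ[F] V)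
          rw [map_mul, ← Submodule.map_comp]
          rfl) }
    have hfinT : Finite (TSm Q (m + 1)) := Subtype.finite
    have h2 := hpg.card_modEq_card_fixedPoints (TSm Q (m + 1))
    refine h2.trans ?_
    have h3 : Nat.card (MulAction.fixedPoints (Multiplicative (hyper Q u)) (TSm Q (m + 1))) =
        Nat.card {W : Submodule F V // W ∈ TSm Q (m + 1) ∧ u ∈ W} := by
      refine Nat.card_congr
        { toFun := fun W => ⟨W.1.1, W.1.2, ?_⟩
          invFun := fun W => ⟨⟨W.1, W.2.1⟩, ?_⟩
          left_inv := fun W => rfl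
          right_inv := fun W => rfl }
      · refine mem_of_siegel hQ (by omega) h W.1.2.2 ?_ ?_
        · intro h0
          have := W.1.2.1
          rw [h0, finrank_bot] at this
          omega
        · intro w hw v hv
          have h4 : W.1.1.map (sgHom u h.left (Multiplicative.ofAdd ⟨w, hw⟩) : V →ₗ[F] V) = W.1.1 :=
            congrArg Subtype.val (W.2 (Multiplicative.ofAdd ⟨w, hw⟩))
          rw [← h4]
          exact ⟨v, hv, rfl⟩
      · intro g
        apply Subtype.ext
        show W.1.map (sgHom u h.left g : V →ₗ[F] V) = W.1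
        apply Submodule.eq_of_le_of_finrank_eq
        · rintro _ ⟨v, hv, rfl⟩
          exact siegel_mem_of_mem h.left W.2.1.2 W.2.2 g.toAdd.2 hv
        · exact LinearEquiv.finrank_map_eq _ W.1
    rw [h3]

end Cfsg.Agent.H954.TSing
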