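import Cfsg.Agent.H954.TSTwo2

/-!
# Elements with `T ^ 2 = -1` (helper954)

Characteristic not two.

* `sq_neg_one_square` : `-1` a square;
* `even_of_inv`, `sq_neg_one_even` : `-1` a nonsquare;
* `exists_sq_neg_one` : a commutator `T` with `T ^ 2 = -1` in plus type, dimension divisible by four.
-/

set_option autoImplicit false

namespace Cfsg.Agent.H954.TSing

open Module QuadraticMap Cfsg.Agent.LieClassical.OrthCore Cfsg.Agent.LieClassical.OrthTrans Cfsg.Agent.H955
  Cfsg.Agent.LieClassical.QuadForms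

section Gen

variable {F V : Type*} [Field F] [AddCommGroup V] [Module F V] [FiniteDimensional F V] {Q : QuadraticForm F V}

theorem sq_neg_one_square (h2 : (2 : F) ≠ 0) (hsq : IsSquare (-1 : F)) (hQ : Nondeg Q) {T : V ≃ₗ[F] V}
    (hT : T ∈ O Q) (hT2 : ∀ v, T (T v) = -v) {d m : ℕ} (hd : finrank F V = 2 * d) (hm : m ≤ d) :
    ∃ W ∈ TSm Q m, ∀ w ∈ W, T w ∈ W := by
  obtain ⟨c, hc⟩ := hsq
  have hcc : c * c = -1 := hc.symm
  let E : F → Submodule F V := fun a => LinearMap.ker ((T : V →ₗ[F] V) - a • LinearMap.id)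
  have hE : ∀ a v, v ∈ E a ↔ T v = a • v := by
    intro a v
    simp only [E, LinearMap.mem_ker, LinearMap.sub_apply, LinearMap.smul_apply, LinearMap.id_apply, sub_eq_zero]
    rfl
  have hts : ∀ a, a * a = -1 → TS Q (E a) := by
    intro a ha v hv
    have h1 := hT v
    rw [(hE a v).1 hv, QuadraticMap.map_smul, ha, smul_eq_mul] at h1
    have h3 : 2 * Q v = 0 := by linear_combination -h1
    exact (mul_eq_zero.1 h3).resolve_left h2
  have hcc' : (-c) * (-c) = -1 := by rw [neg_mul_neg, hcc]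
  have hsup : E c ⊔ E (-c) = ⊤ := by
    rw [eq_top_iff]
    intro v _
    have e : v = (2 : F)⁻¹ • (v - c • T v) + (2 : F)⁻¹ • (v + c • T v) := by
      rw [← smul_add]
      have : v - c • T v + (v + c • T v) = (2 : F) • v := by module
      rw [this, smul_smul, inv_mul_cancel₀ h2, one_smul]
    rw [e]
    refine Submodule.add_mem_sup (Submodule.smul_mem _ _ ((hE _ _).2 ?_)) (Submodule.smul_mem _ _ ((hE _ _).2 ?_))
    · rw [map_sub, map_smul, hT2, smul_sub, smul_smul, hcc]
      module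
    · rw [map_add, map_smul, hT2, smul_add, smul_smul, neg_mul, hcc]
      module
  have h3 := Submodule.finrank_sup_add_finrank_inf_eq (E c) (E (-c))
  rw [hsup, finrank_top, hd] at h3
  have h4 := two_mul_finrank_le hQ (hts c hcc)
  have h5 := two_mul_finrank_le hQ (hts (-c) hcc')
  rw [hd] at h4 h5
  obtain ⟨W, hW, hWd⟩ := H951.exists_sub (E c) (a := m) (by omega)
  refine ⟨W, ⟨hWd, fun w hw => hts c hcc w (hW hw)⟩, fun w hw => ?_⟩
  rw [(hE c w).1 (hW hw)]
  exact W.smul_mem _ hw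

theorem even_of_inv (hns : ¬ IsSquare (-1 : F)) {T : V ≃ₗ[F] V} (hT2 : ∀ v, T (T v) = -v) {W : Submodule F V}
    (hW : ∀ w ∈ W, T w ∈ W) : Even (finrank F W) := by
  by_contra hne
  rw [Nat.not_even_iff_odd] at hne
  apply hns
  let g : W →ₗ[F] W := (T : V →ₗ[F] V).restrict hW
  have hg : g ∘ₗ g = (-1 : F) • LinearMap.id := by
    refine LinearMap.ext fun w => Subtype.ext ?_
    show T (T (w : V)) = (-1 : F) • (w : V)
    rw [hT2, neg_one_smul]
  have h1 := congrArg LinearMap.det hg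
  rw [LinearMap.det_comp, LinearMap.det_smul, LinearMap.det_id, mul_one, hne.neg_one_pow] at h1
  exact ⟨_, h1.symm⟩

/-- invariant subspaces of every even dimension -/
theorem exists_inv_two {T : V ≃ₗ[F] V} (hns : ¬ IsSquare (-1 : F)) (hT2 : ∀ v, T (T v) = -v) {W : Submodule F V}
    (hW : ∀ w ∈ W, T w ∈ W) (k : ℕ) (hk : 2 * k ≤ finrank F W) :
    ∃ U ≤ W, finrank F U = 2 * k ∧ ∀ w ∈ U, T w ∈ U := by
  induction k with
  | zero =>
    refine ⟨⊥, bot_le, by rw [finrank_bot], fun w hw => ?_⟩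
    rw [(Submodule.mem_bot F).1 hw, map_zero]; exact Submodule.zero_mem _
  | succ k ih =>
    obtain ⟨U, hUW, hUd, hU⟩ := ih (by omega)
    obtain ⟨v, hv, hvU⟩ : ∃ v ∈ W, v ∉ U := by
      by_contra hcon
      push Not at hcon
      have := Submodule.finrank_mono (R := F) (s := W) (t := U) hcon
      omega
    have hinv : ∀ w ∈ U ⊔ Submodule.span F {v, T v}, T w ∈ U ⊔ Submodule.span F {v, T v} := by
      intro w hw
      obtain ⟨a, ha, b, hb, rfl⟩ := Submodule.mem_sup.1 hw
      obtain ⟨c, e, rfl⟩ := Submodule.mem_span_pair.1 hb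
      rw [map_add, map_add, map_smul, map_smul, hT2]
      refine Submodule.add_mem_sup (hU a ha) (Submodule.mem_span_pair.2 ⟨-e, c, by module⟩)
    have h1 := even_of_inv hns hT2 hinv
    have h3 : finrank F ↥(U ⊔ Submodule.span F {v, T v}) ≤ 2 * k + 2 := by
      have h4 := Submodule.finrank_sup_add_finrank_inf_eq U (Submodule.span F {v, T v})
      have h5 : finrank F ↥(Submodule.span F ({v, T v} : Set V)) ≤ 2 := by
        classical
        have h6 := finrank_span_finset_le_card (R := F) ({v, T v} : Finset V)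
        rw [Finset.coe_insert, Finset.coe_singleton] at h6
        exact h6.trans Finset.card_le_two
      omega
    have h6 : 2 * k < finrank F ↥(U ⊔ Submodule.span F {v, T v}) := by
      rw [← hUd]
      apply Submodule.finrank_lt_finrank_of_lt
      refine lt_of_le_of_ne le_sup_left fun h => hvU ?_
      rw [h]
      exact Submodule.mem_sup_right (Submodule.subset_span (Set.mem_insert _ _))
    refine ⟨_, sup_le hUW ?_, ?_, hinv⟩
    · rw [Submodule.span_le]
      rintro y (rfl | rfl)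
      · exact hv
      · exact hW v hv
    · obtain ⟨j, hj⟩ := h1
      omega

theorem sq_neg_one_even [Finite F] (h2 : (2 : F) ≠ 0) (hns : ¬ IsSquare (-1 : F)) (hQ : Nondeg Q) (hP : IsPlus Q)
    {T : V ≃ₗ[F] V} (hT : T ∈ O Q) (hT2 : ∀ v, T (T v) = -v) {d : ℕ} (hd : finrank F V = 2 * d) :
    Even d ∧ ∀ m ≤ d, Even m → ∃ W ∈ TSm Q m, ∀ w ∈ W, T w ∈ W := by
  have h4 : ((4 : ℕ) : F) ≠ 0 := by
    have : ((4 : ℕ) : F) = 2 * 2 := by norm_num
    rw [this]; exact mul_ne_zero h2 h2
  have hT4 : (T : Module.End F V) ^ 4 = 1 := by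
    refine LinearMap.ext fun v => ?_
    show T (T (T (T v))) = v
    rw [hT2, hT2, neg_neg]
  obtain ⟨W, -, hW, hWs, M, -, hM, hMn, hor, hdim, hmax⟩ := exists_max (Q := Q) (x := (T : Module.End F V)) (r := 4)
    (fun v => hT v) h4 (by norm_num) hT4 (U := ⊤) (fun w hw => Submodule.mem_top)
    (nondeg_of_equiv (Submodule.topEquiv (R := F) (M := V)).symm (fun v => rfl) hQ)
  rw [finrank_top, hd] at hdim
  have hM' : ∀ w ∈ M, T w ∈ M := hM
  have hW' : ∀ w ∈ W, T w ∈ W := hW
  -- `M` is anisotropic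
  have hani : ∀ v ∈ M, Q v = 0 → v = 0 := by
    intro v hv hQv
    have h5 : Submodule.span F {v, T v} = ⊥ := by
      apply hmax
      · rw [Submodule.span_le]
        rintro y (rfl | rfl)
        · exact hv
        · exact hM' v hv
      · intro w hw
        obtain ⟨c, e, rfl⟩ := Submodule.mem_span_pair.1 hw
        show T (c • v + e • T v) ∈ _
        rw [map_add, map_smul, map_smul, hT2]
        exact Submodule.mem_span_pair.2 ⟨-e, c, by module⟩
      · have h6 : QuadraticMap.polar Q v (T v) = 0 := by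
          have h7 : QuadraticMap.polar Q (T v) (T (T v)) = QuadraticMap.polar Q v (T v) := polar_map hT _ _
          rw [hT2, polar_neg_right, polar_comm] at h7
          have h8 : 2 * QuadraticMap.polar Q v (T v) = 0 := by linear_combination -h7
          exact (mul_eq_zero.1 h8).resolve_left h2
        intro w hw
        obtain ⟨c, e, rfl⟩ := Submodule.mem_span_pair.1 hw
        rw [Q_add, QuadraticMap.map_smul, QuadraticMap.map_smul, polar_smul_left, polar_smul_right, h6, hT v, hQv]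
        simp
    rw [← Submodule.mem_bot F, ← h5]
    exact Submodule.subset_span (Set.mem_insert _ _)
  have hM3 : finrank F M < 3 := by
    by_contra hcon
    obtain ⟨w, hw0, hw⟩ := exists_singular (res Q M) (by omega)
    exact hw0 (Subtype.ext (hani w w.2 hw))
  have hM0 : finrank F M = 0 := by
    by_contra hne
    have hM2 : finrank F M = 2 := by omega
    have h5 := isPlus_iff_perp hQ hMn ⟨d, by omega⟩ (by rw [hM2]; exact even_two)
    have h6 : ¬ IsPlus (res Q M) := not_isPlus_of_aniso (fun y hy => Subtype.ext (hani y y.2 hy)) (by omega)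
    have h7 : IsPlus (res Q (perp Q M)) := by
      have hWM : W ≤ perp Q M := by
        intro w hw y hy
        rw [polar_comm]; exact hor w hw y hy
      refine isPlus_of_le (nondeg_perp hQ hMn) (U := W.comap (perp Q M).subtype) (fun u hu => hWs _ hu) ?_
      rw [(Submodule.comapSubtypeEquivOfLe hWM).finrank_eq]
      have h8 := finrank_add_perp hQ M
      omega
    exact h6 ((h5.1 hP).2 h7)
  have hWd : finrank F W = d := by omega
  have hev := even_of_inv hns hT2 hW'
  rw [hWd] at hev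
  refine ⟨hev, fun m hm hme => ?_⟩
  obtain ⟨k, hk⟩ := hme
  obtain ⟨U, hU, hUd, hUT⟩ := exists_inv_two hns hT2 hW' k (by omega)
  exact ⟨U, ⟨by omega, fun w hw => hWs w (hU hw)⟩, hUT⟩

end Gen

section Exist

variable {F : Type*} [Field F]

/-- `(a, b) ↦ (a, b / 2)` -/
noncomputable def halfEquiv (h2 : (2 : F) ≠ 0) (k : ℕ) : (Fin k ⊕ Fin k → F) ≃ₗ[F] (Fin k ⊕ Fin k → F) where
  toFun y := Sum.elim (fun i => y (Sum.inl i)) (fun i => 2⁻¹ * y (Sum.inr i))
  invFun y := Sum.elim (fun i => y (Sum.inl i)) (fun i => 2 * y (Sum.inr i))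
  map_add' a b := by
    funext j
    rcases j with i | i
    · rfl
    · show 2⁻¹ * (a (Sum.inr i) + b (Sum.inr i)) = 2⁻¹ * a (Sum.inr i) + 2⁻¹ * b (Sum.inr i)
      ring
  map_smul' c a := by
    funext j
    rcases j with i | i
    · rfl
    · show 2⁻¹ * (c * a (Sum.inr i)) = c * (2⁻¹ * a (Sum.inr i))
      ring
  left_inv y := by
    funext j
    rcases j with i | i
    · rfl
    · show 2 * (2⁻¹ * y (Sum.inr i)) = y (Sum.inr i)
      rw [mul_inv_cancel_left₀ h2]
  right_inv y := by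
    funext j
    rcases j with i | i
    · rfl
    · show 2⁻¹ * (2 * y (Sum.inr i)) = y (Sum.inr i)
      rw [inv_mul_cancel_left₀ h2]

theorem plus_half (h2 : (2 : F) ≠ 0) (k : ℕ) (y : Fin k ⊕ Fin k → F) :
    2 * plusForm k F (halfEquiv h2 k y) = plusForm k F y := by
  rw [plusForm_apply, plusForm_apply, Finset.mul_sum]
  refine Finset.sum_congr rfl fun i _ => ?_
  show 2 * (y (Sum.inl i) * (2⁻¹ * y (Sum.inr i))) = y (Sum.inl i) * y (Sum.inr i)
  field_simp

variable {Y : Type*} [AddCommGroup Y] [Module F Y]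

/-- `(a, b) ↦ (-b, a)` -/
def rotEquiv (F : Type*) [Field F] (Y : Type*) [AddCommGroup Y] [Module F Y] : (Y × Y) ≃ₗ[F] (Y × Y) where
  toFun p := (-p.2, p.1)
  invFun p := (p.2, -p.1)
  map_add' a b := by ext <;> simp [add_comm]
  map_smul' c a := by ext <;> simp
  left_inv p := by ext <;> simp
  right_inv p := by ext <;> simp

/-- `(a, b) ↦ (a, -b)` -/
def signEquiv (F : Type*) [Field F] (Y : Type*) [AddCommGroup Y] [Module F Y] : (Y × Y) ≃ₗ[F] (Y × Y) where
  toFun p := (p.1, -p.2)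
  invFun p := (p.1, -p.2)
  map_add' a b := by ext <;> simp [add_comm]
  map_smul' c a := by ext <;> simp
  left_inv p := by ext <;> simp
  right_inv p := by ext <;> simp

/-- `(a, b) ↦ (D (a + b), D (a - b))` -/
noncomputable def mixEquiv (h2 : (2 : F) ≠ 0) (D : Y ≃ₗ[F] Y) : (Y × Y) ≃ₗ[F] (Y × Y) where
  toFun p := (D (p.1 + p.2), D (p.1 - p.2))
  invFun p := ((2 : F)⁻¹ • (D.symm p.1 + D.symm p.2), (2 : F)⁻¹ • (D.symm p.1 - D.symm p.2))
  map_add' a b := by
    refine Prod.ext ?_ ?_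
    · show D (a.1 + b.1 + (a.2 + b.2)) = D (a.1 + a.2) + D (b.1 + b.2)
      rw [← map_add]; congr 1; abel
    · show D (a.1 + b.1 - (a.2 + b.2)) = D (a.1 - a.2) + D (b.1 - b.2)
      rw [← map_add]; congr 1; abel
  map_smul' c a := by
    refine Prod.ext ?_ ?_
    · show D (c • a.1 + c • a.2) = c • D (a.1 + a.2)
      rw [← smul_add, map_smul]
    · show D (c • a.1 - c • a.2) = c • D (a.1 - a.2)
      rw [← smul_sub, map_smul]
  left_inv p := by
    refine Prod.ext ?_ ?_
    · show (2 : F)⁻¹ • (D.symm (D (p.1 + p.2)) + D.symm (D (p.1 - p.2))) = p.1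
      rw [D.symm_apply_apply, D.symm_apply_apply]
      have : p.1 + p.2 + (p.1 - p.2) = (2 : F) • p.1 := by module
      rw [this, smul_smul, inv_mul_cancel₀ h2, one_smul]
    · show (2 : F)⁻¹ • (D.symm (D (p.1 + p.2)) - D.symm (D (p.1 - p.2))) = p.2
      rw [D.symm_apply_apply, D.symm_apply_apply]
      have : p.1 + p.2 - (p.1 - p.2) = (2 : F) • p.2 := by module
      rw [this, smul_smul, inv_mul_cancel₀ h2, one_smul]
  right_inv p := by
    refine Prod.ext ?_ ?_
    · show D ((2 : F)⁻¹ • (D.symm p.1 + D.symm p.2) + (2 : F)⁻¹ • (D.symm p.1 - D.symm p.2)) = p.1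
      have : (2 : F)⁻¹ • (D.symm p.1 + D.symm p.2) + (2 : F)⁻¹ • (D.symm p.1 - D.symm p.2) =
          (2 : F)⁻¹ • (2 : F) • D.symm p.1 := by module
      rw [this, smul_smul, inv_mul_cancel₀ h2, one_smul, D.apply_symm_apply]
    · show D ((2 : F)⁻¹ • (D.symm p.1 + D.symm p.2) - (2 : F)⁻¹ • (D.symm p.1 - D.symm p.2)) = p.2
      have : (2 : F)⁻¹ • (D.symm p.1 + D.symm p.2) - (2 : F)⁻¹ • (D.symm p.1 - D.symm p.2) =
          (2 : F)⁻¹ • (2 : F) • D.symm p.2 := by module
      rw [this, smul_smul, inv_mul_cancel₀ h2, one_smul, D.apply_symm_apply]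

/-- `(a, b) ↦ (-b, a)` is a commutator of isometries of `R ⊥ R` if `R` has a similarity with factor `1 / 2`. -/
theorem rot_mem_commutator (h2 : (2 : F) ≠ 0) {R : QuadraticForm F Y} (D : Y ≃ₗ[F] Y) (hD : ∀ y, 2 * R (D y) = R y) :
    rotEquiv F Y ∈ ⁅O (osum R R), O (osum R R)⁆ := by
  have hB : signEquiv F Y ∈ O (osum R R) := by
    intro p
    show R p.1 + R (-p.2) = R p.1 + R p.2
    rw [QuadraticMap.map_neg]
  have hA : mixEquiv h2 D ∈ O (osum R R) := by
    intro p
    show R (D (p.1 + p.2)) + R (D (p.1 - p.2)) = R p.1 + R p.2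
    have h1 := hD (p.1 + p.2)
    have h3 := hD (p.1 - p.2)
    rw [Q_add] at h1
    rw [sub_eq_add_neg, Q_add, QuadraticMap.map_neg, polar_neg_right] at h3
    have h4 : 2 * (R (D (p.1 + p.2)) + R (D (p.1 + -p.2))) = 2 * (R p.1 + R p.2) := by
      linear_combination h1 + h3
    rw [sub_eq_add_neg]
    exact mul_left_cancel₀ h2 h4
  have h5 := Subgroup.commutator_mem_commutator hA hB
  rw [commutatorElement_def] at h5
  have h6 : mixEquiv h2 D * signEquiv F Y * (mixEquiv h2 D)⁻¹ * (signEquiv F Y)⁻¹ = rotEquiv F Y := by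
    rw [mul_inv_eq_iff_eq_mul, mul_inv_eq_iff_eq_mul]
    apply LinearEquiv.ext
    intro p
    refine Prod.ext ?_ ?_
    · show D (p.1 + -p.2) = -(-(D (p.1 - p.2)))
      rw [neg_neg, sub_eq_add_neg]
    · show D (p.1 - -p.2) = D (p.1 + p.2)
      rw [sub_neg_eq_add]
  rw [h6] at h5
  exact h5

universe u v

theorem exists_sq_neg_one {F : Type u} [Field F] [Finite F] {V : Type v} [AddCommGroup V] [Module F V]
    [FiniteDimensional F V] {Q : QuadraticForm F V} (h2 : (2 : F) ≠ 0) (hQ : Nondeg Q) (hP : IsPlus Q)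
    {d : ℕ} (hd : finrank F V = 2 * d) (hde : Even d) :
    ∃ T ∈ O Q, T ∈ ⁅O Q, O Q⁆ ∧ ∀ v, T (T v) = -v := by
  obtain ⟨k, hk⟩ := hde
  have hn := nondeg_plus (F := F) k
  obtain ⟨e, he⟩ := exists_equiv_of_isPlus_iff (Q := osum (plusForm k F) (plusForm k F)) (Q' := Q)
    (nondeg_osum hn hn) hQ (by rw [Module.finrank_prod, finrank_plus]; exact ⟨2 * k, by ring⟩)
    (by rw [Module.finrank_prod, finrank_plus, hd, hk]; ring)
    (iff_of_true ((isPlus_plus k).osum (isPlus_plus k)) hP)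
  have h3 := rot_mem_commutator h2 (R := plusForm k F) (halfEquiv h2 k) (plus_half h2 k)
  have h4 : ∀ g, g ∈ O (osum (plusForm k F) (plusForm k F)) → H955.tr e g ∈ O Q := fun g hg => (tr_mem_O e he).2 hg
  have h5 : H955.tr e (rotEquiv F _) ∈ ⁅O Q, O Q⁆ := by
    have h6 : (⁅O (osum (plusForm k F) (plusForm k F)), O (osum (plusForm k F) (plusForm k F))⁆).map
        (H955.tr e).toMonoidHom ≤ ⁅O Q, O Q⁆ := by
      rw [Subgroup.map_commutator]
      apply Subgroup.commutator_mono
      · rintro _ ⟨g, hg, rfl⟩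
        exact h4 g hg
      · rintro _ ⟨g, hg, rfl⟩
        exact h4 g hg
    exact h6 ⟨_, h3, rfl⟩
  refine ⟨H955.tr e (rotEquiv F _), ?_, h5, fun v => ?_⟩
  · refine h4 _ fun p => ?_
    show plusForm k F (-p.2) + plusForm k F p.1 = plusForm k F p.1 + plusForm k F p.2
    rw [QuadraticMap.map_neg, add_comm]
  · rw [H955.tr_apply, H955.tr_apply, LinearEquiv.symm_apply_apply]
    have h7 : ∀ p : (Fin k ⊕ Fin k → F) × (Fin k ⊕ Fin k → F), rotEquiv F _ (rotEquiv F _ p) = -p := by
      intro p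
      exact Prod.ext rfl rfl
    rw [h7, map_neg, LinearEquiv.apply_symm_apply]

end Exist

end Cfsg.Agent.H954.TSing
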