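import Cfsg.Agent.H954.TSing10
import Cfsg.Agent.H954.TSTwo3
import Cfsg.Agent.H954.PCount
import Cfsg.Agent.H957.Bridge
import Cfsg.Agent.LieClassical.OrthForms

/-!
# Matrices and linear automorphisms (helper954)
-/

set_option autoImplicit false

namespace Cfsg.Agent.H954.TSing

open Module QuadraticMap Cfsg.Agent.LieClassical Cfsg.Agent.LieClassical.OrthCore Cfsg.Agent.H955
  Cfsg.Agent.LieClassical.OrthFinite Cfsg.Agent.H957 Cfsg.Agent.FooteOrth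
open scoped MatrixGroups

variable {ι : Type} [Fintype ι] [DecidableEq ι] {F : Type*} [Field F] {Q : QuadraticForm F (ι → F)}

theorem mem_omegaGL_iff {x : GL ι F} : x ∈ Cfsg.Geo.omegaGL (⇑Q) ↔ eOf x ∈ ⁅O Q, O Q⁆ := by
  rw [← map_Omega]
  constructor
  · intro h
    obtain ⟨h1, h2⟩ := mem_omegaGL.1 h
    exact ⟨⟨x, h1⟩, h2, LinearEquiv.ext fun v => rfl⟩
  · rintro ⟨g, hg, hgx⟩
    have h1 : (g : GL ι F) = x := by
      apply glOf_ext
      intro v
      have h2 := congrArg (fun T : (ι → F) ≃ₗ[F] (ι → F) => T v) hgx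
      exact h2
    rw [← h1, mem_omegaGL]
    exact ⟨g.2, hg⟩

theorem mem_omega_glOf {T : (ι → F) ≃ₗ[F] (ι → F)} : glOf T ∈ Cfsg.Geo.omegaGL (⇑Q) ↔ T ∈ ⁅O Q, O Q⁆ := by
  rw [mem_omegaGL_iff, eOf_glOf]

theorem commutator_le_O : ⁅O Q, O Q⁆ ≤ O Q := by
  rw [Subgroup.commutator_le]
  intro a ha b hb
  rw [commutatorElement_def]
  exact (O Q).mul_mem ((O Q).mul_mem ((O Q).mul_mem ha hb) ((O Q).inv_mem ha)) ((O Q).inv_mem hb)

theorem mem_commutator_of_odd (hQ : Nondeg Q) (h : Nat.card F ≠ 2 ∨ Fintype.card ι ≠ 4) {r : ℕ} (hr : Odd r)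
    {T : (ι → F) ≃ₗ[F] (ι → F)} (hT : T ∈ O Q) (hTr : T ^ r = 1) : T ∈ ⁅O Q, O Q⁆ := by
  rw [← mem_omega_glOf]
  refine mem_omegaGL_of_odd Q (nondegenerate_of_nondeg hQ) h hr _ ?_ ?_
  · rw [mem_isometryGroup_iff]
    intro v
    rw [glOf_mulVec]; exact hT v
  · rw [← glOf_pow, hTr, glOf_one]

theorem eOf_mul (x y : GL ι F) : eOf (x * y) = eOf x * eOf y := by
  apply LinearEquiv.ext
  intro v
  show eOf (x * y) v = eOf x (eOf y v)
  rw [eOf_apply, eOf_apply, eOf_apply, Matrix.mulVec_mulVec, Units.val_mul]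

theorem eOf_one : eOf (1 : GL ι F) = 1 := by
  apply LinearEquiv.ext
  intro v
  rw [eOf_apply]; simp

theorem eOf_pow (x : GL ι F) (n : ℕ) : eOf (x ^ n) = eOf x ^ n := by
  induction n with
  | zero => rw [pow_zero, pow_zero, eOf_one]
  | succ n ih => rw [pow_succ, pow_succ, eOf_mul, ih]

theorem map_le_iff {x : GL ι F} {W : Submodule F (ι → F)} :
    W.map (Matrix.toLin' (x : Matrix ι ι F)) ≤ W ↔ ∀ w ∈ W, eOf x w ∈ W := by
  rw [Submodule.map_le_iff_le_comap]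
  rfl

/-- `det` and spinor sign of elements of `Ω` -/
theorem det_sg_of_mem [Finite F] {T : (ι → F) ≃ₗ[F] (ι → F)} (hT : T ∈ ⁅O Q, O Q⁆) :
    LinearEquiv.det T = 1 ∧ sg Q ⟨T, commutator_le_O hT⟩ = 1 := by
  constructor
  · have h : ⁅O Q, O Q⁆ ≤ (LinearEquiv.det : ((ι → F) ≃ₗ[F] (ι → F)) →* Fˣ).ker := by
      rw [Subgroup.commutator_le]
      intro a _ b _
      rw [MonoidHom.mem_ker, commutatorElement_def, map_mul, map_mul, map_mul, map_inv, map_inv]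
      rw [mul_comm (LinearEquiv.det a) (LinearEquiv.det b)]
      group
    exact h hT
  · have h : ⁅O Q, O Q⁆ ≤ ((sg Q).ker).map (O Q).subtype := by
      rw [Subgroup.commutator_le]
      intro a ha b hb
      refine ⟨⟨a, ha⟩ * ⟨b, hb⟩ * ⟨a, ha⟩⁻¹ * ⟨b, hb⟩⁻¹, ?_, rfl⟩
      show _ ∈ (sg Q).ker
      rw [MonoidHom.mem_ker, map_mul, map_mul, map_mul, map_inv, map_inv,
        mul_comm (sg Q ⟨a, ha⟩) (sg Q ⟨b, hb⟩)]
      group
    obtain ⟨g, hg, hgT⟩ := h hT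
    have h1 : g = ⟨T, commutator_le_O hT⟩ := Subtype.ext hgT
    rw [← h1]
    exact hg

section Small

variable {V : Type*} [AddCommGroup V] [Module F V] [FiniteDimensional F V] {R : QuadraticForm F V}

theorem tsm_nonempty_plus {d m : ℕ} (hd : finrank F V = 2 * d) (hP : IsPlus R) (hm : m ≤ d) : (TSm R m).Nonempty := by
  obtain ⟨W, hW, hWd⟩ := hP
  obtain ⟨W', hW', hW'd⟩ := H951.exists_sub W (a := m) (by omega)
  exact ⟨W', hW'd, fun w hw => hW w (hW' hw)⟩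

theorem tsm_nonempty_odd [Finite F] (hR : Nondeg R) {d m : ℕ} (hd : finrank F V = 2 * d + 1) (hm : m ≤ d) :
    (TSm R m).Nonempty := by
  obtain ⟨W, -, hW, hWd⟩ := exists_ts_fix_odd (Q := R) (U := ⊤)
    (nondeg_of_equiv (Submodule.topEquiv (R := F) (M := V)).symm (fun v => rfl) hR)
    (by rw [finrank_top, hd]; exact ⟨d, rfl⟩)
  rw [finrank_top, hd] at hWd
  obtain ⟨W', hW', hW'd⟩ := H951.exists_sub W (a := m) (by omega)
  exact ⟨W', hW'd, fun w hw => hW w (hW' hw)⟩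

theorem cast_ne_zero_of_ne {p r : ℕ} [hp : Fact p.Prime] [CharP F p] [hr : Fact r.Prime] (h : r ≠ p) : (r : F) ≠ 0 := by
  intro h0
  have h1 := (CharP.cast_eq_zero_iff F p r).1 h0
  exact h ((Nat.prime_dvd_prime_iff_eq hp.out hr.out).1 h1).symm

theorem not_dvd_card_of_char [Finite F] {p r : ℕ} [Fact p.Prime] [CharP F p] [hr : Fact r.Prime] (hR : Nondeg R)
    {m : ℕ} (hm : 2 * m < finrank F V) (hne : (TSm R m).Nonempty) (hdvd : r ∣ Nat.card (TSm R m)) : r ≠ p := by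
  rintro rfl
  have h1 := card_TSm_modEq_one (p := r) m hR hm hne
  have h2 : Nat.card (TSm R m) ≡ 0 [MOD r] := (Nat.modEq_zero_iff_dvd).2 hdvd
  have h3 : r ∣ 1 := (Nat.modEq_zero_iff_dvd).1 (h1.symm.trans h2)
  exact hr.out.one_lt.ne' (Nat.dvd_one.1 h3)

end Small

/-- scalars -/
theorem eOf_ne_one_of {x : GL ι F} (h : eOf x = 1) : x = 1 := by
  rw [← glOf_eOf x, h, glOf_one]

end Cfsg.Agent.H954.TSing
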