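import Cfsg.Agent.H954.TSBridge

/-!
# Scalars (helper954)
-/

set_option autoImplicit false

namespace Cfsg.Agent.H954.TSing

open Module QuadraticMap Cfsg.Agent.LieClassical Cfsg.Agent.LieClassical.OrthCore Cfsg.Agent.H955
  Cfsg.Agent.LieClassical.OrthFinite Cfsg.Agent.H957 Cfsg.Agent.FooteOrth
open scoped MatrixGroups

section Matrix

variable {ι : Type} [Fintype ι] [DecidableEq ι] {F : Type*} [Field F]

theorem coe_eq_smul_one_iff {x : GL ι F} {z : F} :
    (x : Matrix ι ι F) = z • (1 : Matrix ι ι F) ↔ ∀ v, eOf x v = z • v := by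
  constructor
  · intro h v
    rw [eOf_apply, h, Matrix.smul_mulVec, Matrix.one_mulVec]
  · intro h
    apply Matrix.ext_of_mulVec_single
    intro j
    rw [Matrix.smul_mulVec, Matrix.one_mulVec]
    exact h _

end Matrix

section Gen

variable {F V : Type*} [Field F] [AddCommGroup V] [Module F V] {Q : QuadraticForm F V}

/-- a scalar isometry is `± 1` -/
theorem scalar_sq [Nontrivial V] (hQ : Nondeg Q) {T : V ≃ₗ[F] V} (hT : T ∈ O Q) {z : F} (hz : ∀ v, T v = z • v) :
    z = 1 ∨ z = -1 := by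
  obtain ⟨x, hx⟩ := exists_ne (0 : V)
  obtain ⟨v, hv⟩ : ∃ v, Q v ≠ 0 := by
    by_contra hcon
    push Not at hcon
    apply hx
    apply hQ
    intro y
    rw [QuadraticMap.polar, hcon, hcon, hcon]; ring
  have h1 := hT v
  rw [hz, QuadraticMap.map_smul, smul_eq_mul] at h1
  have h2 : z * z = 1 := by
    have : (z * z - 1) * Q v = 0 := by linear_combination h1
    have := (mul_eq_zero.1 this).resolve_right hv
    linear_combination this
  exact mul_self_eq_one_iff.1 h2

/-- `-T` -/
noncomputable def negE (T : V ≃ₗ[F] V) : V ≃ₗ[F] V := T.trans (LinearEquiv.neg F)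

theorem negE_apply (T : V ≃ₗ[F] V) (v : V) : negE T v = -T v := rfl

theorem negE_mem {T : V ≃ₗ[F] V} (hT : T ∈ O Q) : negE T ∈ O Q := by
  intro v
  rw [negE_apply, QuadraticMap.map_neg, hT]

theorem negE_pow (T : V ≃ₗ[F] V) (n : ℕ) (v : V) : (negE T ^ n) v = (-1 : F) ^ n • (T ^ n) v := by
  induction n generalizing v with
  | zero => simp
  | succ n ih =>
    rw [pow_succ, LinearEquiv.mul_apply, ih, negE_apply, map_neg, pow_succ (T : V ≃ₗ[F] V), LinearEquiv.mul_apply,
      pow_succ (-1 : F)]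
    module

end Gen

end Cfsg.Agent.H954.TSing
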