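import Cfsg.Agent.H954.TSing7
import Cfsg.Agent.FooteOrth.Spin

/-!
# Totally singular subspaces and elements with `x ^ 2 = ± 1` (helper954)

Characteristic not two.

* `two_glue`, `two_odd`, `two_even` : involutions;
* `exists_half_of_sg` : `-1` a square, `T` an involution with trivial determinant and spinor sign: `[V, T]` has plus
  type;
* `exists_refl_pair` : `-1` a nonsquare, an involution in `Ω` whose commutator space is an anisotropic plane;
* `sq_neg_one_square`, `sq_neg_one_even`, `exists_sq_neg_one` : elements with `T ^ 2 = -1`.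
-/

set_option autoImplicit false

namespace Cfsg.Agent.H954.TSing

open Module QuadraticMap Cfsg.Agent.LieClassical.OrthCore Cfsg.Agent.LieClassical.OrthTrans Cfsg.Agent.H955
  Cfsg.Agent.FooteOrth

section Gen

variable {F V : Type*} [Field F] [AddCommGroup V] [Module F V] [FiniteDimensional F V] {Q : QuadraticForm F V}

/-- subspaces of the eigenspaces of an involution -/
theorem two_glue (h2 : (2 : F) ≠ 0) {T : V ≃ₗ[F] V} (hT : T ∈ O Q) (hT2 : T ^ 2 = 1) {W₀ W₁ : Submodule F V}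
    (h0 : W₀ ≤ fixS T) (h0s : TS Q W₀) (h1 : W₁ ≤ comS T) (h1s : TS Q W₁) {m : ℕ}
    (hm : m ≤ finrank F W₀ + finrank F W₁) : ∃ W ∈ TSm Q m, ∀ w ∈ W, T w ∈ W := by
  have hr : ((2 : ℕ) : F) ≠ 0 := by exact_mod_cast h2
  obtain ⟨a, b, ha, hb, hab⟩ : ∃ a b, a ≤ finrank F W₀ ∧ b ≤ finrank F W₁ ∧ m = a + b := by
    by_cases h : m ≤ finrank F W₀
    · exact ⟨m, 0, h, Nat.zero_le _, rfl⟩
    · exact ⟨finrank F W₀, m - finrank F W₀, le_rfl, by omega, by omega⟩
  obtain ⟨U₀, hU₀, hU₀d⟩ := H951.exists_sub W₀ ha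
  obtain ⟨U₁, hU₁, hU₁d⟩ := H951.exists_sub W₁ hb
  have hneg : ∀ v ∈ comS T, T v = -v := by
    intro v hv
    obtain ⟨w, rfl⟩ := mem_comS.1 hv
    have h3 : T (T w) = w := by
      have := congrArg (fun g : V ≃ₗ[F] V => g w) hT2
      simpa [pow_two] using this
    rw [map_sub, h3]; abel
  refine ⟨U₀ ⊔ U₁, ⟨?_, ?_⟩, ?_⟩
  · rw [H951.finrank_sup_of_disj, hU₀d, hU₁d, hab]
    rw [eq_bot_iff, ← (isCompl_fixS_comS hr hT2).inf_eq_bot]
    exact inf_le_inf (hU₀.trans h0) (hU₁.trans h1)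
  · refine TS.sup (Q := Q) (h0s.mono hU₀) (h1s.mono hU₁) fun u hu w hw => ?_
    have := orth_fx_cm (x := (T : Module.End F V)) (Q := Q) (fun v => hT v)
    rw [fx_coe, cm_coe] at this
    exact this u (h0 (hU₀ hu)) w (h1 (hU₁ hw))
  · intro w hw
    obtain ⟨a, ha, b, hb, rfl⟩ := Submodule.mem_sup.1 hw
    rw [map_add, mem_fixS.1 (h0 (hU₀ ha)), hneg b (h1 (hU₁ hb))]
    exact Submodule.add_mem_sup ha (U₁.neg_mem hb)

omit [FiniteDimensional F V] in
theorem nondeg_fixS (hQ : Nondeg Q) {T : V ≃ₗ[F] V} (hT : T ∈ O Q) {r : ℕ} (hr : (r : F) ≠ 0) (hTr : T ^ r = 1) :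
    Nondeg (res Q (fixS T)) := by
  have := nondeg_fx (x := (T : Module.End F V)) hQ (fun v => hT v) hr (coe_pow_eq_one hTr)
  rwa [fx_coe] at this

variable [Finite F]

/-- involutions in odd dimension -/
theorem two_odd (h2 : (2 : F) ≠ 0) (hQ : Nondeg Q) {T : V ≃ₗ[F] V} (hT : T ∈ O Q) (hT2 : T ^ 2 = 1)
    {d m : ℕ} (hd : finrank F V = 2 * d + 1) (hm : m + 1 ≤ d) : ∃ W ∈ TSm Q m, ∀ w ∈ W, T w ∈ W := by
  have hr : ((2 : ℕ) : F) ≠ 0 := by exact_mod_cast h2
  have hn0 := nondeg_fixS hQ hT hr hT2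
  have hn1 := nondeg_comS hQ hT hr hT2
  have hdd := finrank_fixS_add_comS T
  rcases Nat.even_or_odd (finrank F (fixS T)) with he | ho
  · have ho1 : Odd (finrank F (comS T)) := by
      obtain ⟨k, hk⟩ := he
      exact ⟨d - k, by omega⟩
    obtain ⟨W₀, hW₀, hW₀s, hW₀d⟩ := exists_ts_fix hn0
    obtain ⟨W₁, hW₁, hW₁s, hW₁d⟩ := exists_ts_fix_odd hn1 ho1
    exact two_glue h2 hT hT2 hW₀ hW₀s hW₁ hW₁s (by omega)
  · obtain ⟨W₀, hW₀, hW₀s, hW₀d⟩ := exists_ts_fix_odd hn0 ho
    obtain ⟨W₁, hW₁, hW₁s, hW₁d⟩ := exists_ts_fix hn1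
    exact two_glue h2 hT hT2 hW₀ hW₀s hW₁ hW₁s (by omega)

/-- involutions in even dimension -/
theorem two_even (h2 : (2 : F) ≠ 0) (hQ : Nondeg Q) {T : V ≃ₗ[F] V} (hT : T ∈ O Q) (hT2 : T ^ 2 = 1)
    {d m : ℕ} (hd : finrank F V = 2 * d) (hm : m + 2 ≤ d) : ∃ W ∈ TSm Q m, ∀ w ∈ W, T w ∈ W := by
  have hr : ((2 : ℕ) : F) ≠ 0 := by exact_mod_cast h2
  have hn0 := nondeg_fixS hQ hT hr hT2
  have hn1 := nondeg_comS hQ hT hr hT2
  have hdd := finrank_fixS_add_comS T
  obtain ⟨W₀, hW₀, hW₀s, hW₀d⟩ := exists_ts_fix hn0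
  obtain ⟨W₁, hW₁, hW₁s, hW₁d⟩ := exists_ts_fix hn1
  exact two_glue h2 hT hT2 hW₀ hW₀s hW₁ hW₁s (by omega)

/-- the product of two reflections -/
theorem exists_refl_pair (h2 : (2 : F) ≠ 0) (hns : ¬ IsSquare (-1 : F)) (hQ : Nondeg Q) (hd : 3 ≤ finrank F V) :
    ∃ T ∈ O Q, T ∈ ⁅O Q, O Q⁆ ∧ T ^ 2 = 1 ∧ T ≠ 1 ∧ finrank F (comS T) = 2 ∧ ¬ IsPlus (res Q (comS T)) ∧
      ∀ W : Submodule F V, (∀ w ∈ W, T w ∈ W) → TS Q W → W ≤ fixS T := by
  obtain ⟨u, hu⟩ := exists_val hQ (by omega) 1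
  have hu' : Q u ≠ 0 := by rw [hu]; exact one_ne_zero
  have hu0 : u ≠ 0 := fun h => hu' (by rw [h, map_zero])
  have hup := finrank_add_perp hQ (F ∙ u)
  rw [finrank_span_singleton hu0] at hup
  obtain ⟨⟨v, hvu⟩, hv⟩ := exists_val (nondeg_perp hQ (nondeg_span h2 hu')) (by omega) 1
  have hv1 : Q v = 1 := hv
  have hv' : Q v ≠ 0 := by rw [hv1]; exact one_ne_zero
  have huv : QuadraticMap.polar Q u v = 0 := hvu u (Submodule.mem_span_singleton_self u)
  have hvu' : QuadraticMap.polar Q v u = 0 := by rw [polar_comm]; exact huv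
  have hTapp : ∀ y, (refl Q u hu' * refl Q v hv') y =
      y - QuadraticMap.polar Q u y • u - QuadraticMap.polar Q v y • v := by
    intro y
    show refl Q u hu' (refl Q v hv' y) = _
    rw [refl_apply, refl_apply, hu, hv1, inv_one, one_mul, one_mul, polar_sub_right, polar_smul_right, huv]
    simp only [smul_eq_mul, mul_zero, sub_zero]
    abel
  have hTO : refl Q u hu' * refl Q v hv' ∈ O Q := (O Q).mul_mem (refl_mem_O hu') (refl_mem_O hv')
  have hT2 : (refl Q u hu' * refl Q v hv') ^ 2 = 1 := by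
    rw [pow_two]
    calc refl Q u hu' * refl Q v hv' * (refl Q u hu' * refl Q v hv')
        = refl Q u hu' * refl Q v hv' * (refl Q v hv' * refl Q u hu') := by rw [refl_comm hu' hv' huv]
      _ = refl Q u hu' * (refl Q v hv' * refl Q v hv') * refl Q u hu' := by group
      _ = 1 := by rw [refl_mul_self, mul_one, refl_mul_self]
  have huu : QuadraticMap.polar Q u u = 2 := by rw [polar_self', hu, mul_one]
  have hvv : QuadraticMap.polar Q v v = 2 := by rw [polar_self', hv1, mul_one]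
  -- the commutator space
  have hcom : comS (refl Q u hu' * refl Q v hv') = Submodule.span F {u, v} := by
    apply le_antisymm
    · intro y hy
      obtain ⟨z, rfl⟩ := mem_comS.1 hy
      rw [hTapp, Submodule.mem_span_pair]
      exact ⟨-QuadraticMap.polar Q u z, -QuadraticMap.polar Q v z, by module⟩
    · rw [Submodule.span_le]
      have h4 : ∀ y, (refl Q u hu' * refl Q v hv') y = -y → y ∈ comS (refl Q u hu' * refl Q v hv') := by
        intro y hy
        refine mem_comS.2 ⟨(-(2 : F)⁻¹) • y, ?_⟩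
        rw [map_smul, hy, smul_neg, neg_smul, neg_neg, sub_neg_eq_add, ← add_smul]
        have : (2 : F)⁻¹ + 2⁻¹ = 1 := by rw [← two_mul, mul_inv_cancel₀ h2]
        rw [this, one_smul]
      rintro y (rfl | rfl)
      · apply h4
        rw [hTapp, huu, hvu', zero_smul, sub_zero]
        module
      · apply h4
        rw [hTapp, hvv, huv, zero_smul, sub_zero]
        module
  -- the plane is anisotropic
  have hani : ∀ y ∈ comS (refl Q u hu' * refl Q v hv'), Q y = 0 → y = 0 := by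
    intro y hy hQy
    rw [hcom, Submodule.mem_span_pair] at hy
    obtain ⟨a, b, rfl⟩ := hy
    rw [Q_add, QuadraticMap.map_smul, QuadraticMap.map_smul, polar_smul_left, polar_smul_right, huv, hu, hv1] at hQy
    simp only [smul_eq_mul, mul_zero, add_zero, mul_one] at hQy
    by_cases hb : b = 0
    · subst hb
      have ha : a = 0 := by
        have : a * a = 0 := by linear_combination hQy
        exact mul_self_eq_zero.1 this
      rw [ha]; simp
    · exfalso
      apply hns
      refine ⟨a * b⁻¹, ?_⟩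
      have h5 : a * a = -(b * b) := by linear_combination hQy
      field_simp
      linear_combination -h5
  have hli : LinearIndependent F ![u, v] := by
    rw [LinearIndependent.pair_iff]
    intro a b hab
    have h6 : QuadraticMap.polar Q u (a • u + b • v) = 0 := by rw [hab, polar_zero_right]
    have h7 : QuadraticMap.polar Q v (a • u + b • v) = 0 := by rw [hab, polar_zero_right]
    rw [polar_add_right, polar_smul_right, polar_smul_right, huu, huv] at h6
    rw [polar_add_right, polar_smul_right, polar_smul_right, hvv, hvu'] at h7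
    simp only [smul_eq_mul, mul_zero, add_zero, zero_add] at h6 h7
    exact ⟨(mul_eq_zero.1 h6).resolve_right h2, (mul_eq_zero.1 h7).resolve_right h2⟩
  have hfr : finrank F (comS (refl Q u hu' * refl Q v hv')) = 2 := by
    rw [hcom]
    have := finrank_span_eq_card hli
    rw [Matrix.range_cons_cons_empty, Fintype.card_fin] at this
    exact this
  have hr : ((2 : ℕ) : F) ≠ 0 := by exact_mod_cast h2
  refine ⟨refl Q u hu' * refl Q v hv', hTO, ?_, hT2, ?_, hfr, ?_, ?_⟩
  · -- a commutator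
    have h8 : Q (v - u) ≠ 0 := by
      rw [sub_eq_add_neg, Q_add, QuadraticMap.map_neg, polar_neg_right, hvu', hu, hv1, neg_zero, add_zero]
      rw [show (1 : F) + 1 = 2 by norm_num]
      exact h2
    have h9 : refl Q (v - u) h8 v = u := refl_sub_apply (by rw [hu, hv1]) h8
    have h10 : refl Q (v - u) h8 * refl Q v hv' * (refl Q (v - u) h8)⁻¹ = refl Q u hu' := by
      have h11 : Q (refl Q (v - u) h8 v) ≠ 0 := by rw [h9]; exact hu'
      rw [refl_conj (refl_mem_O h8) hv' h11]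
      congr 1
    have h12 := Subgroup.commutator_mem_commutator (refl_mem_O h8) (refl_mem_O hv')
    rw [commutatorElement_def, h10, refl_inv] at h12
    exact h12
  · intro h
    rw [h] at hfr
    have h13 : comS (1 : V ≃ₗ[F] V) = ⊥ := by
      rw [Submodule.eq_bot_iff]
      intro y hy
      obtain ⟨z, rfl⟩ := mem_comS.1 hy
      exact sub_self z
    rw [h13, finrank_bot] at hfr
    omega
  · refine not_isPlus_of_aniso (fun y hy => Subtype.ext (hani y y.2 hy)) (by rw [hfr]; exact two_pos)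
  · intro W hW hWs
    have hWi : H951.Inv ((refl Q u hu' * refl Q v hv' : V ≃ₗ[F] V) : Module.End F V) W := hW
    have h14 := H951.inf_fx_sup_inf_cm hr (coe_pow_eq_one hT2) hWi
    have h15 : W ⊓ H951.cm ((refl Q u hu' * refl Q v hv' : V ≃ₗ[F] V) : Module.End F V) = ⊥ := by
      rw [cm_coe, Submodule.eq_bot_iff]
      exact fun y hy => hani y hy.2 (hWs y hy.1)
    rw [h15, sup_bot_eq, fx_coe] at h14
    rw [← h14]; exact inf_le_right

end Gen

end Cfsg.Agent.H954.TSing
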