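import Cfsg.Agent.H954.TSTwo

/-!
# Elements with `T ^ 2 = ± 1`, II (helper954)

Characteristic not two.

* `negS` : the `-1`-eigenspace; `negS_mul_refl`;
* `exists_half_of_sg` : `-1` a square, `T` an involution with trivial determinant and spinor sign: `negS T` has
  a totally singular subspace of half the dimension;
* `sq_neg_one_square` : `T ^ 2 = -1`, `-1` a square;
* `sq_neg_one_even` : `T ^ 2 = -1`, `-1` a nonsquare;
* `exists_sq_neg_one`.
-/

set_option autoImplicit false

namespace Cfsg.Agent.H954.TSing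

open Module QuadraticMap Cfsg.Agent.LieClassical.OrthCore Cfsg.Agent.LieClassical.OrthTrans Cfsg.Agent.H955
  Cfsg.Agent.FooteOrth

section Neg

variable {F V : Type*} [Field F] [AddCommGroup V] [Module F V] {Q : QuadraticForm F V}

/-- the `-1`-eigenspace -/
def negS (T : V ≃ₗ[F] V) : Submodule F V := LinearMap.ker ((T : V →ₗ[F] V) + LinearMap.id)

theorem mem_negS {T : V ≃ₗ[F] V} {v : V} : v ∈ negS T ↔ T v = -v := by
  rw [negS, LinearMap.mem_ker, LinearMap.add_apply, LinearMap.id_apply, eq_neg_iff_add_eq_zero]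
  rfl

theorem sq_apply {T : V ≃ₗ[F] V} (hT2 : T ^ 2 = 1) (v : V) : T (T v) = v := by
  have := congrArg (fun g : V ≃ₗ[F] V => g v) hT2
  simpa [pow_two] using this

theorem comS_eq_negS (h2 : (2 : F) ≠ 0) {T : V ≃ₗ[F] V} (hT2 : T ^ 2 = 1) : comS T = negS T := by
  apply le_antisymm
  · intro v hv
    obtain ⟨w, rfl⟩ := mem_comS.1 hv
    rw [mem_negS, map_sub, sq_apply hT2]; abel
  · intro y hy
    have hy := mem_negS.1 hy
    refine mem_comS.2 ⟨(-(2 : F)⁻¹) • y, ?_⟩
    rw [map_smul, hy, smul_neg, neg_smul, neg_neg, sub_neg_eq_add, ← add_smul]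
    have : (2 : F)⁻¹ + 2⁻¹ = 1 := by rw [← two_mul, mul_inv_cancel₀ h2]
    rw [this, one_smul]

/-- multiplication by a reflection in a vector of `negS T` -/
theorem negS_mul_refl [FiniteDimensional F V] (h2 : (2 : F) ≠ 0) {T : V ≃ₗ[F] V} (hT : T ∈ O Q) (hT2 : T ^ 2 = 1)
    {u : V} (hu : T u = -u) (hQu : Q u ≠ 0) :
    T * refl Q u hQu ∈ O Q ∧ (T * refl Q u hQu) ^ 2 = 1 ∧
    (∀ y, y ∈ negS (T * refl Q u hQu) ↔ y ∈ negS T ∧ QuadraticMap.polar Q u y = 0) ∧
    finrank F (negS (T * refl Q u hQu)) + 1 = finrank F (negS T) := by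
  have hO := (O Q).mul_mem hT (refl_mem_O hQu)
  have hne : (-1 : F) ≠ 0 := neg_ne_zero.2 one_ne_zero
  have hcomm : T * refl Q u hQu = refl Q u hQu * T := by
    have h1 : Q (T u) ≠ 0 := by rw [mem_O.1 hT]; exact hQu
    have h3 := refl_conj hT hQu h1
    have h4 : refl Q (T u) h1 = refl Q u hQu := by
      have h5 : T u = (-1 : F) • u := by rw [hu, neg_one_smul]
      have h6 : Q ((-1 : F) • u) ≠ 0 := by rw [← h5]; exact h1
      rw [← refl_smul hQu hne h6]
      congr 1
    rw [h4] at h3
    exact mul_inv_eq_iff_eq_mul.1 h3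
  have hsq : (T * refl Q u hQu) ^ 2 = 1 := by
    rw [pow_two]
    calc T * refl Q u hQu * (T * refl Q u hQu) = T * (refl Q u hQu * T) * refl Q u hQu := by group
      _ = T * (T * refl Q u hQu) * refl Q u hQu := by rw [← hcomm]
      _ = T ^ 2 * (refl Q u hQu * refl Q u hQu) := by rw [pow_two]; group
      _ = 1 := by rw [hT2, refl_mul_self, mul_one]
  have hmem : ∀ y, y ∈ negS (T * refl Q u hQu) ↔ y ∈ negS T ∧ QuadraticMap.polar Q u y = 0 := by
    intro y
    have happ : (T * refl Q u hQu) y = T y + ((Q u)⁻¹ * QuadraticMap.polar Q u y) • u := by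
      show T (refl Q u hQu y) = _
      rw [refl_apply, map_sub, map_smul, hu]
      module
    rw [mem_negS, mem_negS, happ]
    constructor
    · intro h
      have h3 : QuadraticMap.polar Q u (T y) = -QuadraticMap.polar Q u y := by
        have h4 : QuadraticMap.polar Q (T u) (T (T y)) = QuadraticMap.polar Q u (T y) := polar_map hT _ _
        rw [sq_apply hT2, hu, polar_neg_left] at h4
        exact h4.symm
      have h5 := congrArg (QuadraticMap.polar Q u) h
      rw [polar_add_right, polar_smul_right, polar_self', h3, polar_neg_right, smul_eq_mul] at h5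
      have h6 : 2 * QuadraticMap.polar Q u y = 0 := by
        field_simp at h5
        linear_combination h5
      have h7 : QuadraticMap.polar Q u y = 0 := (mul_eq_zero.1 h6).resolve_left h2
      rw [h7, mul_zero, zero_smul, add_zero] at h
      exact ⟨h, h7⟩
    · rintro ⟨h, h'⟩
      rw [h', mul_zero, zero_smul, add_zero, h]
  refine ⟨hO, hsq, hmem, ?_⟩
  have hu0 : u ≠ 0 := fun h => hQu (by rw [h, map_zero])
  have huu : QuadraticMap.polar Q u u ≠ 0 := by
    rw [polar_self']; exact mul_ne_zero h2 hQu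
  have hinf : negS (T * refl Q u hQu) ⊓ (F ∙ u) = ⊥ := by
    rw [eq_bot_iff]
    rintro _ ⟨h1, h3⟩
    obtain ⟨c, rfl⟩ := Submodule.mem_span_singleton.1 h3
    have h4 := ((hmem _).1 h1).2
    rw [polar_smul_right, smul_eq_mul] at h4
    rw [(mul_eq_zero.1 h4).resolve_right huu, zero_smul]
    exact Submodule.zero_mem _
  have hsup : negS (T * refl Q u hQu) ⊔ (F ∙ u) = negS T := by
    apply le_antisymm
    · refine sup_le (fun y hy => ((hmem y).1 hy).1) ?_
      rw [Submodule.span_singleton_le_iff_mem]
      exact mem_negS.2 hu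
    · intro y hy
      have e : y = (y - (QuadraticMap.polar Q u y * (QuadraticMap.polar Q u u)⁻¹) • u) +
          (QuadraticMap.polar Q u y * (QuadraticMap.polar Q u u)⁻¹) • u := by abel
      rw [e]
      refine Submodule.add_mem_sup ((hmem _).2 ⟨?_, ?_⟩)
        (Submodule.smul_mem _ _ (Submodule.mem_span_singleton_self u))
      · exact (negS T).sub_mem hy ((negS T).smul_mem _ (mem_negS.2 hu))
      · rw [polar_sub_right, polar_smul_right, smul_eq_mul, mul_assoc, inv_mul_cancel₀ huu, mul_one, sub_self]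
  rw [← hsup, H951.finrank_sup_of_disj hinf, finrank_span_singleton hu0]

theorem eq_one_of_negS {T : V ≃ₗ[F] V} (h2 : (2 : F) ≠ 0) [FiniteDimensional F V] (hT2 : T ^ 2 = 1)
    (h : finrank F (negS T) = 0) : T = 1 := by
  ext v
  have h1 : T v - v ∈ negS T := by
    rw [← comS_eq_negS h2 hT2]; exact sub_mem_comS T v
  rw [Submodule.finrank_eq_zero.1 h, Submodule.mem_bot, sub_eq_zero] at h1
  exact h1

end Neg

section Sg

/-- the quotient of two nonsquares is a square -/
theorem isSquare_div_of_not {F : Type*} [Field F] [Fintype F] {a b : F} (ha : ¬ IsSquare a) (hb : ¬ IsSquare b)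
    (ha0 : a ≠ 0) : IsSquare (b / a) := by
  classical
  have h2 : ringChar F ≠ 2 := by
    intro h
    exact ha (FiniteField.isSquare_of_char_two h a)
  have hb0 : b ≠ 0 := fun h => hb (by rw [h]; exact IsSquare.zero)
  have h1 : quadraticChar F (b * a) = 1 := by
    rw [map_mul, quadraticChar_neg_one_iff_not_isSquare.2 hb,
      quadraticChar_neg_one_iff_not_isSquare.2 ha]
    simp
  obtain ⟨c, hc⟩ := (quadraticChar_one_iff_isSquare (mul_ne_zero hb0 ha0)).1 h1
  refine ⟨c / a, ?_⟩
  rw [div_mul_div_comm, ← hc]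
  field_simp

variable {ι : Type} [Fintype ι] [DecidableEq ι] {F : Type*} [Field F] [Finite F] {Q : QuadraticForm F (ι → F)}

/-- **trivial determinant and spinor sign** -/
theorem exists_half_of_sg (h2 : (2 : F) ≠ 0) (hsq : IsSquare (-1 : F)) (hQ : Nondeg Q) (n : ℕ) :
    ∀ (T : (ι → F) ≃ₗ[F] (ι → F)) (hT : T ∈ O Q), T ^ 2 = 1 → LinearEquiv.det T = 1 → sg Q ⟨T, hT⟩ = 1 →
      finrank F (negS T) = n → ∃ W ≤ negS T, TS Q W ∧ 2 * finrank F W = n := by
  classical
  have hr : ((2 : ℕ) : F) ≠ 0 := by exact_mod_cast h2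
  induction n using Nat.strong_induction_on with
  | _ n ih =>
    intro T hT hT2 hdet hsg hn
    have hnd : Nondeg (res Q (negS T)) := by
      rw [← comS_eq_negS h2 hT2]; exact nondeg_comS hQ hT hr hT2
    rcases Nat.eq_zero_or_pos n with hn0 | hn0
    · exact ⟨⊥, bot_le, ts_bot, by rw [finrank_bot, hn0]⟩
    by_cases hs : ∃ w : negS T, w ≠ 0 ∧ res Q (negS T) w = 0
    · -- a hyperbolic pair
      obtain ⟨w, hw0, hw⟩ := hs
      obtain ⟨w', hww⟩ := exists_hyp hnd hw hw0
      have hl : Q (w : ι → F) = 0 := hww.left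
      have hr' : Q (w' : ι → F) = 0 := hww.right
      have hp : QuadraticMap.polar Q (w : ι → F) (w' : ι → F) = 1 := hww.pair
      have hp' : QuadraticMap.polar Q (w' : ι → F) (w : ι → F) = 1 := by rw [polar_comm]; exact hp
      have hwT := mem_negS.1 w.2
      have hwT' := mem_negS.1 w'.2
      have hQu : Q ((w : ι → F) + w') = 1 := by rw [Q_add, hl, hr', hp, zero_add, zero_add]
      have hQv : Q ((w : ι → F) - w') = -1 := by
        rw [sub_eq_add_neg, Q_add, hl, QuadraticMap.map_neg, hr', polar_neg_right, hp, zero_add, zero_add]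
      have hQu0 : Q ((w : ι → F) + w') ≠ 0 := by rw [hQu]; exact one_ne_zero
      have hQv0 : Q ((w : ι → F) - w') ≠ 0 := by rw [hQv]; exact neg_ne_zero.2 one_ne_zero
      have hwl : QuadraticMap.polar Q (w : ι → F) w = 0 := by rw [polar_self', hl, mul_zero]
      have hwr : QuadraticMap.polar Q (w' : ι → F) w' = 0 := by rw [polar_self', hr', mul_zero]
      have huv : QuadraticMap.polar Q ((w : ι → F) + w') ((w : ι → F) - w') = 0 := by
        rw [polar_add_left, polar_sub_right, polar_sub_right, hwl, hwr, hp, hp']; ring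
      obtain ⟨hO1, hs1, hm1, hd1⟩ := negS_mul_refl h2 hT hT2 (u := (w : ι → F) + w')
        (by rw [map_add, hwT, hwT']; abel) hQu0
      have hv1 : (T * refl Q ((w : ι → F) + w') hQu0) ((w : ι → F) - w') = -((w : ι → F) - w') := by
        rw [← mem_negS, hm1]
        refine ⟨?_, huv⟩
        rw [mem_negS, map_sub, hwT, hwT']; abel
      obtain ⟨hO2, hs2, hm2, hd2⟩ := negS_mul_refl h2 hO1 hs1 hv1 hQv0
      have hdet2 : LinearEquiv.det (T * refl Q ((w : ι → F) + w') hQu0 * refl Q ((w : ι → F) - w') hQv0) = 1 := by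
        rw [map_mul, map_mul, hdet, det_refl, det_refl]; simp
      have hsg2 : sg Q ⟨T * refl Q ((w : ι → F) + w') hQu0 * refl Q ((w : ι → F) - w') hQv0, hO2⟩ = 1 := by
        have e : (⟨T * refl Q ((w : ι → F) + w') hQu0 * refl Q ((w : ι → F) - w') hQv0, hO2⟩ : O Q) =
            ⟨T, hT⟩ * ⟨refl Q ((w : ι → F) + w') hQu0, refl_mem_O hQu0⟩ *
              ⟨refl Q ((w : ι → F) - w') hQv0, refl_mem_O hQv0⟩ := rfl
        rw [e, map_mul, map_mul, hsg, sg_refl h2, sg_refl h2, if_pos (by rw [hQu]; exact IsSquare.one),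
          if_pos (by rw [hQv]; exact hsq)]
        simp
      obtain ⟨W, hW, hWs, hWd⟩ := ih (n - 2) (by omega) _ hO2 hs2 hdet2 hsg2 (by omega)
      -- `W` is orthogonal to `w`
      have horth : ∀ y ∈ W, QuadraticMap.polar Q (w : ι → F) y = 0 ∧ QuadraticMap.polar Q (w' : ι → F) y = 0 ∧
          y ∈ negS T := by
        intro y hy
        obtain ⟨h3, h4⟩ := (hm2 y).1 (hW hy)
        obtain ⟨h5, h6⟩ := (hm1 y).1 h3
        rw [polar_sub_left] at h4
        rw [polar_add_left] at h6
        have h7 : 2 * QuadraticMap.polar Q (w : ι → F) y = 0 := by linear_combination h4 + h6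
        have h8 : QuadraticMap.polar Q (w : ι → F) y = 0 := (mul_eq_zero.1 h7).resolve_left h2
        rw [h8, zero_add] at h6
        exact ⟨h8, h6, h5⟩
      have hwne : (w : ι → F) ≠ 0 := fun h => hw0 (Subtype.ext h)
      refine ⟨W ⊔ (F ∙ (w : ι → F)), ?_, ?_, ?_⟩
      · refine sup_le (fun y hy => (horth y hy).2.2) ?_
        rw [Submodule.span_singleton_le_iff_mem]; exact w.2
      · refine TS.sup (Q := Q) hWs ?_ ?_
        · intro y hy
          obtain ⟨c, rfl⟩ := Submodule.mem_span_singleton.1 hy
          rw [QuadraticMap.map_smul, hl, smul_zero]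
        · intro a ha y hy
          obtain ⟨c, rfl⟩ := Submodule.mem_span_singleton.1 hy
          rw [polar_smul_right, polar_comm, (horth a ha).1, smul_zero]
      · have hinf : W ⊓ (F ∙ (w : ι → F)) = ⊥ := by
          rw [eq_bot_iff]
          rintro _ ⟨h3, h4⟩
          obtain ⟨c, rfl⟩ := Submodule.mem_span_singleton.1 h4
          have h5 := (horth _ h3).2.1
          rw [polar_smul_right, hp', smul_eq_mul, mul_one] at h5
          rw [h5, zero_smul]
          exact Submodule.zero_mem _
        rw [H951.finrank_sup_of_disj hinf, finrank_span_singleton hwne]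
        omega
    · push Not at hs
      have hn3 : n < 3 := by
        by_contra hcon
        obtain ⟨w, hw0, hw⟩ := exists_singular (res Q (negS T)) (by omega)
        exact hs w hw0 hw
      have hpos : 0 < finrank F (negS T) := by omega
      have : Nontrivial (negS T) := Module.nontrivial_of_finrank_pos (R := F) hpos
      obtain ⟨u, hu0⟩ := exists_ne (0 : negS T)
      have hQu : Q (u : ι → F) ≠ 0 := fun h => hs u hu0 h
      obtain ⟨hO1, hs1, hm1, hd1⟩ := negS_mul_refl h2 hT hT2 (mem_negS.1 u.2) hQu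
      rcases Nat.lt_or_ge n 2 with hn1 | hn2
      · -- `T` is a reflection
        exfalso
        have h3 := eq_one_of_negS h2 hs1 (by omega)
        have h4 : LinearEquiv.det (T * refl Q (u : ι → F) hQu) = 1 := by rw [h3, map_one]
        rw [map_mul, hdet, det_refl, one_mul] at h4
        have h5 := congrArg Units.val h4
        apply h2
        rw [Units.val_neg, Units.val_one] at h5
        linear_combination -h5
      · exfalso
        have hpos2 : 0 < finrank F (negS (T * refl Q (u : ι → F) hQu)) := by omega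
        have : Nontrivial (negS (T * refl Q (u : ι → F) hQu)) := Module.nontrivial_of_finrank_pos (R := F) hpos2
        obtain ⟨v, hv0⟩ := exists_ne (0 : negS (T * refl Q (u : ι → F) hQu))
        obtain ⟨hvT, huv⟩ := (hm1 v).1 v.2
        have hQv : Q (v : ι → F) ≠ 0 := fun h => hv0 (by
          have := hs ⟨v, hvT⟩
          by_contra hne
          exact this (fun h6 => hne (Subtype.ext (congrArg (fun z : negS T => (z : ι → F)) h6))) h)
        obtain ⟨hO2, hs2, hm2, hd2⟩ := negS_mul_refl h2 hO1 hs1 (mem_negS.1 v.2) hQv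
        have h3 := eq_one_of_negS h2 hs2 (by omega)
        have h4 : sg Q ⟨T * refl Q (u : ι → F) hQu * refl Q (v : ι → F) hQv, hO2⟩ = 1 := by
          have : (⟨T * refl Q (u : ι → F) hQu * refl Q (v : ι → F) hQv, hO2⟩ : O Q) = 1 := Subtype.ext h3
          rw [this, map_one]
        have e : (⟨T * refl Q (u : ι → F) hQu * refl Q (v : ι → F) hQv, hO2⟩ : O Q) =
            ⟨T, hT⟩ * ⟨refl Q (u : ι → F) hQu, refl_mem_O hQu⟩ * ⟨refl Q (v : ι → F) hQv, refl_mem_O hQv⟩ := rfl
        rw [e, map_mul, map_mul, hsg, sg_refl h2, sg_refl h2, one_mul] at h4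
        -- `Q v / Q u` is a square
        have h5 : IsSquare (-(Q (v : ι → F) / Q (u : ι → F))) := by
          have h6 : IsSquare (Q (v : ι → F) / Q (u : ι → F)) := by
            by_cases hus : IsSquare (Q (u : ι → F))
            · by_cases hvs : IsSquare (Q (v : ι → F))
              · exact hvs.div hus
              · rw [if_pos hus, if_neg hvs] at h4
                exact absurd h4 (by decide)
            · by_cases hvs : IsSquare (Q (v : ι → F))
              · rw [if_neg hus, if_pos hvs] at h4
                exact absurd h4 (by decide)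
              · have := Fintype.ofFinite F
                exact isSquare_div_of_not (F := F) hus hvs hQu
          rw [neg_eq_neg_one_mul]
          exact hsq.mul h6
        obtain ⟨c, hc⟩ := h5
        have h7 : Q (c • (u : ι → F) + (v : ι → F)) = 0 := by
          rw [Q_add, QuadraticMap.map_smul, polar_smul_left, huv, smul_eq_mul, smul_zero, add_zero, ← hc]
          field_simp
          ring
        have h8 := hs ⟨c • (u : ι → F) + (v : ι → F), (negS T).add_mem ((negS T).smul_mem _ u.2) hvT⟩
        apply h8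
        · intro h9
          have h10 : c • (u : ι → F) + (v : ι → F) = 0 := congrArg Subtype.val h9
          have h11 := congrArg (QuadraticMap.polar Q (v : ι → F)) h10
          rw [polar_zero_right, polar_add_right, polar_smul_right, polar_comm, huv, smul_zero, zero_add,
            polar_self'] at h11
          exact mul_ne_zero h2 hQv h11
        · exact h7

end Sg

end Cfsg.Agent.H954.TSing
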