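import Cfsg.Agent.H954.CWarn
import Cfsg.Agent.H951.Lin
import Cfsg.Agent.H955.QMinus

/-!
# Invariant totally singular subspaces of an isometry of prime order (helper954)

`Q` a quadratic form (any characteristic) on a finite-dimensional space over a finite field, `x` an isometry
with `x ^ r = 1`, `r` an odd prime, not the characteristic.

* `exists_ts` : an invariant subspace of `[V, x]` of dimension larger than `r - 1` contains a non-zero invariant
  totally singular subspace (Chevalley-Warning);
* `exists_split` : an invariant nondegenerate `U` is an orthogonal sum `(W ⊕ W*) ⊥ M` with `W` totally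
  singular, `M` without invariant totally singular subspaces.
-/

set_option autoImplicit false

namespace Cfsg.Agent.H954.TSing

open Module QuadraticMap Cfsg.Agent.H951 Cfsg.Agent.H955 Cfsg.Agent.LieClassical.OrthCore

variable {F V : Type*} [Field F] [AddCommGroup V] [Module F V] {Q : QuadraticForm F V}
  {x : Module.End F V} {r : ℕ}

/-- totally singular subspaces -/
def TS (Q : QuadraticForm F V) (W : Submodule F V) : Prop := ∀ w ∈ W, Q w = 0

theorem TS.mono {W W' : Submodule F V} (h : TS Q W) (hle : W' ≤ W) : TS Q W' := fun w hw => h w (hle hw)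

theorem ts_bot : TS Q (⊥ : Submodule F V) := fun w hw => by
  rw [(Submodule.mem_bot F).1 hw, map_zero]

theorem TS.polar {W : Submodule F V} (h : TS Q W) {u w : V} (hu : u ∈ W) (hw : w ∈ W) : polar Q u w = 0 :=
  polar_eq_zero_of_tsing h hu hw

theorem TS.sup {W W' : Submodule F V} (h : TS Q W) (h' : TS Q W')
    (ho : ∀ u ∈ W, ∀ w ∈ W', QuadraticMap.polar Q u w = 0) : TS Q (W ⊔ W') := by
  intro v hv
  obtain ⟨u, hu, w, hw, rfl⟩ := Submodule.mem_sup.1 hv
  rw [Q_add, h u hu, h' w hw, ho u hu w hw, add_zero, add_zero]

/-- the span of mutually orthogonal singular vectors is totally singular -/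
theorem ts_span {S : Set V} (h : ∀ s ∈ S, Q s = 0) (h2 : ∀ s ∈ S, ∀ t ∈ S, QuadraticMap.polar Q s t = 0) :
    TS Q (Submodule.span F S) := by
  have h3 : ∀ s ∈ S, ∀ w ∈ Submodule.span F S, QuadraticMap.polar Q s w = 0 := by
    intro s hs w hw
    induction hw using Submodule.span_induction with
    | mem w hw => exact h2 s hs w hw
    | zero => exact polar_zero_right Q s
    | add a b _ _ ha hb => rw [polar_add_right, ha, hb, add_zero]
    | smul c a _ ha => rw [polar_smul_right, ha, smul_zero]
  have h4 : ∀ v ∈ Submodule.span F S, ∀ w ∈ Submodule.span F S, QuadraticMap.polar Q v w = 0 := by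
    intro v hv w hw
    induction hv using Submodule.span_induction with
    | mem v hv => exact h3 v hv w hw
    | zero => exact polar_zero_left Q w
    | add a b _ _ ha hb => rw [polar_add_left, ha, hb, add_zero]
    | smul c a _ ha => rw [polar_smul_left, ha, smul_zero]
  intro v hv
  induction hv using Submodule.span_induction with
  | mem v hv => exact h v hv
  | zero => exact map_zero Q
  | add a b ha hb ha' hb' => rw [Q_add, ha', hb', h4 a ha b hb, add_zero, add_zero]
  | smul c a _ ha => rw [QuadraticMap.map_smul, ha, smul_zero]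

theorem polar_isom (hQ : ∀ v, Q (x v) = Q v) (u v : V) :
    QuadraticMap.polar Q (x u) (x v) = QuadraticMap.polar Q u v := by
  simp only [QuadraticMap.polar, ← map_add, hQ]

theorem isom_pow (hQ : ∀ v, Q (x v) = Q v) (n : ℕ) (v : V) : Q ((x ^ n) v) = Q v := by
  induction n with
  | zero => rfl
  | succ n ih => rw [pow_succ', Module.End.mul_apply, hQ, ih]

/-- **Chevalley-Warning**: invariant totally singular subspaces exist in dimension at least `r`. -/
theorem exists_ts [Finite F] [FiniteDimensional F V] (hQ : ∀ v, Q (x v) = Q v) (hrp : r.Prime) (hr2 : 2 < r)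
    (hr : (r : F) ≠ 0) (hx : x ^ r = 1) {U : Submodule F V} (hU : Inv x U) (hU0 : U ⊓ fx x = ⊥)
    (hd : r - 1 < finrank F U) : ∃ W ≤ U, W ≠ ⊥ ∧ Inv x W ∧ TS Q W := by
  have hodd : Odd r := hrp.odd_of_ne_two (by omega)
  obtain ⟨s, hs⟩ := hodd
  let f : Fin s → LinearMap.BilinForm F U := fun k =>
    (polarBilin Q).compl₁₂ U.subtype ((x ^ (k.1 + 1)) ∘ₗ U.subtype)
  obtain ⟨u, hu0, hu⟩ := Cfsg.Agent.H954.CWarn.exists_common_zero f (by rw [Fintype.card_fin]; omega)
  have hu1 : ∀ k, 1 ≤ k → k ≤ s → QuadraticMap.polar Q (u : V) ((x ^ k) (u : V)) = 0 := by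
    intro k hk hk'
    have h := hu ⟨k - 1, by omega⟩
    have h2 : k - 1 + 1 = k := by omega
    have h3 : QuadraticMap.polar Q (u : V) ((x ^ (k - 1 + 1)) (u : V)) = 0 := h
    rwa [h2] at h3
  have hshift : ∀ a k, QuadraticMap.polar Q ((x ^ a) (u : V)) ((x ^ (a + k)) (u : V)) =
      QuadraticMap.polar Q (u : V) ((x ^ k) (u : V)) := by
    intro a k
    rw [pow_add, Module.End.mul_apply]
    exact polar_isom (isom_pow hQ a) _ _
  have hu2 : ∀ k, 1 ≤ k → k < r → QuadraticMap.polar Q (u : V) ((x ^ k) (u : V)) = 0 := by
    intro k hk hk'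
    by_cases hks : k ≤ s
    · exact hu1 k hk hks
    · have h1 := hshift k (r - k)
      rw [show k + (r - k) = r by omega, hx, hu1 (r - k) (by omega) (by omega)] at h1
      rw [polar_comm]
      exact h1
  have hab : ∀ a b, a < b → b < r → QuadraticMap.polar Q ((x ^ a) (u : V)) ((x ^ b) (u : V)) = 0 := by
    intro a b hab hb
    have h1 := hshift a (b - a)
    rw [show a + (b - a) = b by omega, hu2 (b - a) (by omega) (by omega)] at h1
    exact h1
  -- `Q u = 0`
  have hsum : ∀ n ≤ r, Q (∑ j ∈ Finset.range n, (x ^ j) (u : V)) = (n : F) * Q (u : V) := by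
    intro n
    induction n with
    | zero => intro _; simp
    | succ n ih =>
      intro hn
      rw [Finset.sum_range_succ, Q_add, ih (by omega), isom_pow hQ]
      have : QuadraticMap.polar Q (∑ j ∈ Finset.range n, (x ^ j) (u : V)) ((x ^ n) (u : V)) = 0 := by
        rw [polar_comm]
        have h1 : ∀ t : Finset ℕ, (∀ j ∈ t, j < n) →
            QuadraticMap.polar Q ((x ^ n) (u : V)) (∑ j ∈ t, (x ^ j) (u : V)) = 0 := by
          intro t
          induction t using Finset.induction_on with
          | empty => intro _; rw [Finset.sum_empty, polar_zero_right]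
          | insert a t ha iht =>
            intro ht
            rw [Finset.sum_insert ha, polar_add_right, iht (fun j hj => ht j (Finset.mem_insert_of_mem hj)),
              add_zero, polar_comm]
            exact hab a n (ht a (Finset.mem_insert_self _ _)) (by omega)
        exact h1 _ fun j hj => Finset.mem_range.1 hj
      rw [this]
      push_cast
      ring
  have havg : ∑ j ∈ Finset.range r, (x ^ j) (u : V) = 0 := by
    have h1 : ∑ j ∈ Finset.range r, (x ^ j) (u : V) = avg x r (u : V) := by
      rw [avg, LinearMap.sum_apply]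
    have h2 : avg x r (u : V) ∈ fx x := by
      rw [mem_fx, ← sub_eq_zero]
      have := congrArg (fun g : Module.End F V => g (u : V)) (sub_one_mul_avg hx)
      simpa using this
    have h3 : avg x r (u : V) ∈ U := by
      rw [← h1]
      exact U.sum_mem fun j _ => hU.pow j _ u.2
    rw [h1, ← Submodule.mem_bot F, ← hU0]
    exact ⟨h3, h2⟩
  have hQu : Q (u : V) = 0 := by
    have h1 := hsum r le_rfl
    rw [havg, map_zero] at h1
    exact (mul_eq_zero.1 h1.symm).resolve_left hr
  refine ⟨Submodule.span F (Set.range fun j : Fin r => (x ^ (j : ℕ)) (u : V)), ?_, ?_, ?_, ?_⟩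
  · rw [Submodule.span_le]
    rintro _ ⟨j, rfl⟩
    exact hU.pow _ _ u.2
  · intro h
    apply hu0
    apply Subtype.ext
    have : (u : V) ∈ Submodule.span F (Set.range fun j : Fin r => (x ^ (j : ℕ)) (u : V)) :=
      Submodule.subset_span ⟨⟨0, by omega⟩, by simp⟩
    rw [h] at this
    exact (Submodule.mem_bot F).1 this
  · intro w hw
    induction hw using Submodule.span_induction with
    | mem w hw =>
      obtain ⟨j, rfl⟩ := hw
      apply Submodule.subset_span
      by_cases hj : j.1 + 1 < r
      · exact ⟨⟨j.1 + 1, hj⟩, by simp [pow_succ']⟩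
      · refine ⟨⟨0, by omega⟩, ?_⟩
        have hj' : j.1 + 1 = r := by have := j.2; omega
        show (x ^ 0) (u : V) = x ((x ^ j.1) (u : V))
        rw [← Module.End.mul_apply, ← pow_succ', hj', hx, pow_zero]
    | zero => rw [map_zero]; exact Submodule.zero_mem _
    | add a b _ _ ha hb => rw [map_add]; exact Submodule.add_mem _ ha hb
    | smul c a _ ha => rw [map_smul]; exact Submodule.smul_mem _ _ ha
  · apply ts_span
    · rintro _ ⟨j, rfl⟩
      simp only
      rw [isom_pow hQ, hQu]
    · rintro _ ⟨j, rfl⟩ _ ⟨k, rfl⟩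
      rcases lt_trichotomy j.1 k.1 with h | h | h
      · exact hab _ _ h k.2
      · simp only
        rw [h, polar_self', isom_pow hQ, hQu, mul_zero]
      · simp only
        rw [polar_comm]
        exact hab _ _ h j.2

end Cfsg.Agent.H954.TSing
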