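import Cfsg.Agent.H954.TSing1
import Cfsg.Agent.S0752

/-!
# Splitting off invariant totally singular subspaces (helper954)

* `exists_comp` : complement of an invariant totally singular subspace;
* `exists_max` : an invariant nondegenerate `U` is `(W ⊕ W*) ⊥ M` with `W` totally singular and `M` without
  invariant totally singular subspaces;
* `exists_ts_bound` : `dim U ≤ 2 dim W + (r - 1)` for `U ≤ [V, x]`;
* `exists_ts_half` : `dim U = 2 dim W` if the order of `q` modulo `r` is odd;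
* `exists_ts_fix` : the case of the fixed space.
-/

set_option autoImplicit false

namespace Cfsg.Agent.H954.TSing

open Module QuadraticMap Cfsg.Agent.H951 Cfsg.Agent.H955 Cfsg.Agent.LieClassical.OrthCore

variable {F V : Type*} [Field F] [AddCommGroup V] [Module F V] {Q : QuadraticForm F V}
  {x : Module.End F V} {r : ℕ}

/-- orthogonality -/
def Orth (Q : QuadraticForm F V) (W M : Submodule F V) : Prop := ∀ u ∈ W, ∀ w ∈ M, QuadraticMap.polar Q u w = 0

theorem Orth.symm {W M : Submodule F V} (h : Orth Q W M) : Orth Q M W := fun u hu w hw => by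
  rw [polar_comm]; exact h w hw u hu

theorem injective_of_pow (hx : x ^ r = 1) (hr : 0 < r) : Function.Injective x := by
  intro u v huv
  have h1 : (x ^ (r - 1)) (x u) = (x ^ (r - 1)) (x v) := by rw [huv]
  have h2 : ∀ w, (x ^ (r - 1)) (x w) = w := fun w => by
    rw [← Module.End.mul_apply, ← pow_succ, show r - 1 + 1 = r by omega, hx]; rfl
  rwa [h2, h2] at h1

theorem inv_surj [FiniteDimensional F V] (hinj : Function.Injective x) {W : Submodule F V} (hW : Inv x W)
    {w : V} (hw : w ∈ W) : ∃ w' ∈ W, x w' = w := by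
  let g : W →ₗ[F] W := x.restrict hW
  have hg : Function.Injective g := fun a b hab => Subtype.ext (hinj (congrArg Subtype.val hab))
  obtain ⟨w', hw'⟩ := LinearMap.surjective_of_injective hg ⟨w, hw⟩
  exact ⟨w', w'.2, congrArg Subtype.val hw'⟩

theorem inv_perp [FiniteDimensional F V] (hQ : ∀ v, Q (x v) = Q v) (hinj : Function.Injective x)
    {W : Submodule F V} (hW : Inv x W) : Inv x (perp Q W) := by
  intro v hv w hw
  obtain ⟨w', hw', rfl⟩ := inv_surj hinj hW hw
  rw [polar_isom hQ]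
  exact hv w' hw'

/-- dimension of the orthogonal space inside a nondegenerate subspace -/
theorem finrank_inf_perp [FiniteDimensional F V] {U W : Submodule F V} (hUn : Nondeg (res Q U)) (hWU : W ≤ U) :
    finrank F ↥(U ⊓ perp Q W) + finrank F W = finrank F U := by
  have h1 := finrank_add_perp hUn (W.comap U.subtype)
  have h2 : finrank F (W.comap U.subtype) = finrank F W :=
    (Submodule.comapSubtypeEquivOfLe hWU).finrank_eq
  have h3 : (perp (res Q U) (W.comap U.subtype)).map U.subtype = U ⊓ perp Q W := by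
    ext v
    constructor
    · rintro ⟨u, hu, rfl⟩
      refine ⟨u.2, fun w hw => ?_⟩
      exact hu ⟨w, hWU hw⟩ hw
    · rintro ⟨hvU, hv⟩
      exact ⟨⟨v, hvU⟩, fun w hw => hv w hw, rfl⟩
  have h4 : finrank F ↥(U ⊓ perp Q W) = finrank F (perp (res Q U) (W.comap U.subtype)) := by
    rw [← h3]
    exact (Submodule.equivMapOfInjective U.subtype U.injective_subtype _).finrank_eq.symm
  omega

theorem perp_inf_perp [FiniteDimensional F V] {U W : Submodule F V} (hUn : Nondeg (res Q U)) (hWU : W ≤ U)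
    {v : V} (hvU : v ∈ U) (hv : ∀ w ∈ U ⊓ perp Q W, QuadraticMap.polar Q w v = 0) : v ∈ W := by
  have h1 : (⟨v, hvU⟩ : U) ∈ perp (res Q U) (perp (res Q U) (W.comap U.subtype)) := by
    intro w hw
    exact hv w ⟨w.2, fun y hy => hw ⟨y, hWU hy⟩ hy⟩
  rw [perp_perp hUn] at h1
  exact h1

/-- complement of an invariant totally singular subspace -/
theorem exists_comp [FiniteDimensional F V] (hQ : ∀ v, Q (x v) = Q v) (hr : (r : F) ≠ 0) (hr0 : 0 < r) (hx : x ^ r = 1)
    {U W : Submodule F V} (hU : Inv x U) (hUn : Nondeg (res Q U)) (hW : Inv x W) (hWU : W ≤ U) (hWs : TS Q W) :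
    ∃ M ≤ U, Inv x M ∧ Nondeg (res Q M) ∧ Orth Q W M ∧ finrank F M + 2 * finrank F W = finrank F U ∧
      W ⊓ M = ⊥ := by
  have hinj := injective_of_pow hx hr0
  have hP : Inv x (U ⊓ perp Q W) := hU.inf (inv_perp hQ hinj hW)
  have hWP : W ≤ U ⊓ perp Q W := fun w hw => ⟨hWU hw, fun u hu => hWs.polar hu hw⟩
  obtain ⟨M, hM, hMP, hd, hs⟩ := exists_rel_compl (semisimple_of_pow hr hx) hW hP hWP
  refine ⟨M, hMP.trans inf_le_left, hM, ?_, ?_, ?_, hd⟩
  · rw [nondeg_res_iff]
    intro v hv hvM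
    have h1 : v ∈ W := by
      refine perp_inf_perp hUn hWU (hMP hv).1 fun w hw => ?_
      rw [← hs] at hw
      obtain ⟨a, ha, b, hb, rfl⟩ := Submodule.mem_sup.1 hw
      rw [polar_add_left, (hMP hv).2 a ha, polar_comm, hvM b hb, add_zero]
    rw [← Submodule.mem_bot F, ← hd]
    exact ⟨h1, hv⟩
  · intro u hu w hw
    exact (hMP hw).2 u hu
  · have h1 := finrank_inf_perp hUn hWU
    have h2 := finrank_sup_of_disj hd
    rw [hs] at h2
    omega

/-- maximal invariant totally singular subspace -/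
theorem exists_max [FiniteDimensional F V] (hQ : ∀ v, Q (x v) = Q v) (hr : (r : F) ≠ 0) (hr0 : 0 < r) (hx : x ^ r = 1)
    {U : Submodule F V} (hU : Inv x U) (hUn : Nondeg (res Q U)) :
    ∃ W ≤ U, Inv x W ∧ TS Q W ∧ ∃ M ≤ U, Inv x M ∧ Nondeg (res Q M) ∧ Orth Q W M ∧
      finrank F M + 2 * finrank F W = finrank F U ∧ ∀ W' ≤ M, Inv x W' → TS Q W' → W' = ⊥ := by
  let S : Set (Submodule F V) := {W | W ≤ U ∧ Inv x W ∧ TS Q W}
  have hS : S.Nonempty := ⟨⊥, bot_le, inv_bot, ts_bot⟩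
  obtain ⟨W, ⟨hWU, hW, hWs⟩, hmax⟩ := (wellFounded_gt (α := Submodule F V)).has_min S hS
  obtain ⟨M, hMU, hM, hMn, ho, hd, hb⟩ := exists_comp hQ hr hr0 hx hU hUn hW hWU hWs
  refine ⟨W, hWU, hW, hWs, M, hMU, hM, hMn, ho, hd, fun W' hW'M hW' hW's => ?_⟩
  by_contra hne
  refine hmax (W ⊔ W') ⟨sup_le hWU (hW'M.trans hMU), hW.sup hW', hWs.sup hW's fun u hu w hw => ho u hu w (hW'M hw)⟩ ?_
  refine lt_of_le_of_ne le_sup_left fun h => hne ?_
  rw [eq_bot_iff, ← hb]
  intro w hw
  refine ⟨?_, hW'M hw⟩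
  rw [h]
  exact Submodule.mem_sup_right hw

/-- **lower bound** in `[V, x]`. -/
theorem exists_ts_bound [Finite F] [FiniteDimensional F V] (hQ : ∀ v, Q (x v) = Q v) (hrp : r.Prime) (hr2 : 2 < r)
    (hr : (r : F) ≠ 0) (hx : x ^ r = 1) {U : Submodule F V} (hU : Inv x U) (hUn : Nondeg (res Q U))
    (hU0 : U ⊓ fx x = ⊥) :
    ∃ W ≤ U, Inv x W ∧ TS Q W ∧ finrank F U ≤ 2 * finrank F W + (r - 1) := by
  obtain ⟨W, hWU, hW, hWs, M, hMU, hM, -, -, hd, hmax⟩ := exists_max hQ hr (by omega) hx hU hUn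
  refine ⟨W, hWU, hW, hWs, ?_⟩
  by_contra hcon
  have hM0 : M ⊓ fx x = ⊥ := by
    rw [eq_bot_iff, ← hU0]
    exact inf_le_inf_right _ hMU
  obtain ⟨W', hW'M, hne, hW', hW's⟩ := exists_ts hQ hrp hr2 hr hx hM hM0 (by omega)
  exact hne (hmax W' hW'M hW' hW's)

/-- **fixed space**: dimension of the anisotropic part. -/
theorem exists_ts_fix [Finite F] [FiniteDimensional F V]
    {U : Submodule F V} (hUn : Nondeg (res Q U)) :
    ∃ W ≤ U, TS Q W ∧ finrank F U ≤ 2 * finrank F W + 2 := by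
  have h1 : ((1 : ℕ) : F) ≠ 0 := by simp
  obtain ⟨W, hWU, -, hWs, M, hMU, -, -, -, hd, hmax⟩ := exists_max (Q := Q) (x := 1) (r := 1)
    (fun v => rfl) h1 one_pos (pow_one _) (U := U) (fun w hw => hw) hUn
  refine ⟨W, hWU, hWs, ?_⟩
  by_contra hcon
  obtain ⟨v, hv0, hv⟩ := exists_singular (res Q M) (by omega)
  have h2 : Submodule.span F {(v : V)} = ⊥ := by
    apply hmax
    · rw [Submodule.span_singleton_le_iff_mem]; exact v.2
    · exact fun w hw => hw
    · intro w hw
      obtain ⟨c, rfl⟩ := Submodule.mem_span_singleton.1 hw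
      have hv' : Q (v : V) = 0 := hv
      rw [QuadraticMap.map_smul, hv', smul_zero]
  rw [Submodule.span_singleton_eq_bot] at h2
  exact hv0 (Subtype.ext h2)

/-- odd-dimensional case -/
theorem exists_ts_fix_odd [Finite F] [FiniteDimensional F V]
    {U : Submodule F V} (hUn : Nondeg (res Q U)) (hodd : Odd (finrank F U)) :
    ∃ W ≤ U, TS Q W ∧ finrank F U = 2 * finrank F W + 1 := by
  obtain ⟨W, hWU, hWs, hd⟩ := exists_ts_fix hUn
  refine ⟨W, hWU, hWs, ?_⟩
  have h2 : 2 * finrank F W ≤ finrank F U := by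
    have h3 := two_mul_finrank_le hUn (U := W.comap U.subtype) (fun u hu => hWs _ hu)
    rwa [(Submodule.comapSubtypeEquivOfLe hWU).finrank_eq] at h3
  obtain ⟨k, hk⟩ := hodd
  omega

end Cfsg.Agent.H954.TSing
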