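import Cfsg.Agent.H954.TSing2

/-!
# The case of odd order of `q` modulo `r` (helper954)

* `even_of_isom` : a nondegenerate quadratic space with an isometry of odd order without fixed vectors has
  even dimension;
* `exists_ts_half` : if `i = ord_r(q)` is odd, an invariant nondegenerate `U ≤ [V, x]` has an invariant
  totally singular subspace of half the dimension.
-/

set_option autoImplicit false

namespace Cfsg.Agent.H954.TSing

open Module QuadraticMap Cfsg.Agent.H951 Cfsg.Agent.H955 Cfsg.Agent.LieClassical.OrthCore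

section Even

variable {F I : Type*} [Field F] [AddCommGroup I] [Module F I] [FiniteDimensional F I]

theorem even_of_two_eq_zero (h2 : (2 : F) = 0) {R : QuadraticForm F I} (hR : Nondeg R) : Even (finrank F I) := by
  have hA : LinearMap.BilinForm.IsAlt (polarBilin R) := by
    intro v
    show polar R v v = 0
    rw [polar_self', h2, zero_mul]
  obtain ⟨m, k, b, -, -, -, hk⟩ := Cfsg.Agent.S0752.result (polarBilin R) hA
  have hk0 : k = 0 := by
    by_contra hne
    exact b.ne_zero (Sum.inr (⟨0, by omega⟩ : Fin k)) (hR _ fun v => hk _ v)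
  subst hk0
  rw [Module.finrank_eq_card_basis b]
  simp

theorem even_of_isom {R : QuadraticForm F I} (hR : Nondeg R) (y : Module.End F I) (hy : ∀ v, R (y v) = R v)
    {r : ℕ} (hyr : y ^ r = 1) (hodd : Odd r) (hfix : ∀ v, y v = v → v = 0) : Even (finrank F I) := by
  by_cases h2 : (2 : F) = 0
  · exact even_of_two_eq_zero h2 hR
  by_contra hne
  rw [Nat.not_even_iff_odd] at hne
  set B : LinearMap.BilinForm F I := polarBilin R with hB
  let b := Module.finBasis F I
  set G := LinearMap.BilinForm.toMatrix b B with hG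
  have hG0 : G.det ≠ 0 :=
    (LinearMap.BilinForm.nondegenerate_iff_det_ne_zero b).1 (nondegenerate_of_nondeg hR)
  have h1 : B.comp y y = B := by
    refine LinearMap.ext fun u => LinearMap.ext fun v => ?_
    show polar R (y u) (y v) = polar R u v
    exact polar_isom hy u v
  have h3 : B.comp (y - 1) y = B.comp ((-1 : F) • (1 : Module.End F I)) (y - 1) := by
    refine LinearMap.ext fun u => LinearMap.ext fun v => ?_
    show polar R (y u - u) (y v) = polar R ((-1 : F) • u) (y v - v)
    rw [polar_sub_left, polar_isom hy, polar_smul_left, polar_sub_right, smul_eq_mul]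
    ring
  have hdet : ∀ g : Module.End F I, (LinearMap.toMatrix b b g).det = LinearMap.det g := fun g =>
    LinearMap.det_toMatrix b g
  have h4 := congrArg (fun C => (LinearMap.BilinForm.toMatrix b C).det) h1
  simp only [LinearMap.BilinForm.toMatrix_comp b b, Matrix.det_mul, Matrix.det_transpose, hdet, ← hG] at h4
  have h5 := congrArg (fun C => (LinearMap.BilinForm.toMatrix b C).det) h3
  simp only [LinearMap.BilinForm.toMatrix_comp b b, Matrix.det_mul, Matrix.det_transpose, hdet, ← hG,
    LinearMap.det_smul, hne.neg_one_pow, map_one, mul_one] at h5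
  have hδ : LinearMap.det y * LinearMap.det y = 1 := by
    have : LinearMap.det y * LinearMap.det y * G.det = 1 * G.det := by linear_combination h4
    exact mul_right_cancel₀ hG0 this
  have hδr : LinearMap.det y = 1 := by
    have h6 : LinearMap.det y ^ r = 1 := by rw [← map_pow, hyr, map_one]
    obtain ⟨k, hk⟩ := hodd
    rw [hk, pow_succ, pow_mul, _root_.sq, hδ, one_pow, one_mul] at h6
    exact h6
  rw [hδr] at h5
  have h7 : LinearMap.det (y - 1) = 0 := by
    have : (2 * G.det) * LinearMap.det (y - 1) = 0 := by linear_combination h5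
    exact (mul_eq_zero.1 this).resolve_left (mul_ne_zero h2 hG0)
  have h8 := LinearMap.det_eq_zero_iff_ker_ne_bot.1 h7
  apply h8
  rw [Submodule.eq_bot_iff]
  intro v hv
  apply hfix
  rw [LinearMap.mem_ker, LinearMap.sub_apply, sub_eq_zero] at hv
  exact hv

end Even

variable {F V : Type*} [Field F] [AddCommGroup V] [Module F V] {Q : QuadraticForm F V}
  {x : Module.End F V} {r : ℕ}

/-- an irreducible subspace of `[V, x]` is totally singular or nondegenerate -/
theorem irr_ts_or_nondeg [FiniteDimensional F V] (hQ : ∀ v, Q (x v) = Q v) (hr0 : 0 < r) (hx : x ^ r = 1)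
    {I : Submodule F V} (hI : Irr x I) (hI0 : I ⊓ fx x = ⊥) : TS Q I ∨ Nondeg (res Q I) := by
  have hinj := injective_of_pow hx hr0
  rcases hI.2.2 (I ⊓ perp Q I) inf_le_left (hI.2.1.inf (inv_perp hQ hinj hI.2.1)) with h | h
  · right
    rw [nondeg_res_iff]
    intro v hv hvI
    rw [← Submodule.mem_bot F, ← h]
    exact ⟨hv, fun w hw => by rw [polar_comm]; exact hvI w hw⟩
  · left
    have hpol : ∀ u ∈ I, ∀ w ∈ I, QuadraticMap.polar Q u w = 0 := by
      intro u hu w hw
      rw [← h] at hw
      exact hw.2 u hu
    -- `x - 1` is surjective on `I`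
    let g : I →ₗ[F] I := (x - 1).restrict (p := I) (q := I) (fun w hw => I.sub_mem (hI.2.1 w hw) hw)
    have hg : Function.Injective g := by
      rw [← LinearMap.ker_eq_bot, Submodule.eq_bot_iff]
      intro w hw
      have h1 : (x - 1) (w : V) = 0 := congrArg Subtype.val (LinearMap.mem_ker.1 hw)
      apply Subtype.ext
      show (w : V) = 0
      rw [← Submodule.mem_bot F, ← hI0]
      rw [LinearMap.sub_apply, sub_eq_zero] at h1
      exact ⟨w.2, mem_fx.2 h1⟩
    intro v hv
    obtain ⟨w, hw⟩ := LinearMap.surjective_of_injective hg ⟨v, hv⟩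
    have hw' : x (w : V) + -(w : V) = v := by
      have := congrArg Subtype.val hw
      rw [← sub_eq_add_neg]
      exact this
    have h5 : QuadraticMap.polar Q (w : V) (w : V) = 0 := hpol _ w.2 _ w.2
    rw [polar_self'] at h5
    rw [← hw', Q_add, hQ, QuadraticMap.map_neg, hpol _ (hI.2.1 _ w.2) _ (I.neg_mem w.2)]
    linear_combination h5

/-- **hyperbolic case**: `ord_r(q)` odd. -/
theorem exists_ts_half [Fintype F] [FiniteDimensional F V] (hQ : ∀ v, Q (x v) = Q v) (hrp : Fact r.Prime)
    (hr2 : 2 < r) (hr : (r : F) ≠ 0) (hx : x ^ r = 1) {U : Submodule F V} (hU : Inv x U)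
    (hUn : Nondeg (res Q U)) (hU0 : U ⊓ fx x = ⊥) (hi : Odd (orderOf (Fintype.card F : ZMod r))) :
    ∃ W ≤ U, Inv x W ∧ TS Q W ∧ finrank F U = 2 * finrank F W := by
  have hrpos : 0 < r := by omega
  obtain ⟨W, hWU, hW, hWs, M, hMU, hM, hMn, -, hd, hmax⟩ := exists_max hQ hr hrpos hx hU hUn
  refine ⟨W, hWU, hW, hWs, ?_⟩
  have hM0 : M = ⊥ := by
    by_contra hne
    obtain ⟨I, hIM, hI⟩ := exists_irr hM hne
    have hI0 : I ⊓ fx x = ⊥ := by
      rw [eq_bot_iff, ← hU0]
      exact inf_le_inf_right _ (hIM.trans hMU)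
    rcases irr_ts_or_nondeg hQ hrpos hx hI hI0 with h | h
    · exact hI.1 (hmax I hIM hI.2.1 h)
    · have h1 := hI.finrank_eq hr hx (le_cm_of_inf_fx hr hx hI.2.1 hI0)
      have hodd : Odd r := hrp.out.odd_of_ne_two (by omega)
      have hpow : ∀ (n : ℕ) (v : I), (((x.restrict hI.2.1) ^ n) v : V) = (x ^ n) (v : V) := by
        intro n
        induction n with
        | zero => intro v; rfl
        | succ n ih =>
          intro v
          rw [pow_succ, pow_succ, Module.End.mul_apply, Module.End.mul_apply, ih]
          rfl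
      have h2 := even_of_isom h (x.restrict hI.2.1) (fun v => hQ v) (r := r) (by
        refine LinearMap.ext fun v => Subtype.ext ?_
        rw [hpow, hx]; rfl) hodd (by
        intro v hv
        apply Subtype.ext
        show (v : V) = 0
        rw [← Submodule.mem_bot F, ← hI0]
        exact ⟨v.2, mem_fx.2 (congrArg Subtype.val hv)⟩)
      rw [h1] at h2
      exact (Nat.not_even_iff_odd.2 hi) h2
  rw [hM0, finrank_bot] at hd
  omega

end Cfsg.Agent.H954.TSing
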