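import Cfsg.Agent.H954.TSing6

/-!
# Preparations for the construction of sharp elements (helper954)

* `exists_pow_root` : for an isometry `T` of order `r` of an `i`-dimensional space without fixed vectors, every
  irreducible factor of the cyclotomic polynomial annihilates some power of `T`;
* `exists_embedding_odd` : in odd characteristic, nondegenerate spaces embed in nondegenerate spaces of larger
  dimension.
-/

set_option autoImplicit false

namespace Cfsg.Agent.H954.TSing

open Module QuadraticMap Polynomial Cfsg.Agent.LieClassical.OrthCore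

section Poly

theorem aeval_intertwine {F V W : Type*} [Field F] [AddCommGroup V] [Module F V] [AddCommGroup W] [Module F W]
    (f : W →ₗ[F] V) (S : Module.End F W) (T : Module.End F V) (h : ∀ w, f (S w) = T (f w)) (p : F[X]) (w : W) :
    f (aeval S p w) = aeval T p (f w) := by
  have hpow : ∀ (n : ℕ) (w : W), f ((S ^ n) w) = (T ^ n) (f w) := by
    intro n
    induction n with
    | zero => intro w; rfl
    | succ n ih => intro w; rw [pow_succ, pow_succ, Module.End.mul_apply, Module.End.mul_apply, ih, h]
  induction p using Polynomial.induction_on' with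
  | add p q hp hq => rw [map_add, map_add, LinearMap.add_apply, LinearMap.add_apply, map_add, hp, hq]
  | monomial n a =>
    rw [aeval_monomial, aeval_monomial, Module.End.mul_apply, Module.End.mul_apply,
      Module.algebraMap_end_apply, Module.algebraMap_end_apply, map_smul, hpow]

variable {F : Type*} [Field F] [Fintype F] {X' : Type*} [AddCommGroup X'] [Module F X'] [FiniteDimensional F X']

theorem exists_pow_root {r : ℕ} [hrp : Fact r.Prime] (hr : (r : F) ≠ 0) {T : Module.End F X'} (hT : T ^ r = 1)
    (hf : ∀ v, T v = v → v = 0) (hd : finrank F X' = orderOf (Fintype.card F : ZMod r)) {P : F[X]}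
    (hP : Irreducible P) (hPd : P ∣ cyclotomic r F) : ∃ k : ℕ, aeval (T ^ k) P = 0 := by
  classical
  have hfx : H951.fx T = ⊥ := by
    rw [Submodule.eq_bot_iff]
    exact fun v hv => hf v (H951.mem_fx.1 hv)
  have hcm : H951.cm T = ⊤ := by
    have := (H951.isCompl_fx_cm hr hT).sup_eq_top
    rwa [hfx, bot_sup_eq] at this
  have hIrr : H951.Irr T ⊤ := by
    refine ⟨?_, H951.inv_top, fun W _ hW => ?_⟩
    · intro h
      have h1 := hd
      rw [← finrank_top (R := F), h, finrank_bot] at h1
      exact (H951.ord_pos (F := F) hr).ne h1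
    · have h1 := H951.ord_dvd_finrank hT hW (by rw [hfx, inf_bot_eq])
      rw [← hd] at h1
      rcases Nat.eq_zero_or_pos (finrank F W) with h | h
      · left; exact Submodule.finrank_eq_zero.1 h
      · right
        apply Submodule.eq_top_of_finrank_eq
        exact le_antisymm (Submodule.finrank_le _) (Nat.le_of_dvd h h1)
  obtain ⟨P₀, hP₀, hP₀d, hP₀T⟩ := hIrr.exists_factor (cyclotomic r F) (cyclotomic_ne_zero r F)
    (fun v _ => H951.cyclotomic_apply_of_mem_cm hT (by rw [hcm]; trivial))
  have hfact : Fact (Irreducible P₀) := ⟨hP₀⟩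
  let K := AdjoinRoot P₀
  set ζ : K := AdjoinRoot.root P₀ with hζ
  have hrK : NeZero (r : K) := ⟨by
    intro h
    apply hr
    have : algebraMap F K (r : F) = 0 := by rw [map_natCast]; exact h
    exact (map_eq_zero _).1 this⟩
  have hroot : (cyclotomic r K).IsRoot ζ := by
    have h1 : aeval ζ (cyclotomic r F) = 0 := by
      obtain ⟨c, hc⟩ := hP₀d
      rw [hc, map_mul]
      have : aeval ζ P₀ = 0 := by
        rw [hζ, AdjoinRoot.aeval_eq, AdjoinRoot.mk_self]
      rw [this, zero_mul]
    rw [IsRoot.def, ← map_cyclotomic r (algebraMap F K), eval_map_algebraMap]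
    exact h1
  have hprim : IsPrimitiveRoot ζ r := isRoot_cyclotomic_iff.1 hroot
  have hsplit : (P.map (algebraMap F K)).Splits := by
    have h1 : (P.map (algebraMap F K)) ∣ cyclotomic r K := by
      rw [← map_cyclotomic r (algebraMap F K)]
      exact Polynomial.map_dvd _ hPd
    have h2 : (cyclotomic r K) ∣ X ^ r - 1 := cyclotomic.dvd_X_pow_sub_one r K
    have h3 := X_pow_sub_one_splits hprim
    exact h3.of_dvd (X_pow_sub_C_ne_zero hrp.out.pos _) (by
      rw [map_one]; exact h1.trans h2)
  have hdeg : (P.map (algebraMap F K)).degree ≠ 0 := by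
    rw [degree_map]
    exact (degree_pos_of_irreducible hP).ne'
  obtain ⟨μ, hμ⟩ := hsplit.exists_eval_eq_zero hdeg
  have hμr : μ ^ r = 1 := by
    have h1 : (P.map (algebraMap F K)) ∣ X ^ r - 1 := by
      refine dvd_trans ?_ (cyclotomic.dvd_X_pow_sub_one r K)
      rw [← map_cyclotomic r (algebraMap F K)]
      exact Polynomial.map_dvd _ hPd
    obtain ⟨c, hc⟩ := h1
    have := congrArg (eval μ) hc
    rw [eval_mul, hμ, zero_mul, eval_sub, eval_pow, eval_X, eval_one, sub_eq_zero] at this
    exact this
  have : NeZero r := ⟨hrp.out.ne_zero⟩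
  obtain ⟨k, -, hk⟩ := hprim.eq_pow_of_pow_eq_one hμr
  refine ⟨k, ?_⟩
  have h4 : aeval (ζ ^ k) P = 0 := by
    rw [hk, ← hμ, eval_map_algebraMap]
  have h5 : P₀ ∣ P.comp (X ^ k) := by
    rw [← AdjoinRoot.mk_eq_zero, ← AdjoinRoot.aeval_eq, aeval_comp, map_pow, aeval_X]
    exact h4
  obtain ⟨c, hc⟩ := h5
  have h6 : aeval T (P.comp (X ^ k)) = 0 := by
    have h7 : aeval T P₀ = 0 := LinearMap.ext fun v => hP₀T v trivial
    rw [hc, map_mul, h7, zero_mul]
  rw [aeval_comp, map_pow, aeval_X] at h6
  exact h6

/-- number of irreducible factors of the cyclotomic polynomial -/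
theorem exists_factors {r : ℕ} [hrp : Fact r.Prime] (hr : (r : F) ≠ 0) :
    ∃ S : Finset F[X], S.card = (r - 1) / orderOf (Fintype.card F : ZMod r) ∧
      (∀ P ∈ S, Irreducible P ∧ P ∣ cyclotomic r F) ∧ ∀ P ∈ S, ∀ P' ∈ S, P ≠ P' → IsCoprime P P' := by
  classical
  obtain ⟨p, hp⟩ := CharP.exists F
  obtain ⟨n, hpp, hn⟩ := FiniteField.card F p
  have hfact : Fact p.Prime := ⟨hpp⟩
  have hcop : p.Coprime r := by
    rw [Nat.coprime_primes hpp Fact.out]
    rintro rfl
    exact hr (CharP.cast_eq_zero F p)
  refine ⟨(UniqueFactorizationMonoid.normalizedFactors (cyclotomic r F)).toFinset, ?_, ?_, ?_⟩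
  · rw [Polynomial.normalizedFactors_cyclotomic_card hn hcop, Nat.totient_prime hrp.out, ← orderOf_units,
      ZMod.coe_unitOfCoprime, hn]
  · intro P hP
    rw [Multiset.mem_toFinset] at hP
    exact ⟨UniqueFactorizationMonoid.irreducible_of_normalized_factor P hP,
      UniqueFactorizationMonoid.dvd_of_mem_normalizedFactors hP⟩
  · intro P hP P' hP' hne
    rw [Multiset.mem_toFinset] at hP hP'
    have hi := UniqueFactorizationMonoid.irreducible_of_normalized_factor P hP
    have hi' := UniqueFactorizationMonoid.irreducible_of_normalized_factor P' hP'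
    rw [hi.coprime_iff_not_dvd]
    intro hdvd
    apply hne
    have hass : Associated P P' := hi.associated_of_dvd hi' hdvd
    have h1 := UniqueFactorizationMonoid.normalize_normalized_factor P hP
    have h2 := UniqueFactorizationMonoid.normalize_normalized_factor P' hP'
    rw [← h1, ← h2]
    exact normalize_eq_normalize_iff_associated.2 hass

end Poly

section Embed

universe u v w

theorem exists_val {F : Type u} {V : Type v} [Field F] [Finite F] [AddCommGroup V] [Module F V]
    [FiniteDimensional F V] {Q : QuadraticForm F V} (hQ : Nondeg Q) (hd : 2 ≤ finrank F V) (a : F) :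
    ∃ v, Q v = a := by
  let R : QuadraticForm F F := (-a) • QuadraticMap.sq
  have hR : ∀ c, R c = -a * (c * c) := fun c => rfl
  obtain ⟨⟨v, c⟩, hv0, hv⟩ := H955.exists_singular (H955.osum Q R) (by
    rw [Module.finrank_prod, Module.finrank_self]; omega)
  rw [H955.osum_apply, hR] at hv
  simp only at hv
  by_cases hc : c = 0
  · subst hc
    have hQv : Q v = 0 := by
      rw [mul_zero, mul_zero, add_zero] at hv; exact hv
    have hv0' : v ≠ 0 := fun h => hv0 (by rw [h]; rfl)
    obtain ⟨u, hu⟩ := hQ.exists_polar_eq hv0' 1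
    refine ⟨u + (a - Q u) • v, ?_⟩
    rw [Q_add, QuadraticMap.map_smul, hQv, polar_smul_right, polar_comm, hu]
    simp
  · refine ⟨c⁻¹ • v, ?_⟩
    rw [QuadraticMap.map_smul]
    have : Q v = a * (c * c) := by linear_combination hv
    rw [this, smul_eq_mul]
    field_simp

theorem nondeg_span {F : Type u} {V : Type v} [Field F] [AddCommGroup V] [Module F V]
    {Q : QuadraticForm F V} (h2 : (2 : F) ≠ 0) {v : V} (hv : Q v ≠ 0) :
    Nondeg (H955.res Q (F ∙ v)) := by
  rw [H955.nondeg_res_iff]
  intro x hx hxy
  obtain ⟨c, rfl⟩ := Submodule.mem_span_singleton.1 hx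
  have h := hxy v (Submodule.mem_span_singleton_self v)
  rw [polar_smul_left, polar_self', smul_eq_mul] at h
  have hc : c = 0 := (mul_eq_zero.1 h).resolve_right (mul_ne_zero h2 hv)
  rw [hc, zero_smul]

theorem exists_embedding_odd {F : Type u} [Field F] [Finite F] (h2 : (2 : F) ≠ 0) (n : ℕ) :
    ∀ {V : Type v} [AddCommGroup V] [Module F V] [FiniteDimensional F V] {X : Type w} [AddCommGroup X] [Module F X]
      [FiniteDimensional F X] {Q : QuadraticForm F V} {R : QuadraticForm F X}, Nondeg Q → Nondeg R →
      finrank F X = n → finrank F X < finrank F V →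
      ∃ f : X →ₗ[F] V, Function.Injective f ∧ ∀ x, Q (f x) = R x := by
  induction n with
  | zero =>
    intro V _ _ _ X _ _ _ Q R hQ hR hX hlt
    have : Subsingleton X := Module.finrank_zero_iff.1 hX
    exact ⟨0, fun x y _ => Subsingleton.elim x y, fun x => by
      rw [Subsingleton.elim x 0, map_zero, map_zero, map_zero]⟩
  | succ n ih =>
    intro V _ _ _ X _ _ _ Q R hQ hR hX hlt
    -- a nonsingular vector of `X`
    obtain ⟨x, hx⟩ : ∃ x, R x ≠ 0 := by
      by_contra hcon
      push Not at hcon
      have : Nontrivial X := Module.nontrivial_of_finrank_pos (R := F) (by omega)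
      obtain ⟨y, hy⟩ := exists_ne (0 : X)
      apply hy
      apply hR
      intro z
      rw [polar, hcon, hcon, hcon]; ring
    obtain ⟨v, hv⟩ := exists_val hQ (by omega) (R x)
    have hv' : Q v ≠ 0 := by rw [hv]; exact hx
    have hx0 : x ≠ 0 := fun h => hx (by rw [h, map_zero])
    have hv0 : v ≠ 0 := fun h => hv' (by rw [h, map_zero])
    have hnX := nondeg_span h2 hx
    have hnV := nondeg_span h2 hv'
    have hX' := H955.finrank_add_perp hR (F ∙ x)
    have hV' := H955.finrank_add_perp hQ (F ∙ v)
    rw [finrank_span_singleton hx0] at hX'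
    rw [finrank_span_singleton hv0] at hV'
    obtain ⟨f, hf, hfQ⟩ := ih (H955.nondeg_perp hQ hnV) (H955.nondeg_perp hR hnX) (by omega) (by omega)
    let g : ((F ∙ x : Submodule F X) × H955.perp R (F ∙ x)) →ₗ[F] V :=
      LinearMap.coprod ((LinearMap.toSpanSingleton F V v) ∘ₗ
        (LinearEquiv.coord F X x hx0).toLinearMap) ((H955.perp Q (F ∙ v)).subtype ∘ₗ f)
    have hg : ∀ (a : (F ∙ x : Submodule F X)) (b : H955.perp R (F ∙ x)),
        Q (g (a, b)) = R (a : X) + R (b : X) := by
      intro a b
      have h1 : g (a, b) = (LinearEquiv.coord F X x hx0 a) • v + (f b : V) := rfl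
      have h3 : (LinearEquiv.coord F X x hx0 a) • v ∈ (F ∙ v : Submodule F V) :=
        Submodule.smul_mem _ _ (Submodule.mem_span_singleton_self v)
      rw [h1, H955.Q_add_of_perp h3 (f b).2, QuadraticMap.map_smul, hv]
      have h4 : R (a : X) = (LinearEquiv.coord F X x hx0 a) * (LinearEquiv.coord F X x hx0 a) * R x := by
        have h5 : (LinearEquiv.coord F X x hx0 a) • x = (a : X) := LinearEquiv.coord_apply_smul F X x hx0 a
        conv_lhs => rw [← h5]
        rw [QuadraticMap.map_smul, smul_eq_mul]
      have h6 : Q (f b : V) = R (b : X) := hfQ b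
      rw [h4, h6, smul_eq_mul]
    have hg' : ∀ y : X, Q (g ((H955.decomp hnX).symm y)) = R y := by
      intro y
      conv_rhs => rw [← (H955.decomp hnX).apply_symm_apply y]
      generalize (H955.decomp hnX).symm y = z
      obtain ⟨a, b⟩ := z
      rw [hg, H955.Q_decomp]
    refine ⟨g ∘ₗ (H955.decomp hnX).symm.toLinearMap, ?_, fun y => hg' y⟩
    -- an isometric map from a nondegenerate space is injective
    rw [injective_iff_map_eq_zero]
    intro y hy
    apply hR
    intro z
    have h7 : ∀ w : X, Q ((g ∘ₗ (H955.decomp hnX).symm.toLinearMap) w) = R w := fun w => hg' w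
    have h8 : polar R y z = polar Q ((g ∘ₗ (H955.decomp hnX).symm.toLinearMap) y)
        ((g ∘ₗ (H955.decomp hnX).symm.toLinearMap) z) := by
      rw [polar, polar, ← map_add, h7, h7, h7]
    rw [h8, hy, polar_zero_left]

end Embed

end Cfsg.Agent.H954.TSing
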